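/-
Hexads of commuting transpositions in a group of type M(22).

Main results (namespace `Cfsg.Agent.ThreeTransSU`):
* `PointModel` : the neighbours of a member as the isotropic points of a unitary six-space;
* `exists_pointModel` : every member of a group of type M(22) has such a model;
* `exists_other_triple` : three commuting members extend to six with product one, and these six are all
  members `p` commuting with the three and with every member commuting with the three.
-/
import Cfsg.Agent.Lib.ThreeTransSU.PSUPoints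
import Cfsg.Agent.Lib.ThreeTrans.MTypes
import Cfsg.Agent.Lib.ThreeTrans.Structure

set_option autoImplicit false

namespace Cfsg.Agent.ThreeTransSU

open Cfsg.Agent.Unitary Cfsg.Agent.U62Cover Cfsg.Agent.ThreeTrans

variable {G : Type*} [Group G] {D : Set G}

/-- The members commuting with `a`, other than `a`, as isotropic points of a unitary six-space. -/
structure PointModel {F : Type*} [Field F] [Fintype F] (D : Set G) (a : G) (pt : (Fin 6 → F) → G) : Prop where
  card : Fintype.card F = 4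
  mem : ∀ v, Iso v → pt v ∈ adj D a
  surj : ∀ y ∈ adj D a, ∃ v, Iso v ∧ pt v = y
  smul : ∀ (v : Fin 6 → F) (c : F), Iso v → c ≠ 0 → pt (c • v) = pt v
  inj : ∀ u v, Iso u → Iso v → pt u = pt v → ∃ c : F, c ≠ 0 ∧ v = c • u
  comm : ∀ u v, Iso u → Iso v → (Commute (pt u) (pt v) ↔ hf u v = 0)
  rel : ∀ L : List (Fin 6 → F), (∀ p ∈ L, Iso p) → (L.map (tv card)).prod = 1 →
    ∀ y ∈ adj D a, Commute y (L.map pt).prod

theorem PointModel.line {F : Type*} [Field F] [Fintype F] {a : G} {pt : (Fin 6 → F) → G}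
    (M : PointModel D a pt) (ω : F) (u w : Fin 6 → F) (hω : ω ^ 2 = ω + 1) (h : OrthPair u w) :
    ∀ y ∈ adj D a, Commute y ((linePts ω u w).map pt).prod :=
  M.rel _ (linePts_iso M.card ω h) (tv_line M.card hω h)

theorem PointModel.conj {F : Type*} [Field F] [Fintype F] {a : G} {pt : (Fin 6 → F) → G}
    (M : PointModel D a pt) (hconj : ∀ g : G, ∀ d ∈ D, g * d * g⁻¹ ∈ D) (g : G) :
    PointModel D (g * a * g⁻¹) (MulAut.conj g ∘ pt) := by
  have hadj := adj_conj_image hconj g a
  refine ⟨M.card, fun v hv => ?_, fun y hy => ?_, fun v c hv hc => ?_, fun u v hu hv h => ?_,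
    fun u v hu hv => ?_, fun L hL h y hy => ?_⟩
  · rw [hadj]; exact ⟨pt v, M.mem v hv, rfl⟩
  · rw [hadj] at hy
    obtain ⟨x, hx, rfl⟩ := hy
    obtain ⟨v, hv, rfl⟩ := M.surj x hx
    exact ⟨v, hv, rfl⟩
  · simp only [Function.comp_apply, M.smul v c hv hc]
  · exact M.inj u v hu hv ((MulAut.conj g).injective h)
  · rw [← M.comm u v hu hv]
    exact ⟨fun h => h.of_map (f := (MulAut.conj g).toMonoidHom) (MulAut.conj g).injective,
      fun h => h.map (MulAut.conj g).toMonoidHom⟩
  · rw [hadj] at hy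
    obtain ⟨x, hx, rfl⟩ := hy
    rw [show (L.map (MulAut.conj g ∘ pt)) = (L.map pt).map (MulAut.conj g) by
      rw [List.map_map], ← map_list_prod]
    exact (M.rel L hL h x hx).map (MulAut.conj g).toMonoidHom

/-- At one member: the model comes with a homomorphism onto PSU(6,2) with central kernel. -/
theorem exists_model_hom [Finite G] (hD : Cfsg.IsThreeTranspositionClass D) (hc : CentralCores G)
    (h22 : Cfsg.IsOfTypeM22 G D) :
    ∃ d ∈ D, ∃ (F : Type) (_ : Field F) (_ : Fintype F) (pt : (Fin 6 → F) → G)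
      (θ : ↥(Loc D d) →* Cfsg.PSU 6 F 2), PointModel D d pt ∧ ∃ hF : Fintype.card F = 4,
      Function.Surjective θ ∧ (∀ x, θ x = 1 → x ∈ Subgroup.center ↥(Loc D d)) ∧
      ∀ v, Iso v → ∀ h : pt v ∈ Loc D d, θ ⟨pt v, h⟩ = toPSU 6 F (tv hF v) := by
  classical
  obtain ⟨-, d, hd, -, -, -, ⟨F, fF, tF, hF, ⟨e⟩⟩, -⟩ := h22
  change ↥(Loc D d) ⧸ Subgroup.center ↥(Loc D d) ≃* Cfsg.PSU 6 F 2 at e
  have hne : (adj D d).Nonempty := by
    have hs : IsSimpleGroup (Cfsg.PSU 6 F 2) :=
      S0283.result (q := 2) (by rw [hF]; norm_num) 6 (by norm_num) (by norm_num)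
    exact adj_nonempty_of_simple_quotient e.isSimpleGroup
  have hL := loc_class hD hc hd hne
  have hL2 := loc_two hD hc hd hne
  let θ : ↥(Loc D d) →* Cfsg.PSU 6 F 2 := e.toMonoidHom.comp (toQ ↥(Loc D d))
  have hQ := class_quotient hL hL2
  have hC : Cfsg.IsThreeTranspositionClass (θ '' locSet D d) := by
    have e1 : θ '' locSet D d = e '' (toQ ↥(Loc D d) '' locSet D d) := by
      rw [Set.image_image]; rfl
    rw [e1]
    obtain ⟨hs, ⟨x, hx, hcl⟩, hgen⟩ := hQ
    refine ⟨⟨?_, ?_⟩, ⟨e x, ⟨x, hx, rfl⟩, ?_⟩, ?_⟩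
    · rintro _ ⟨y, hy, rfl⟩
      rw [MulEquiv.orderOf_eq]; exact hs.1 y hy
    · rintro _ ⟨y, hy, rfl⟩ _ ⟨z, hz, rfl⟩
      exact (hs.2 y hy z hz).imp (fun h => by rw [← map_mul, ← map_pow, h, map_one])
        (fun h => by rw [← map_mul, ← map_pow, h, map_one])
    · ext q
      obtain ⟨q, rfl⟩ := e.surjective q
      show e q ∈ e '' _ ↔ IsConj (e x) (e q)
      rw [e.injective.mem_set_image, hcl]
      refine ⟨fun h => e.toMonoidHom.map_isConj h, fun h => ?_⟩
      have h1 := e.symm.toMonoidHom.map_isConj h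
      simp only [MulEquiv.coe_toMonoidHom, MulEquiv.symm_apply_apply] at h1
      exact h1
    · have h1 := MonoidHom.map_closure e.toMonoidHom (toQ ↥(Loc D d) '' locSet D d)
      rw [hgen, Subgroup.map_top_of_surjective _ e.surjective] at h1
      exact h1.symm
  obtain ⟨k1, k2⟩ := psu_class_eq hF (by norm_num) _ hC
  let pick : (Fin 6 → F) → ↥(Loc D d) := fun v => if h : Iso v then (k2 v h).choose else 1
  have hpick : ∀ v, Iso v → pick v ∈ locSet D d ∧ θ (pick v) = toPSU 6 F (tv hF v) := fun v h => by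
    simp only [pick, dif_pos h]
    exact (k2 v h).choose_spec
  have hθinj : ∀ x ∈ locSet D d, ∀ y ∈ locSet D d, θ x = θ y → x = y := fun x hx y hy h =>
    mk_inj hL hL2 hx hy (e.injective h)
  have hcomm : ∀ u v, Iso u → Iso v → (Commute (pick u) (pick v) ↔ hf u v = 0) := fun u v hu hv => by
    rw [← mk_tv_comm hF (by norm_num) hu hv, ← (hpick u hu).2, ← (hpick v hv).2]
    refine ⟨fun h => h.map θ, fun h => commute_of_commute_mk hL hL2 (hpick u hu).1 (hpick v hv).1 ?_⟩
    exact h.of_map e.injective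
  have M : PointModel D d fun v => (pick v : G) := by
    refine ⟨hF, fun v hv => (hpick v hv).1, fun y hy => ?_, fun v c hv hc => ?_, fun u v hu hv h => ?_,
      fun u v hu hv => ?_, fun L hLI h y hy => ?_⟩
    · obtain ⟨v, hv, e1⟩ := k1 _ ⟨⟨y, Subgroup.subset_closure hy⟩, hy, rfl⟩
      refine ⟨v, hv, congrArg Subtype.val (hθinj (pick v) (hpick v hv).1 ⟨y, Subgroup.subset_closure hy⟩ hy ?_)⟩
      rw [(hpick v hv).2, e1]
    · refine congrArg Subtype.val (hθinj _ (hpick _ (hv.smul hF hc)).1 _ (hpick v hv).1 ?_)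
      rw [(hpick _ (hv.smul hF hc)).2, (hpick v hv).2, tv_smul hF hv hc]
    · refine mk_tv_inj hF (by norm_num) hu hv ?_
      rw [← (hpick u hu).2, ← (hpick v hv).2, Subtype.ext h]
    · rw [← hcomm u v hu hv, commute_coe_iff]
    · have hz : (L.map pick).prod ∈ Subgroup.center ↥(Loc D d) := by
        refine (QuotientGroup.eq_one_iff _).1 (e.injective ?_)
        rw [map_one]
        show θ _ = 1
        rw [map_list_prod, List.map_map]
        rw [show L.map (θ ∘ pick) = L.map (fun p => toPSU 6 F (tv hF p)) from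
            List.map_congr_left fun p hp => (hpick p (hLI p hp)).2]
        rw [show L.map (fun p => toPSU 6 F (tv hF p))
          = (L.map (tv hF)).map (toPSU 6 F) by rw [List.map_map]; rfl,
          ← map_list_prod, h, map_one]
      have h1 := commute_coe_iff.1 (show Commute (⟨y, Subgroup.subset_closure hy⟩ : Loc D d)
        (L.map pick).prod from Subgroup.mem_center_iff.1 hz _)
      rw [Subgroup.val_list_prod, List.map_map] at h1
      exact h1
  exact ⟨d, hd, F, fF, tF, _, θ, M, hF, e.surjective.comp (QuotientGroup.mk'_surjective _),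
    fun x hx => (QuotientGroup.eq_one_iff x).1 (e.injective (by rw [map_one]; exact hx)),
    fun v hv _ => (hpick v hv).2⟩

theorem exists_pointModel [Finite G] (hD : Cfsg.IsThreeTranspositionClass D) (hc : CentralCores G)
    (h22 : Cfsg.IsOfTypeM22 G D) {a : G} (ha : a ∈ D) :
    ∃ (F : Type) (_ : Field F) (_ : Fintype F) (pt : (Fin 6 → F) → G), PointModel D a pt := by
  obtain ⟨d, hd, F, fF, tF, pt, -, M, -⟩ := exists_model_hom hD hc h22
  obtain ⟨g, rfl⟩ := class_conj hD hd ha
  exact ⟨F, fF, tF, _, M.conj (group_of_class hD).2.1 g⟩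

/-- The members commuting with `a, b, c` and with all members commuting with `a, b, c`. -/
def hexSet (D : Set G) (a b c : G) : Set G :=
  {p | p ∈ D ∧ Commute p a ∧ Commute p b ∧ Commute p c ∧
    ∀ y ∈ D, Commute y a → Commute y b → Commute y c → Commute p y}

theorem hexSet_swap (a b c : G) : hexSet D b a c = hexSet D a b c := by
  ext p
  constructor <;> exact fun ⟨h1, h2, h3, h4, h5⟩ =>
    ⟨h1, h3, h2, h4, fun y hy q1 q2 q3 => h5 y hy q2 q1 q3⟩

theorem hexSet_commute {a b c p q : G} (hp : p ∈ hexSet D a b c) (hq : q ∈ hexSet D a b c) : Commute p q :=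
  hp.2.2.2.2 q hq.1 hq.2.1 hq.2.2.1 hq.2.2.2.1

/-- The six members attached to three commuting members, as seen from the first. -/
theorem hexad_local {F : Type*} [Field F] [Fintype F] {a b c : G} {pt : (Fin 6 → F) → G}
    (M : PointModel D a pt) (ha : a ∈ D) (hb : b ∈ adj D a) (hc : c ∈ adj D a) (hbc : b ≠ c)
    (h : Commute b c) :
    ∃ d e f : G, [a, b, c, d, e, f].Nodup ∧ (∀ p, p ∈ [a, b, c, d, e, f] ↔ p ∈ hexSet D a b c) ∧
      ∀ y ∈ adj D a, Commute y [a, b, c, d, e, f].prod := by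
  have hF := M.card
  obtain ⟨ω, -, hω⟩ := exists_omega hF
  obtain ⟨u, hu, rfl⟩ := M.surj b hb
  obtain ⟨w, hw, rfl⟩ := M.surj c hc
  have huw : hf u w = 0 := (M.comm u w hu hw).1 h
  have hP : OrthPair u w := ⟨hu, hw, huw, fun c e => hbc (by
    rw [e, M.smul u c hu fun h0 => hw.1 (by rw [e, h0, zero_smul])])⟩
  have hiso := linePts_iso hF ω hP
  refine ⟨pt (u + w), pt (u + ω • w), pt (u + ω ^ 2 • w), ?_⟩
  have hL : [a, pt u, pt w, pt (u + w), pt (u + ω • w), pt (u + ω ^ 2 • w)]
      = a :: (linePts ω u w).map pt := rfl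
  rw [hL]
  refine ⟨?_, fun p => ?_, fun y hy => ?_⟩
  · have hli := LinearIndependent.pair_iff.1 hP.li
    have key : ∀ p q : Fin 6 → F, ∀ α β α' β' : F, p = α • u + β • w → q = α' • u + β' • w →
        p ∈ linePts ω u w → q ∈ linePts ω u w → α * β' ≠ α' * β → pt p ≠ pt q := by
      intro p q α β α' β' ep eq hp hq hne e1
      obtain ⟨s, -, e2⟩ := M.inj p q (hiso p hp) (hiso q hq) e1
      rw [ep, eq, smul_add, smul_smul, smul_smul] at e2
      obtain ⟨q1, q2⟩ := hli (α' - s * α) (β' - s * β) (by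
        rw [sub_smul, sub_smul, sub_add_sub_comm, e2, sub_self])
      exact hne (by linear_combination α * q2 - β * q1)
    have hω1 : ω ≠ 1 := fun e => by
      rw [e] at hω; exact one_ne_zero (show (1 : F) = 0 by linear_combination -hω)
    have hω0 : ω ≠ 0 := fun e => by
      rw [e] at hω; exact one_ne_zero (show (1 : F) = 0 by linear_combination -hω)
    have hω2 : ω ^ 2 ≠ 1 := fun e => hω0 (by linear_combination e - hω)
    have hω3 : ω ^ 2 ≠ ω := fun e => one_ne_zero (show (1 : F) = 0 by linear_combination e - hω)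
    have m : ∀ i : Fin 5, (linePts ω u w)[i.val]'(by simpa [linePts] using i.2) ∈ linePts ω u w :=
      fun i => List.getElem_mem _
    have eu : u = (1 : F) • u + (0 : F) • w := by simp
    have ew : w = (0 : F) • u + (1 : F) • w := by simp
    have e1 : u + w = (1 : F) • u + (1 : F) • w := by simp
    have e2 : ∀ t : F, u + t • w = (1 : F) • u + t • w := by simp
    have n01 := key _ _ _ _ _ _ eu ew (m 0) (m 1) (by simp)
    have n02 := key _ _ _ _ _ _ eu e1 (m 0) (m 2) (by simp)
    have n03 := key _ _ _ _ _ _ eu (e2 ω) (m 0) (m 3) (by simpa using hω0)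
    have n04 := key _ _ _ _ _ _ eu (e2 (ω ^ 2)) (m 0) (m 4) (by simpa using hω0)
    have n12 := key _ _ _ _ _ _ ew e1 (m 1) (m 2) (by simp)
    have n13 := key _ _ _ _ _ _ ew (e2 ω) (m 1) (m 3) (by simp)
    have n14 := key _ _ _ _ _ _ ew (e2 (ω ^ 2)) (m 1) (m 4) (by simp)
    have n23 := key _ _ _ _ _ _ e1 (e2 ω) (m 2) (m 3) (by simpa using hω1)
    have n24 := key _ _ _ _ _ _ e1 (e2 (ω ^ 2)) (m 2) (m 4) (by simpa using hω2)
    have n34 := key _ _ _ _ _ _ (e2 ω) (e2 (ω ^ 2)) (m 3) (m 4) (by simpa using hω3)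
    refine List.nodup_cons.2 ⟨fun hmem => ?_, ?_⟩
    · obtain ⟨q, hq, e⟩ := List.mem_map.1 hmem
      exact (M.mem q (hiso q hq)).2.1 e
    · simp only [linePts, List.map_cons, List.map_nil, List.nodup_cons, List.mem_cons,
        List.not_mem_nil, or_false, not_or, List.nodup_nil, and_true, not_false_eq_true]
      exact ⟨⟨n01, n02, n03, n04⟩, ⟨n12, n13, n14⟩, ⟨n23, n24⟩, n34⟩
  · have back : ∀ q ∈ linePts ω u w, pt q ∈ hexSet D a (pt u) (pt w) := by
      intro q hq
      have hqI := hiso q hq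
      have hu' : hf u q = 0 := linePts_orth hF ω hP hu.2 huw q hq
      have hw' : hf w q = 0 := linePts_orth hF ω hP ((hf_eq_zero_symm hF).1 huw) hw.2 q hq
      refine ⟨(M.mem q hqI).1, (M.mem q hqI).2.2.symm, ((M.comm u q hu hqI).2 hu').symm,
        ((M.comm w q hw hqI).2 hw').symm, fun y hy ya yu yw => ?_⟩
      by_cases hya : y = a
      · exact hya ▸ (M.mem q hqI).2.2.symm
      obtain ⟨v, hv, rfl⟩ := M.surj y ⟨hy, hya, ya.symm⟩
      exact ((M.comm v q hv hqI).2 (linePts_orth hF ω hP ((M.comm v u hv hu).1 yu)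
        ((M.comm v w hv hw).1 yw) q hq)).symm
    rw [List.mem_cons, List.mem_map]
    constructor
    · rintro (rfl | ⟨q, hq, rfl⟩)
      · exact ⟨ha, Commute.refl _, hb.2.2, hc.2.2, fun y _ hy _ _ => hy.symm⟩
      · exact back q hq
    · rintro ⟨hp, hpa, hpu, hpw, hall⟩
      by_cases hpe : p = a
      · exact Or.inl hpe
      obtain ⟨x, hx, rfl⟩ := M.surj p ⟨hp, hpe, hpa.symm⟩
      obtain ⟨q, hq, s, hs, rfl⟩ := double_perp hF hω hP hx fun y hy hyu hyw =>
        (hf_eq_zero_symm hF).1 ((M.comm x y hx hy).1 (hall _ (M.mem y hy).1 (M.mem y hy).2.2.symm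
          ((M.comm y u hy hu).2 hyu) ((M.comm y w hy hw).2 hyw)))
      exact Or.inr ⟨q, hq, (M.smul q s (hiso q hq) hs).symm⟩
  · rw [List.prod_cons]
    exact hy.2.2.symm.mul_right (M.line ω u w hω hP y hy)

/-- Three commuting members extend to six with product one. -/
theorem exists_other_triple [Finite G] (hD : Cfsg.IsThreeTranspositionClass D) (hcc : CentralCores G)
    (hconn : ConnectedComm D) (h22 : Cfsg.IsOfTypeM22 G D) {a b c : G} (ha : a ∈ D) (hb : b ∈ D)
    (hc : c ∈ D) (hab : a ≠ b) (hac : a ≠ c) (hbc : b ≠ c) (c1 : Commute a b) (c2 : Commute a c)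
    (c3 : Commute b c) :
    ∃ d e f : G, [a, b, c, d, e, f].Nodup ∧ (∀ p, p ∈ [a, b, c, d, e, f] ↔ p ∈ hexSet D a b c) ∧
      a * b * c = d * e * f := by
  have hg := group_of_class hD
  have h2 : ∃ u ∈ D, ∃ v ∈ D, u ≠ v := ⟨a, ha, b, hb, hab⟩
  obtain ⟨F, _, _, pt, M⟩ := exists_pointModel hD hcc h22 ha
  obtain ⟨F', _, _, pt', M'⟩ := exists_pointModel hD hcc h22 hb
  obtain ⟨d, e, f, hnd, hmem, hcen⟩ := hexad_local M ha ⟨hb, hab.symm, c1⟩ ⟨hc, hac.symm, c2⟩ hbc c3
  obtain ⟨d', e', f', hnd', hmem', hcen'⟩ :=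
    hexad_local M' hb ⟨ha, hab, c1.symm⟩ ⟨hc, hbc.symm, c3⟩ hac c2
  set z := [a, b, c, d, e, f].prod with hz
  have hperm : [b, a, c, d', e', f'].prod = z :=
    List.Perm.prod_eq' ((List.perm_ext_iff_of_nodup hnd' hnd).2 fun p => by
      rw [hmem', hmem, hexSet_swap])
      (List.pairwise_of_forall_mem_list fun p hp q hq =>
        hexSet_commute ((hmem' p).1 hp) ((hmem' q).1 hq))
  have hza : Commute a z := Commute.list_prod_right _ _ fun p hp => ((hmem p).1 hp).2.1.symm
  have hzb : Commute b z := Commute.list_prod_right _ _ fun p hp => ((hmem p).1 hp).2.2.1.symm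
  obtain ⟨x, hx, hxb, hxa⟩ : ∃ x ∈ D, Commute b x ∧ ¬ Commute a x := by
    by_contra hcon
    have hsub : {x | x ∈ D ∧ Commute b x} ⊆ {x | x ∈ D ∧ Commute a x} := fun x hx =>
      ⟨hx.1, by by_contra h; exact hcon ⟨x, hx.1, hx.2, h⟩⟩
    have e1 : ∀ y ∈ D, {x | x ∈ D ∧ Commute y x} = insert y (adj D y) := fun y hy => by
      ext x
      exact adj_eq_iff_commute hy
    have heq : {x | x ∈ D ∧ Commute b x} = {x | x ∈ D ∧ Commute a x} := by
      refine Set.eq_of_subset_of_ncard_le hsub ?_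
      rw [e1 a ha, e1 b hb, Set.ncard_insert_of_notMem (fun h => h.2.1 rfl),
        Set.ncard_insert_of_notMem (fun h => h.2.1 rfl), ncard_adj_eq hD ha hb]
    exact hab (vRel_eq hD h2 hcc.1 ha hb fun x hx => by
      have := Set.ext_iff.1 heq x
      simpa [hx] using this)
  let H := Subgroup.centralizer ({z} : Set G)
  have hH : ∀ g, g ∈ H ↔ Commute g z := fun g => Subgroup.mem_centralizer_singleton_iff
  have hxz : Commute x z := by
    by_cases hxb' : x = b
    · exact hxb' ▸ hzb
    · exact hperm ▸ hcen' x ⟨hx, hxb', hxb⟩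
  have htop : H = ⊤ := eq_top_of_contains_local hD h2 hcc hconn ha hx ((hH a).2 hza) ((hH x).2 hxz)
    (fun y hy => (hH y).2 (hcen y hy)) hxa
  have hz1 : z = 1 := by
    have : z ∈ Subgroup.center G := Subgroup.mem_center_iff.2 fun g => (hH g).1 (htop ▸ Subgroup.mem_top g)
    rwa [h22.1, Subgroup.mem_bot] at this
  refine ⟨d, e, f, hnd, hmem, ?_⟩
  have hS : ∀ p ∈ [d, e, f], p ∈ hexSet D a b c := fun p hp =>
    (hmem p).1 (List.mem_cons_of_mem _ (List.mem_cons_of_mem _ (List.mem_cons_of_mem _ hp)))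
  have hd2 := mul_self hg.1 (hS d (by simp)).1
  have he2 := mul_self hg.1 (hS e (by simp)).1
  have hf2 := mul_self hg.1 (hS f (by simp)).1
  have cde := hexSet_commute (hS d (by simp)) (hS e (by simp))
  have cdf := hexSet_commute (hS d (by simp)) (hS f (by simp))
  have cef := hexSet_commute (hS e (by simp)) (hS f (by simp))
  have h1 : a * b * c * (d * e * f) = 1 := by
    rw [← hz1, hz]
    simp only [List.prod_cons, List.prod_nil, mul_one, mul_assoc]
  rw [mul_eq_one_iff_eq_inv.1 h1, mul_inv_rev, mul_inv_rev, inv_eq_of_mul_eq_one_left hd2,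
    inv_eq_of_mul_eq_one_left he2, inv_eq_of_mul_eq_one_left hf2]
  calc f * (e * d) = (e * d) * f := (cef.symm.mul_right cdf.symm).eq
    _ = d * e * f := by rw [cde.eq]

end Cfsg.Agent.ThreeTransSU
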