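/-
Transvections of SU(n,2): centres, commutation, transitivity, existence of dual vectors.

Main results (namespace `Cfsg.Agent.ThreeTransSU`, `hF : Fintype.card F = 4`):
* `Iso v` : v is nonzero and isotropic; `act g x` : the action of SU(n,2) on vectors;
* `act_tv`, `tv_smul`, `tv_inj`, `tv_comm_iff`, `tv_conj_inv` : g tv v g⁻¹ = tv (g v);
* `exists_dual` : prescribed products with an independent family;
* `two_mul_le` : an independent totally isotropic k-family has 2k ≤ n;
* `exists_aniso_perp` : few vectors leave an anisotropic perpendicular vector;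
* `exists_act` : isotropic vectors are conjugate in SU(n,2), n ≥ 3; `exists_act_two` : orthogonal pairs, n ≥ 5.
-/
import Cfsg.Agent.Lib.U62Cover.Decomp
import Cfsg.Agent.Lib.Unitary.Generation

set_option autoImplicit false

namespace Cfsg.Agent.ThreeTransSU

open scoped Matrix
open Cfsg.Agent.Unitary Cfsg.Agent.U62Cover

variable {F : Type*} [Field F] [Fintype F] {n : ℕ}

/-- The hermitian form. -/
abbrev hf (x y : Fin n → F) : F := Cfsg.hermForm n F 2 x y

/-- A nonzero isotropic vector. -/
def Iso (v : Fin n → F) : Prop := v ≠ 0 ∧ hf v v = 0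

/-- The action of SU(n,2) on vectors. -/
abbrev act (g : Cfsg.SU n F 2) (x : Fin n → F) : Fin n → F := suAct g x

/-! ### The field and the form -/

theorem herm (hF : Fintype.card F = 4) : IsHerm 2 (Cfsg.hermForm n F 2) := hermForm_isHerm (card_sq hF) n

theorem vadd_self (hF : Fintype.card F = 4) (x : Fin n → F) : x + x = 0 :=
  funext fun i => add_self hF (x i)

theorem vadd_cancel (hF : Fintype.card F = 4) (x y : Fin n → F) : x + y + y = x := by
  rw [add_assoc, vadd_self hF, add_zero]

theorem mul_sq_self (hF : Fintype.card F = 4) {c : F} (hc : c ≠ 0) : c * c ^ 2 = 1 := by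
  rw [← pow_succ', pow_three hF hc]

theorem eq_iff_add_eq_zero (hF : Fintype.card F = 4) {a b : F} : a = b ↔ a + b = 0 := by
  constructor
  · rintro rfl; exact add_self hF a
  · intro h; linear_combination h - b * two_eq_zero hF

theorem hf_add_left (hF : Fintype.card F = 4) (x y z : Fin n → F) : hf (x + y) z = hf x z + hf y z :=
  (herm hF).add_left x y z

theorem hf_add_right (hF : Fintype.card F = 4) (x y z : Fin n → F) : hf x (y + z) = hf x y + hf x z :=
  (herm hF).add_right (card_sq hF) x y z

theorem hf_smul_left (hF : Fintype.card F = 4) (c : F) (x y : Fin n → F) : hf (c • x) y = c * hf x y :=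
  (herm hF).smul_left c x y

theorem hf_smul_right (hF : Fintype.card F = 4) (c : F) (x y : Fin n → F) :
    hf x (c • y) = c ^ 2 * hf x y :=
  (herm hF).smul_right c x y

theorem hf_symm (hF : Fintype.card F = 4) (x y : Fin n → F) : hf y x = hf x y ^ 2 :=
  (herm hF).conj_symm x y

theorem hf_eq_zero_symm (hF : Fintype.card F = 4) {x y : Fin n → F} : hf x y = 0 ↔ hf y x = 0 :=
  (herm hF).eq_zero_symm (card_sq hF)

theorem hf_zero_left (hF : Fintype.card F = 4) (y : Fin n → F) : hf 0 y = 0 := (herm hF).zero_left y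

theorem hf_zero_right (hF : Fintype.card F = 4) (y : Fin n → F) : hf y 0 = 0 :=
  (herm hF).zero_right (card_sq hF) y

theorem hf_eq_one_symm (hF : Fintype.card F = 4) {x y : Fin n → F} (h : hf x y = 1) : hf y x = 1 := by
  rw [hf_symm hF x y, h, one_pow]

/-- A vector has trace one with some multiple. -/
theorem exists_trace (hF : Fintype.card F = 4) {a : F} (ha : a ^ 2 = a) : ∃ t : F, t + t ^ 2 = a :=
  exists_trace_eq (card_sq hF) ha

theorem exists_hf_one (hF : Fintype.card F = 4) {v : Fin n → F} (hv : v ≠ 0) : ∃ x, hf x v = 1 := by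
  obtain ⟨y, hy⟩ : ∃ y, hf v y ≠ 0 := by
    by_contra hc
    simp only [not_exists, not_not] at hc
    exact hv (hermForm_nondeg (card_sq hF) n v hc)
  have hy' : hf y v ≠ 0 := fun h => hy ((hf_eq_zero_symm hF).1 h)
  exact ⟨(hf y v)⁻¹ • y, by rw [hf_smul_left hF, inv_mul_cancel₀ hy']⟩

/-! ### The action -/

theorem act_mul (g h : Cfsg.SU n F 2) (x : Fin n → F) : act (g * h) x = act g (act h x) := suAct_mul g h x

theorem act_one (x : Fin n → F) : act (1 : Cfsg.SU n F 2) x = x := suAct_one x

theorem act_add (g : Cfsg.SU n F 2) (x y : Fin n → F) : act g (x + y) = act g x + act g y := suAct_add g x y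

theorem act_smul (g : Cfsg.SU n F 2) (c : F) (x : Fin n → F) : act g (c • x) = c • act g x :=
  suAct_smul g c x

theorem act_zero (g : Cfsg.SU n F 2) : act g 0 = 0 := suAct_zero g

theorem act_hf (g : Cfsg.SU n F 2) (x y : Fin n → F) : hf (act g x) (act g y) = hf x y := suAct_herm g x y

theorem act_inv_act (g : Cfsg.SU n F 2) (x : Fin n → F) : act g⁻¹ (act g x) = x := suAct_inv_suAct g x

theorem act_act_inv (g : Cfsg.SU n F 2) (x : Fin n → F) : act g (act g⁻¹ x) = x := suAct_suAct_inv g x

theorem act_eq_iff (g : Cfsg.SU n F 2) {x y : Fin n → F} : act g x = act g y ↔ x = y :=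
  ⟨fun h => by rw [← act_inv_act g x, h, act_inv_act], fun h => by rw [h]⟩

theorem act_ext {g h : Cfsg.SU n F 2} (H : ∀ x, act g x = act h x) : g = h := suAct_ext H

theorem Iso.act {v : Fin n → F} (hv : Iso v) (g : Cfsg.SU n F 2) : Iso (act g v) :=
  ⟨fun h => hv.1 ((act_eq_iff g).1 (h.trans (act_zero g).symm)), by rw [act_hf]; exact hv.2⟩

theorem Iso.smul (hF : Fintype.card F = 4) {v : Fin n → F} (hv : Iso v) {c : F} (hc : c ≠ 0) :
    Iso (c • v) :=
  ⟨smul_ne_zero hc hv.1, by rw [hf_smul_left hF, hf_smul_right hF, hv.2]; simp⟩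

/-! ### Transvections -/

theorem act_tv (hF : Fintype.card F = 4) {v : Fin n → F} (hv : hf v v = 0) (x : Fin n → F) :
    act (tv hF v) x = x + hf x v • v := tv_mulVec hF hv x

theorem act_tv_of_orth (hF : Fintype.card F = 4) {v x : Fin n → F} (hv : hf v v = 0) (h : hf x v = 0) :
    act (tv hF v) x = x := by rw [act_tv hF hv, h, zero_smul, add_zero]

theorem act_tv_self (hF : Fintype.card F = 4) {v : Fin n → F} (hv : hf v v = 0) :
    act (tv hF v) v = v := act_tv_of_orth hF hv hv

theorem tv_smul (hF : Fintype.card F = 4) {v : Fin n → F} (hv : Iso v) {c : F} (hc : c ≠ 0) :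
    tv hF (c • v) = tv hF v :=
  act_ext fun x => by
    rw [act_tv hF (hv.smul hF hc).2, act_tv hF hv.2, hf_smul_right hF, smul_smul]
    congr 2
    linear_combination hf x v * mul_sq_self hF hc

theorem tv_inj (hF : Fintype.card F = 4) {u v : Fin n → F} (hu : Iso u) (hv : Iso v)
    (h : tv hF u = tv hF v) : ∃ c : F, c ≠ 0 ∧ v = c • u := by
  obtain ⟨x, hx⟩ := exists_hf_one hF hv.1
  have h1 := congrArg (fun g => act g x) h
  simp only [act_tv hF hu.2, act_tv hF hv.2, hx, one_smul, add_right_inj] at h1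
  exact ⟨hf x u, fun hc => hv.1 (by rw [← h1, hc, zero_smul]), h1.symm⟩

theorem tv_ne_one (hF : Fintype.card F = 4) {v : Fin n → F} (hv : Iso v) : tv hF v ≠ 1 := by
  intro h
  obtain ⟨x, hx⟩ := exists_hf_one hF hv.1
  have h1 : act (tv hF v) x = act 1 x := by rw [h]
  rw [act_tv hF hv.2, hx, one_smul, act_one] at h1
  exact hv.1 (add_eq_left.1 h1)

theorem tv_conj_inv (hF : Fintype.card F = 4) (g : Cfsg.SU n F 2) {v : Fin n → F} (hv : hf v v = 0) :
    g * tv hF v * g⁻¹ = tv hF (act g v) := by
  rw [tv_conj hF g hv, mul_assoc, mul_inv_cancel, mul_one]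
  rfl

theorem tv_inv (hF : Fintype.card F = 4) {v : Fin n → F} (hv : hf v v = 0) : (tv hF v)⁻¹ = tv hF v :=
  inv_eq_of_mul_eq_one_left (tv_sq hF hv)

theorem tv_comm_iff (hF : Fintype.card F = 4) {u v : Fin n → F} (hu : Iso u) (hv : Iso v) :
    Commute (tv hF u) (tv hF v) ↔ hf v u = 0 := by
  refine ⟨fun h => ?_, fun h => tv_comm hF hu.2 hv.2 h⟩
  have h1 : tv hF (act (tv hF u) v) = tv hF v := by
    rw [← tv_conj_inv hF _ hv.2, h.eq, mul_assoc, mul_inv_cancel, mul_one]
  obtain ⟨c, -, hc⟩ := tv_inj hF (hv.act _) hv h1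
  by_contra hne
  have h2 := congrArg (fun x => hf x u) hc
  simp only [act_tv hF hu.2, hf_smul_left hF, hf_add_left hF, hu.2, mul_zero, add_zero] at h2
  have hc1 : c = 1 := mul_right_cancel₀ hne (by rw [one_mul, ← h2])
  rw [hc1, one_smul, act_tv hF hu.2] at hc
  exact hu.1 ((smul_eq_zero.1 (left_eq_add.1 hc)).resolve_left hne)

/-! ### Dual vectors and dimensions -/

theorem exists_dual (hF : Fintype.card F = 4) {k : ℕ} {u : Fin k → (Fin n → F)}
    (hu : LinearIndependent F u) (a : Fin k → F) : ∃ x, ∀ i, hf x (u i) = a i := by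
  classical
  let L : (Fin n → F) →ₗ[F] (Fin k → F) :=
    { toFun := fun x i => hf x (u i)
      map_add' := fun x y => funext fun i => hf_add_left hF x y (u i)
      map_smul' := fun c x => funext fun i => hf_smul_left hF c x (u i) }
  suffices h : LinearMap.range L = ⊤ by
    obtain ⟨x, hx⟩ := LinearMap.range_eq_top.1 h a
    exact ⟨x, fun i => congrFun hx i⟩
  by_contra hne
  obtain ⟨φ, hφ0, hφ⟩ := Submodule.exists_dual_map_eq_bot_of_lt_top (lt_top_iff_ne_top.2 hne) inferInstance
  have hφL : ∀ x, φ (L x) = 0 := fun x => by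
    have : φ (L x) ∈ (LinearMap.range L).map φ := Submodule.mem_map_of_mem (LinearMap.mem_range_self L x)
    rw [hφ] at this
    exact (Submodule.mem_bot F).1 this
  set c : Fin k → F := fun i => φ (Pi.single i 1) with hc
  have hsum : ∀ y : Fin k → F, φ y = ∑ i, y i * c i := fun y => by
    conv_lhs => rw [← Finset.univ_sum_single y]
    rw [map_sum]
    refine Finset.sum_congr rfl fun i _ => ?_
    rw [show Pi.single i (y i) = y i • (Pi.single i 1 : Fin k → F) from by
      rw [← Pi.single_smul', smul_eq_mul, mul_one], map_smul, smul_eq_mul]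
  have hz : ∀ x, hf x (∑ i, (c i ^ 2) • u i) = 0 := fun x => by
    show Cfsg.hermForm n F 2 x (∑ i, (c i ^ 2) • u i) = 0
    rw [(herm hF).sum_right (card_sq hF), ← hφL x, hsum]
    refine Finset.sum_congr rfl fun i _ => ?_
    rw [(herm hF).smul_right, pow_q_pow_q (card_sq hF)]
    exact mul_comm _ _
  have h0 : (∑ i, (c i ^ 2) • u i) = 0 :=
    hermForm_nondeg (card_sq hF) n _ fun y => (hf_eq_zero_symm hF).1 (hz y)
  have hc0 := Fintype.linearIndependent_iff.1 hu _ h0
  refine hφ0 (LinearMap.ext fun y => ?_)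
  rw [hsum, LinearMap.zero_apply]
  exact Finset.sum_eq_zero fun i _ => by rw [(pow_eq_zero_iff two_ne_zero).1 (hc0 i), mul_zero]

/-- The vectors orthogonal to a family. -/
def perp (hF : Fintype.card F = 4) {k : ℕ} (u : Fin k → (Fin n → F)) : Submodule F (Fin n → F) :=
  LinearMap.ker
    ({ toFun := fun x i => hf x (u i)
       map_add' := fun x y => funext fun i => hf_add_left hF x y (u i)
       map_smul' := fun c x => funext fun i => hf_smul_left hF c x (u i) } :
      (Fin n → F) →ₗ[F] (Fin k → F))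

theorem mem_perp (hF : Fintype.card F = 4) {k : ℕ} {u : Fin k → (Fin n → F)} {x : Fin n → F} :
    x ∈ perp hF u ↔ ∀ i, hf x (u i) = 0 :=
  LinearMap.mem_ker.trans ⟨fun h i => congrFun h i, fun h => funext h⟩

theorem le_finrank_perp (hF : Fintype.card F = 4) {k : ℕ} (u : Fin k → (Fin n → F)) :
    n ≤ Module.finrank F (perp hF u) + k := by
  let L : (Fin n → F) →ₗ[F] (Fin k → F) :=
    { toFun := fun x i => hf x (u i)
      map_add' := fun x y => funext fun i => hf_add_left hF x y (u i)
      map_smul' := fun c x => funext fun i => hf_smul_left hF c x (u i) }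
  have h1 := L.finrank_range_add_finrank_ker
  have h2 := Submodule.finrank_le (LinearMap.range L)
  rw [Module.finrank_fin_fun] at h1 h2
  show n ≤ Module.finrank F (LinearMap.ker L) + k
  omega

theorem finrank_perp (hF : Fintype.card F = 4) {k : ℕ} {u : Fin k → (Fin n → F)}
    (hu : LinearIndependent F u) : Module.finrank F (perp hF u) + k = n := by
  let L : (Fin n → F) →ₗ[F] (Fin k → F) :=
    { toFun := fun x i => hf x (u i)
      map_add' := fun x y => funext fun i => hf_add_left hF x y (u i)
      map_smul' := fun c x => funext fun i => hf_smul_left hF c x (u i) }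
  have h1 := L.finrank_range_add_finrank_ker
  have h2 : LinearMap.range L = ⊤ := LinearMap.range_eq_top.2 fun a => by
    obtain ⟨x, hx⟩ := exists_dual hF hu a
    exact ⟨x, funext hx⟩
  rw [h2, finrank_top, Module.finrank_fin_fun, Module.finrank_fin_fun] at h1
  show Module.finrank F (LinearMap.ker L) + k = n
  omega

/-- A totally isotropic subspace has at most half the dimension. -/
theorem two_mul_le (hF : Fintype.card F = 4) {k : ℕ} {u : Fin k → (Fin n → F)}
    (hu : LinearIndependent F u) (h : ∀ i j, hf (u i) (u j) = 0) : 2 * k ≤ n := by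
  have hle : Submodule.span F (Set.range u) ≤ perp hF u := Submodule.span_le.2 (by
    rintro _ ⟨i, rfl⟩
    exact (mem_perp hF).2 (h i))
  have h1 := Submodule.finrank_mono hle
  rw [finrank_span_eq_card hu, Fintype.card_fin] at h1
  have := finrank_perp hF hu
  omega

/-- Fewer than half the dimension many vectors leave a norm-one perpendicular vector. -/
theorem exists_aniso_perp (hF : Fintype.card F = 4) {k : ℕ} (u : Fin k → (Fin n → F)) (hk : 2 * k < n) :
    ∃ e, hf e e = 1 ∧ ∀ i, hf e (u i) = 0 := by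
  by_contra hc
  have hiso : ∀ x : perp hF u, hf (x : Fin n → F) x = 0 := fun x => by
    by_contra hx
    exact hc ⟨x, fixed_eq_one hF ((herm hF).self_fixed _) hx, (mem_perp hF).1 x.2⟩
  have hz : ∀ x y : perp hF u, hf (x : Fin n → F) y = 0 :=
    ((herm hF).comap (perp hF u).subtype).eq_zero_of_isotropic (card_sq hF) hiso
  let b := Module.finBasis F (perp hF u)
  have hli : LinearIndependent F fun i => (b i : Fin n → F) :=
    b.linearIndependent.map' _ (perp hF u).ker_subtype
  have := two_mul_le hF hli fun i j => hz (b i) (b j)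
  have := le_finrank_perp hF u
  omega

/-! ### Transitivity -/

theorem exists_act_family (hF : Fintype.card F = 4) {k : ℕ} {u w : Fin k → (Fin n → F)}
    (hu : LinearIndependent F u) (hw : LinearIndependent F w)
    (hgram : ∀ i j, hf (w i) (w j) = hf (u i) (u j)) (hk : 2 * k < n) :
    ∃ g : Cfsg.SU n F 2, ∀ i, act g (u i) = w i := by
  obtain ⟨e, he, hew⟩ := exists_aniso_perp hF w hk
  exact exists_su_witt (card_sq hF) hu hw hgram he fun i => (hf_eq_zero_symm hF).1 (hew i)

theorem exists_act (hF : Fintype.card F = 4) (hn : 3 ≤ n) {u v : Fin n → F} (hu : Iso u) (hv : Iso v) :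
    ∃ g : Cfsg.SU n F 2, act g u = v := by
  obtain ⟨g, hg⟩ := exists_act_family hF (k := 1) (u := ![u]) (w := ![v])
    (LinearIndependent.of_subsingleton 0 hu.1) (LinearIndependent.of_subsingleton 0 hv.1)
    (fun i j => by simp [Fin.fin_one_eq_zero i, Fin.fin_one_eq_zero j, hu.2, hv.2]) (by omega)
  exact ⟨g, hg 0⟩

/-- `u` and `w` are independent orthogonal isotropic vectors. -/
def OrthPair (u w : Fin n → F) : Prop := Iso u ∧ Iso w ∧ hf u w = 0 ∧ ∀ c : F, w ≠ c • u

theorem OrthPair.li {u w : Fin n → F} (h : OrthPair u w) : LinearIndependent F ![u, w] :=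
  (LinearIndependent.pair_iff' h.1.1).2 fun c e => h.2.2.2 c e.symm

theorem exists_act_two (hF : Fintype.card F = 4) (hn : 5 ≤ n) {u w u' w' : Fin n → F}
    (h : OrthPair u w) (h' : OrthPair u' w') :
    ∃ g : Cfsg.SU n F 2, act g u = u' ∧ act g w = w' := by
  obtain ⟨g, hg⟩ := exists_act_family hF h.li h'.li (fun i j => by
    fin_cases i <;> fin_cases j <;>
      simp [h.1.2, h.2.1.2, h'.1.2, h'.2.1.2, h.2.2.1, h'.2.2.1, (hf_eq_zero_symm hF).1 h.2.2.1,
        (hf_eq_zero_symm hF).1 h'.2.2.1]) (by omega)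
  exact ⟨g, hg 0, hg 1⟩

end Cfsg.Agent.ThreeTransSU
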