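/-
The class of 3-transpositions of SU(n,2), and generation by transvections.

Main results (namespace `Cfsg.Agent.ThreeTransSU`, `hF : Fintype.card F = 4`):
* `exists_indep` : an involution is a product of transvections with independent orthogonal centres;
* `class_eq'` (`n ≥ 3`; `class_eq` for odd `n ≥ 5`) : a conjugation invariant set of nontrivial involutions with products of
  order ≤ 3 is, if nonempty, the set of all transvections;
* `closure_tv` : the transvections generate (n ≥ 4);
* `closure_perp` : for n ≥ 5 and two non-orthogonal centres x, y, so do those with centre orthogonal to x or y.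
-/
import Cfsg.Agent.Lib.ThreeTransSU.Transv

set_option autoImplicit false

namespace Cfsg.Agent.ThreeTransSU

open scoped Matrix
open Cfsg.Agent.Unitary Cfsg.Agent.U62Cover

variable {F : Type*} [Field F] [Fintype F] {n : ℕ}

/-! ### Involutions -/

theorem peel (hF : Fintype.card F = 4) (y : Cfsg.SU n F 2) (hy : y * y = 1) (hne : y ≠ 1) :
    ∃ (w x : Fin n → F) (y' : Cfsg.SU n F 2), Iso w ∧ y = y' * tv hF w ∧ y' * y' = 1 ∧
      act y' x = x ∧ hf x w = 1 ∧ (∀ z, act y z = z → act y' z = z) ∧ act y x ≠ x ∧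
      (∀ z v, act y' z = z + v → ∃ z', act y z' = z' + v) ∧ act y x = x + w := by
  have hyy : ∀ x, act y (act y x) = x := fun x => by rw [← act_mul, hy, act_one]
  have hadj : ∀ x z, hf (act y x) z = hf x (act y z) := fun x z => by
    conv_lhs => rw [← hyy z]
    exact act_hf y x (act y z)
  let φ : (Fin n → F) → (Fin n → F) → F := fun x z => hf (act y x + x) z
  have hφ : IsHerm 2 φ := by
    refine ⟨fun a b z => ?_, fun c a z => ?_, fun a b => ?_⟩
    · simp only [φ, act_add, hf_add_left hF]; ring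
    · simp only [φ, act_smul, hf_add_left hF, hf_smul_left hF]; ring
    · simp only [φ, hf_add_left hF]
      rw [hadj b a, add_pow_q (card_sq hF), ← hf_symm hF, ← hf_symm hF]
  obtain ⟨x, hx⟩ : ∃ x, φ x x ≠ 0 := by
    by_contra hc
    simp only [ne_eq, not_exists, not_not] at hc
    refine hne (act_ext fun x => ?_)
    rw [act_one]
    have h0 : act y x + x = 0 :=
      hermForm_nondeg (card_sq hF) n _ fun z => hφ.eq_zero_of_isotropic (card_sq hF) hc x z
    exact funext fun i => (eq_iff_add_eq_zero hF).2 (congrFun h0 i)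
  have hx1 : φ x x = 1 := fixed_eq_one hF (hφ.self_fixed x) hx
  obtain ⟨w, hw⟩ : ∃ w, w = act y x + x := ⟨_, rfl⟩
  have hyx : act y x = x + w := by rw [hw, ← add_assoc, add_comm x, vadd_cancel hF]
  have hyw : act y w = w := by rw [hw, act_add, hyy, add_comm]
  have hw0 : hf w w = 0 := by
    nth_rewrite 1 [hw]
    rw [hf_add_left hF, hadj, hyw, add_self hF]
  have hxw : hf x w = 1 := by
    refine hf_eq_one_symm hF ?_
    rw [hw]; exact hx1
  have hwI : Iso w := ⟨fun h => by rw [h, hf_zero_right hF] at hxw; exact zero_ne_one hxw, hw0⟩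
  have hcomm : y * tv hF w = tv hF w * y := by
    rw [tv_conj hF y hw0]
    show tv hF (act y w) * y = _
    rw [hyw]
  have hy' : ∀ z, act (y * tv hF w) z = act y z + hf z w • w := fun z => by
    rw [act_mul, act_tv hF hw0, act_add, act_smul, hyw]
  have hfix : ∀ z, act y z = z → hf z w = 0 := fun z hz => by
    rw [hw, hf_add_right hF, ← hadj, hz, add_self hF]
  refine ⟨w, x, y * tv hF w, hwI, ?_, ?_, ?_, hxw, fun z hz => ?_, fun h => ?_, fun z v hz => ?_, hyx⟩
  · rw [mul_assoc, tv_sq hF hw0, mul_one]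
  · calc y * tv hF w * (y * tv hF w) = tv hF w * (y * y) * tv hF w := by
          rw [hcomm]; simp only [mul_assoc, hcomm]
      _ = 1 := by rw [hy, mul_one, tv_sq hF hw0]
  · rw [hy', hyx, hxw, one_smul, vadd_cancel hF]
  · rw [hy', hz, hfix z hz, zero_smul, add_zero]
  · rw [hyx] at h
    exact hwI.1 (add_eq_left.1 h)
  · refine ⟨z + hf z w • x, ?_⟩
    rw [hy'] at hz
    rw [act_add, act_smul, hyx, smul_add]
    rw [show act y z = z + v + hf z w • w by rw [← hz, vadd_cancel hF]]
    calc z + v + hf z w • w + (hf z w • x + hf z w • w)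
        = z + hf z w • x + v + (hf z w • w + hf z w • w) := by abel
      _ = z + hf z w • x + v := by rw [vadd_self hF, add_zero]

theorem exists_indep_aux (hF : Fintype.card F = 4) (k : ℕ) : ∀ y : Cfsg.SU n F 2, y * y = 1 →
    Nat.card F ^ n ≤ Nat.card {x : Fin n → F // act y x = x} + k →
    ∃ (m : ℕ) (u : Fin m → (Fin n → F)), LinearIndependent F u ∧ (∀ i, ∃ z, act y z = z + u i) ∧
      (∀ i, hf (u i) (u i) = 0) ∧ y = (List.ofFn fun i => tv hF (u i)).prod := by
  induction k with
  | zero =>
    intro y _ hcard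
    refine ⟨0, Fin.elim0, linearIndependent_empty_type, fun i => i.elim0, fun i => i.elim0, ?_⟩
    rw [List.ofFn_zero, List.prod_nil]
    refine act_ext fun x => ?_
    have hall : Function.Surjective (fun z : {x : Fin n → F // act y x = x} => (z : Fin n → F)) := by
      refine ((Function.Injective.bijective_of_nat_card_le Subtype.val_injective) ?_).2
      rw [Nat.card_fun, Nat.card_fin]
      simpa using hcard
    obtain ⟨z, rfl⟩ := hall x
    rw [act_one]; exact z.2
  | succ k ih =>
    intro y hy hcard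
    by_cases hy1 : y = 1
    · refine ⟨0, Fin.elim0, linearIndependent_empty_type, fun i => i.elim0, fun i => i.elim0, ?_⟩
      rw [List.ofFn_zero, List.prod_nil, hy1]
    obtain ⟨w, x, y', hwI, hyy', hy'2, hy'x, hxw, hmono, hyx, hrange, hyxw⟩ := peel hF y hy hy1
    have hlt : Nat.card {z : Fin n → F // act y z = z} < Nat.card {z : Fin n → F // act y' z = z} :=
      Set.ncard_lt_ncard (s := {z | act y z = z}) (t := {z | act y' z = z})
        ⟨fun z hz => hmono z hz, fun hc => hyx (hc (show x ∈ {z | act y' z = z} from hy'x))⟩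
    obtain ⟨m, u, hli, hu, hiso, hprod⟩ := ih y' hy'2 (by omega)
    have hux : ∀ i, hf (u i) x = 0 := fun i => by
      obtain ⟨z, hz⟩ := hu i
      rw [show u i = act y' z + z by rw [hz, add_comm z, vadd_cancel hF], hf_add_left hF]
      conv_lhs => arg 1; rw [← hy'x, act_hf]
      exact add_self hF _
    refine ⟨m + 1, Fin.snoc u w, linearIndependent_fin_snoc.2 ⟨hli, fun hmem => ?_⟩, fun i => ?_,
      fun i => ?_, ?_⟩
    · have hle : Submodule.span F (Set.range u) ≤ perp hF ![x] := Submodule.span_le.2 (by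
        rintro _ ⟨i, rfl⟩
        exact (mem_perp hF).2 fun j => by simpa [Fin.fin_one_eq_zero j] using hux i)
      have h0 := (mem_perp hF).1 (hle hmem) 0
      have h1 := hf_eq_one_symm hF hxw
      simp only [Matrix.cons_val_zero] at h0
      exact one_ne_zero (h1.symm.trans h0)
    · induction i using Fin.lastCases with
      | last => exact ⟨x, by simpa using hyxw⟩
      | cast i =>
        obtain ⟨z, hz⟩ := hu i
        simpa using hrange z _ hz
    · induction i using Fin.lastCases with
      | last => simpa using hwI.2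
      | cast i => simpa using hiso i
    · rw [List.ofFn_succ', List.concat_eq_append, List.prod_append]
      simp only [Fin.snoc_castSucc, Fin.snoc_last, List.prod_cons, List.prod_nil, mul_one]
      rw [← hprod, ← hyy']

/-- An involution is a product of transvections with independent pairwise orthogonal isotropic centres. -/
theorem exists_indep (hF : Fintype.card F = 4) (y : Cfsg.SU n F 2) (hy : y * y = 1) :
    ∃ (m : ℕ) (u : Fin m → (Fin n → F)), LinearIndependent F u ∧ (∀ i j, hf (u i) (u j) = 0) ∧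
      y = (List.ofFn fun i => tv hF (u i)).prod := by
  obtain ⟨m, u, hli, hu, -, hprod⟩ := exists_indep_aux hF (Nat.card F ^ n) y hy (Nat.le_add_left _ _)
  refine ⟨m, u, hli, fun i j => ?_, hprod⟩
  obtain ⟨a, ha⟩ := hu i
  obtain ⟨b, hb⟩ := hu j
  have h1 : hf (act y a) b = hf a (act y b) := by
    conv_lhs => rw [← act_one (F := F) b, ← hy, act_mul]
    exact act_hf y a (act y b)
  have h2 := act_hf y a b
  rw [ha, hb] at h1 h2
  simp only [hf_add_left hF, hf_add_right hF] at h1 h2
  linear_combination h2 - h1 + (-hf a (u j)) * two_eq_zero hF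

theorem list_prod_comm (hF : Fintype.card F = 4) {L : List (Fin n → F)} {a : Fin n → F}
    (ha : hf a a = 0) (hL : ∀ v ∈ L, hf v v = 0 ∧ hf v a = 0) :
    Commute (tv hF a) (L.map (tv hF)).prod :=
  Commute.list_prod_right _ _ fun x hx => by
    obtain ⟨v, hv, rfl⟩ := List.mem_map.1 hx
    exact tv_comm hF ha (hL v hv).1 (hL v hv).2

theorem act_list_prod (g : Cfsg.SU n F 2) (hF : Fintype.card F = 4) (L : List (Fin n → F))
    (hL : ∀ v ∈ L, hf v v = 0) :
    g * (L.map (tv hF)).prod * g⁻¹ = ((L.map (act g)).map (tv hF)).prod := by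
  induction L with
  | nil => simp
  | cons v L ih =>
    simp only [List.map_cons, List.prod_cons]
    rw [← ih (fun w hw => hL w (List.mem_cons_of_mem _ hw)),
      ← tv_conj_inv hF g (hL v List.mem_cons_self)]
    group

/-- A product of at least two transvections has a conjugate with product of order four. -/
theorem exists_bad_conj (hF : Fintype.card F = 4) {m : ℕ}
    {u : Fin (m + 2) → (Fin n → F)} (hli : LinearIndependent F u)
    (horth : ∀ i j, hf (u i) (u j) = 0) :
    ∃ g : Cfsg.SU n F 2, ∀ y, y = (List.ofFn fun i => tv hF (u i)).prod →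
      (y * (g * y * g⁻¹)) ^ 2 ≠ 1 ∧ (y * (g * y * g⁻¹)) ^ 3 ≠ 1 := by
  set a := u 0 with ha
  set b := u 1 with hb
  obtain ⟨p, hp⟩ := exists_dual hF hli fun i => if i = 0 ∨ i = 1 then 1 else 0
  obtain ⟨t, ht⟩ := exists_trace hF ((herm hF).self_fixed p)
  set p' := p + t • a with hp'
  have hp'u : ∀ i, hf p' (u i) = if i = 0 ∨ i = 1 then 1 else 0 := fun i => by
    rw [hp', hf_add_left hF, hf_smul_left hF, ha, horth 0 i, mul_zero, add_zero, hp i]
  have hp'a : hf p' a = 1 := by rw [ha, hp'u]; simp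
  have hp'b : hf p' b = 1 := by rw [hb, hp'u]; simp
  have hp'0 : hf p' p' = 0 := by
    rw [hp', hf_add_left hF, hf_add_right hF, hf_smul_right hF, hf_smul_left hF, hf_add_right hF,
      hf_smul_right hF]
    have hap : hf a p = 1 := hf_eq_one_symm hF (by rw [ha, hp]; simp)
    have hpa : hf p a = 1 := by rw [ha, hp]; simp
    rw [hap, hpa, ha, horth 0 0]
    have ht' : t + t ^ 2 = hf p p := ht
    linear_combination (hf p p) * two_eq_zero hF + ht'
  have hz : ∀ i : Fin m, (if i.succ.succ = (0 : Fin (m + 2)) ∨ i.succ.succ = 1 then (1 : F) else 0) = 0 :=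
    fun i => if_neg (by simp [Fin.ext_iff])
  have hsum0 : hf p' (a + b) = 0 := by rw [hf_add_right hF, hp'a, hp'b, add_self hF]
  clear hp'
  clear_value p'
  have hbp' : hf b p' = 1 := hf_eq_one_symm hF hp'b
  obtain ⟨q₀, hq₀⟩ := exists_dual hF hli fun i => if i = 0 then 1 else 0
  obtain ⟨s, hs⟩ := exists_trace hF ((herm hF).self_fixed q₀)
  set q := q₀ + s • a with hq
  have hqu : ∀ i, hf q (u i) = if i = 0 then 1 else 0 := fun i => by
    rw [hq, hf_add_left hF, hf_smul_left hF, ha, horth 0 i, mul_zero, add_zero, hq₀ i]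
  have hqa : hf q a = 1 := by rw [ha, hqu]; simp
  have hqb : hf q b = 0 := by rw [hb, hqu]; simp
  have hbq : hf b q = 0 := (hf_eq_zero_symm hF).1 hqb
  have haq : hf a q = 1 := hf_eq_one_symm hF hqa
  have hqq : hf q q = 0 := by
    rw [hq, hf_add_left hF, hf_add_right hF, hf_smul_right hF, hf_smul_left hF, hf_add_right hF,
      hf_smul_right hF]
    have hqa₀ : hf q₀ a = 1 := by rw [ha, hq₀]; simp
    rw [hf_eq_one_symm hF hqa₀, hqa₀, ha, horth 0 0]
    have hs' : s + s ^ 2 = hf q₀ q₀ := hs
    linear_combination (hf q₀ q₀) * two_eq_zero hF + hs'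
  clear hq
  clear_value q
  have hbb : hf b b = 0 := horth _ _
  have hab : hf a b = 0 := horth _ _
  have hbqI : hf (b + q) (b + q) = 0 := by
    rw [hf_add_left hF, hf_add_right hF, hf_add_right hF, hbb, hbq, hqb, hqq]; simp
  have hpbI : hf (p' + b) (p' + b) = 0 := by
    rw [hf_add_left hF, hf_add_right hF, hf_add_right hF, hp'0, hp'b, hbp', hbb]
    linear_combination two_eq_zero hF
  obtain ⟨g, hgdef⟩ : ∃ g, g = tv hF (p' + b) * tv hF (b + q) * tv hF q := ⟨_, rfl⟩
  have hg0 : act g a = a + b := by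
    rw [hgdef, act_mul, act_mul, act_tv hF hqq, haq, one_smul, act_tv hF hbqI,
      show hf (a + q) (b + q) = 1 by
        rw [hf_add_left hF a q (b + q), hf_add_right hF a b q, hf_add_right hF q b q, hab, haq, hqb, hqq]; simp,
      one_smul, show a + q + (b + q) = a + b by
        rw [show a + q + (b + q) = a + b + (q + q) by abel, vadd_self hF, add_zero]]
    refine act_tv_of_orth hF hpbI ?_
    rw [hf_add_right hF, (hf_eq_zero_symm hF).1 hsum0, zero_add, hf_add_left hF, hab, hbb, add_zero]
  have hg1 : act g b = p' := by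
    rw [hgdef, act_mul, act_mul, act_tv_of_orth hF hqq hbq,
      act_tv_of_orth hF hbqI (by rw [hf_add_right hF, hbb, hbq, add_zero]), act_tv hF hpbI,
      show hf b (p' + b) = 1 by rw [hf_add_right hF, hbp', hbb, add_zero], one_smul,
      show b + (p' + b) = p' + (b + b) by abel, vadd_self hF, add_zero]
  have hgr : ∀ i : Fin m, act g (u i.succ.succ) = u i.succ.succ := fun i => by
    have h1 : hf (u i.succ.succ) q = 0 :=
      (hf_eq_zero_symm hF).1 (by rw [hqu, if_neg (Fin.succ_ne_zero _)])
    have h2 : hf (u i.succ.succ) b = 0 := horth _ _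
    have h3 : hf (u i.succ.succ) p' = 0 := (hf_eq_zero_symm hF).1 (by rw [hp'u, hz])
    rw [hgdef, act_mul, act_mul, act_tv_of_orth hF hqq h1,
      act_tv_of_orth hF hbqI (by rw [hf_add_right hF, h1, h2, add_zero]),
      act_tv_of_orth hF hpbI (by rw [hf_add_right hF, h2, h3, add_zero])]
  refine ⟨g, fun y hy => ?_⟩
  set L : List (Fin n → F) := List.ofFn fun i : Fin m => u i.succ.succ with hL
  set R := (L.map (tv hF)).prod with hR
  have hLmem : ∀ v ∈ L, ∃ i : Fin m, v = u i.succ.succ := fun v hv => by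
    obtain ⟨i, rfl⟩ := List.mem_ofFn.1 hv
    exact ⟨i, rfl⟩
  have hy1 : y = tv hF a * tv hF b * R := by
    rw [hy, List.ofFn_succ, List.ofFn_succ, List.prod_cons, List.prod_cons, hR, hL, List.map_ofFn,
      mul_assoc]
    rfl
  have hLiso : ∀ v ∈ L, hf v v = 0 := fun v hv => by
    obtain ⟨i, rfl⟩ := hLmem v hv
    exact horth _ _
  have hy2 : g * y * g⁻¹ = tv hF (a + b) * tv hF p' * R := by
    rw [hy1, show g * (tv hF a * tv hF b * R) * g⁻¹
      = g * tv hF a * g⁻¹ * (g * tv hF b * g⁻¹) * (g * R * g⁻¹) by group,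
      tv_conj_inv hF g (horth 0 0), tv_conj_inv hF g (horth 1 1), ← ha, ← hb, hg0, hg1, hR,
      act_list_prod g hF L hLiso]
    congr 3
    rw [hL, List.map_ofFn]
    congr 1
    funext i
    exact hgr i
  have hzero : hf (a + b) (a + b) = 0 := by
    rw [hf_add_left hF, hf_add_right hF, hf_add_right hF, ha, hb, horth, horth, horth, horth]; simp
  have cR : ∀ v, hf v v = 0 → (∀ i : Fin m, hf (u i.succ.succ) v = 0) → Commute (tv hF v) R :=
    fun v hv h => list_prod_comm hF hv fun x hx => by
      obtain ⟨i, rfl⟩ := hLmem x hx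
      exact ⟨horth _ _, h i⟩
  have cRab := cR (a + b) hzero fun i => by rw [hf_add_right hF, ha, hb, horth, horth, add_zero]
  have cRp := cR p' hp'0 fun i => (hf_eq_zero_symm hF).1 (by rw [hp'u, hz])
  have cRa := cR a (horth 0 0) fun i => horth _ _
  have cRb := cR b (horth 1 1) fun i => horth _ _
  have hR2 : R * R = 1 := by
    have hy2' : y * y = 1 := by
      rw [hy, ← pow_two]
      have key : ∀ M : List (Fin n → F), (∀ x ∈ M, ∀ z ∈ M, hf x z = 0) →
          (M.map (tv hF)).prod * (M.map (tv hF)).prod = 1 := by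
        intro M
        induction M with
        | nil => simp
        | cons v M ih =>
          intro hM
          have hc := list_prod_comm hF (hM v List.mem_cons_self v List.mem_cons_self) (L := M)
            fun x hx => ⟨hM x (List.mem_cons_of_mem _ hx) x (List.mem_cons_of_mem _ hx),
              hM x (List.mem_cons_of_mem _ hx) v List.mem_cons_self⟩
          simp only [List.map_cons, List.prod_cons]
          rw [show tv hF v * (M.map (tv hF)).prod * (tv hF v * (M.map (tv hF)).prod)
            = tv hF v * ((M.map (tv hF)).prod * tv hF v) * (M.map (tv hF)).prod by group, ← hc.eq,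
            ← mul_assoc, tv_sq hF (hM v List.mem_cons_self v List.mem_cons_self), one_mul,
            ih fun x hx z hz => hM x (List.mem_cons_of_mem _ hx) z (List.mem_cons_of_mem _ hz)]
      rw [show (fun i => tv hF (u i)) = tv hF ∘ u from rfl, ← List.map_ofFn, pow_two]
      exact key _ fun x hx z hz => by
        obtain ⟨i, rfl⟩ := List.mem_ofFn.1 hx
        obtain ⟨j, rfl⟩ := List.mem_ofFn.1 hz
        exact horth i j
    rw [hy1] at hy2'
    have e : tv hF a * tv hF b * R * (tv hF a * tv hF b * R)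
        = tv hF a * tv hF b * (tv hF a * tv hF b) * (R * R) := by
      rw [show tv hF a * tv hF b * R * (tv hF a * tv hF b * R)
        = tv hF a * tv hF b * (R * (tv hF a * tv hF b)) * R by group,
        ((cRa.mul_left cRb).symm).eq]
      group
    rw [e, show tv hF a * tv hF b * (tv hF a * tv hF b) = 1 by
      rw [show tv hF a * tv hF b * (tv hF a * tv hF b) = tv hF a * (tv hF b * tv hF a) * tv hF b by group,
        ← tv_comm hF (horth 0 0) (horth 1 1) (horth 1 0), ← mul_assoc, tv_sq hF (horth 0 0), one_mul,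
        tv_sq hF (horth 1 1)], one_mul] at hy2'
    exact hy2'
  set A := tv hF a * tv hF b * tv hF (a + b) with hA
  have hprod : y * (g * y * g⁻¹) = A * tv hF p' := by
    rw [hy2, hy1, show tv hF a * tv hF b * R * (tv hF (a + b) * tv hF p' * R)
      = tv hF a * tv hF b * (R * (tv hF (a + b) * tv hF p')) * R by group,
      ((cRab.mul_left cRp).symm).eq, hA,
      show tv hF a * tv hF b * (tv hF (a + b) * tv hF p' * R) * R
      = tv hF a * tv hF b * tv hF (a + b) * tv hF p' * (R * R) by group, hR2, mul_one]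
  set c := p' + b + a with hc
  have hAp : act A p' = c := by
    rw [hA, act_mul, act_mul, act_tv_of_orth hF hzero hsum0, act_tv hF (horth 1 1), hp'b, one_smul,
      act_tv hF (horth 0 0), hf_add_left hF, hp'a, show hf b a = 0 from horth _ _, add_zero, one_smul]
  have hA2 : A * A = 1 := by
    have h1 : Commute (tv hF a) (tv hF b) := tv_comm hF (horth 0 0) (horth 1 1) (horth 1 0)
    have h2 : Commute (tv hF a) (tv hF (a + b)) := tv_comm hF (horth 0 0) hzero
      (by show hf (a + b) _ = 0; rw [hf_add_left hF, ha, hb, horth, horth, add_zero])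
    have h3 : Commute (tv hF b) (tv hF (a + b)) := tv_comm hF (horth 1 1) hzero
      (by show hf (a + b) _ = 0; rw [hf_add_left hF, ha, hb, horth, horth, add_zero])
    have h12 : tv hF a * tv hF b * (tv hF a * tv hF b) = 1 := by
      rw [show tv hF a * tv hF b * (tv hF a * tv hF b) = tv hF a * (tv hF b * tv hF a) * tv hF b by group,
        ← h1.eq, ← mul_assoc, tv_sq hF (horth 0 0), one_mul, tv_sq hF (horth 1 1)]
    rw [hA, show tv hF a * tv hF b * tv hF (a + b) * (tv hF a * tv hF b * tv hF (a + b))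
      = tv hF a * tv hF b * (tv hF (a + b) * (tv hF a * tv hF b)) * tv hF (a + b) by group,
      ((h2.mul_left h3).symm).eq, ← mul_assoc, h12, one_mul, tv_sq hF hzero]
  have hAinv : A⁻¹ = A := inv_eq_of_mul_eq_one_left hA2
  have hp'I : Iso p' := ⟨fun h => by rw [h, hf_zero_left hF] at hp'a; exact zero_ne_one hp'a, hp'0⟩
  have hcI : Iso c := hAp ▸ hp'I.act A
  have hcp : hf p' c = 0 := by
    rw [hc, hf_add_right hF, hf_add_right hF, hp'0, hp'a, hp'b, zero_add, add_self hF]
  have hsq : (A * tv hF p') ^ 2 = tv hF c * tv hF p' := by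
    rw [← hAp, ← tv_conj_inv hF A hp'0, hAinv, pow_two]
    group
  have hne : tv hF c * tv hF p' ≠ 1 := by
    intro h
    have h' : tv hF c = tv hF p' := by
      rw [mul_eq_one_iff_eq_inv.1 h, tv_inv hF hp'0]
    obtain ⟨s, -, hs⟩ := tv_inj hF hcI hp'I h'
    have h1 := congrArg (fun x => hf x a) hs
    simp only [hf_smul_left hF, hc, hf_add_left hF, hp'a] at h1
    rw [ha, hb, horth, horth, add_zero, add_zero, mul_one] at h1
    rw [← h1, one_smul, hc, add_assoc, left_eq_add] at hs
    have h0 := Fintype.linearIndependent_iff.1 hli (Fin.cons 1 (Fin.cons 1 fun _ => 0)) (by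
      rw [Fin.sum_univ_succ, Fin.sum_univ_succ]
      simp only [Fin.cons_zero, Fin.cons_succ, one_smul, zero_smul, Finset.sum_const_zero, add_zero]
      rw [add_comm]; exact hs) 0
    simp at h0
  have hfour : (tv hF c * tv hF p') ^ 2 = 1 := by
    rw [pow_two, show tv hF c * tv hF p' * (tv hF c * tv hF p')
      = tv hF c * (tv hF p' * tv hF c) * tv hF p' by group, ← tv_comm hF hcI.2 hp'0 hcp,
      ← mul_assoc, tv_sq hF hcI.2, one_mul, tv_sq hF hp'0]
  rw [hprod]
  refine ⟨hsq ▸ hne, fun h3 => ?_⟩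
  have h4 : (A * tv hF p') ^ 4 = 1 := by
    rw [show 4 = 2 * 2 from rfl, pow_mul, hsq, hfour]
  have h1 : A * tv hF p' = 1 := by
    rw [pow_succ, h3, one_mul] at h4
    exact h4
  exact hne (by rw [← hsq, h1, one_pow])

/-- A nonempty conjugation invariant set of 3-transpositions of SU(n,2) is the set of transvections. -/
theorem class_eq' (hF : Fintype.card F = 4) (hn : 3 ≤ n) (C : Set (Cfsg.SU n F 2))
    (hconj : ∀ g, ∀ c ∈ C, g * c * g⁻¹ ∈ C) (hsq : ∀ c ∈ C, c * c = 1) (hne : ∀ c ∈ C, c ≠ 1)
    (h3 : ∀ c ∈ C, ∀ d ∈ C, (c * d) ^ 2 = 1 ∨ (c * d) ^ 3 = 1) (hC : C.Nonempty) :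
    (∀ c ∈ C, ∃ v, Iso v ∧ c = tv hF v) ∧ ∀ v, Iso v → tv hF v ∈ C := by
  have key : ∀ c ∈ C, ∃ v, Iso v ∧ c = tv hF v := by
    intro c hc
    obtain ⟨m, u, hli, horth, hprod⟩ := exists_indep hF c (hsq c hc)
    rcases m with _ | _ | m
    · exact absurd (by simpa using hprod) (hne c hc)
    · exact ⟨u 0, ⟨hli.ne_zero 0, horth 0 0⟩, by simpa using hprod⟩
    · obtain ⟨g, hg⟩ := exists_bad_conj hF hli horth
      obtain ⟨h2', h3'⟩ := hg c hprod
      rcases h3 c hc _ (hconj g c hc) with h | h
      exacts [absurd h h2', absurd h h3']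
  refine ⟨key, fun v hv => ?_⟩
  obtain ⟨c, hc⟩ := hC
  obtain ⟨u, hu, rfl⟩ := key c hc
  obtain ⟨g, hg⟩ := exists_act hF hn hu hv
  have := hconj g _ hc
  rwa [tv_conj_inv hF g hu.2, hg] at this

/-- `class_eq'` for odd `n ≥ 5`. -/
theorem class_eq (hF : Fintype.card F = 4) (hn : 5 ≤ n) (_hodd : Odd n) (C : Set (Cfsg.SU n F 2))
    (hconj : ∀ g, ∀ c ∈ C, g * c * g⁻¹ ∈ C) (hsq : ∀ c ∈ C, c * c = 1) (hne : ∀ c ∈ C, c ≠ 1)
    (h3 : ∀ c ∈ C, ∀ d ∈ C, (c * d) ^ 2 = 1 ∨ (c * d) ^ 3 = 1) (hC : C.Nonempty) :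
    (∀ c ∈ C, ∃ v, Iso v ∧ c = tv hF v) ∧ ∀ v, Iso v → tv hF v ∈ C :=
  class_eq' hF (by omega) C hconj hsq hne h3 hC

/-! ### Generation -/

theorem closure_tv (hF : Fintype.card F = 4) (hn : 4 ≤ n) :
    Subgroup.closure {A : Cfsg.SU n F 2 | ∃ v, Iso v ∧ A = tv hF v} = ⊤ := by
  rw [eq_top_iff, ← transvectionGroup_eq_top (card_sq hF) (Or.inl hn), transvectionGroup,
    Subgroup.closure_le]
  rintro A ⟨v, c, hv, hA⟩
  have hact : ∀ x, act A x = x + (c * hf x v) • v := fun x => by
    show ((A : Matrix.SpecialLinearGroup (Fin n) F) : Matrix (Fin n) (Fin n) F) *ᵥ x = _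
    rw [hA, transvection_mulVec]
  by_cases hv0 : v = 0
  · rw [SetLike.mem_coe, show A = 1 from act_ext fun x => by rw [hact, hv0, smul_zero, add_zero, act_one]]
    exact one_mem _
  have hU : IsUnitary 2 (Cfsg.unitaryTransvection n 2 v c) := fun a b => by
    rw [← hA]; exact SU_apply A a b
  have hc : c + c ^ 2 = 0 := by
    obtain ⟨x, hx⟩ := exists_hf_one hF hv0
    have h1 := hU x x
    rw [transvection_mulVec, show Cfsg.hermForm n F 2 x v = 1 from hx, mul_one] at h1
    change hf (x + c • v) (x + c • v) = hf x x at h1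
    rw [hf_add_left hF, hf_add_right hF, hf_add_right hF, hf_smul_left hF, hf_smul_left hF,
      hf_smul_right hF, hf_smul_right hF, hx, hf_eq_one_symm hF hx,
      show hf v v = 0 from hv] at h1
    linear_combination h1
  by_cases hc0 : c = 0
  · rw [SetLike.mem_coe, show A = 1 from act_ext fun x => by rw [hact, hc0, zero_mul, zero_smul, add_zero, act_one]]
    exact one_mem _
  have hc1 : c = 1 := fixed_eq_one hF (by linear_combination hc - c * two_eq_zero hF) hc0
  exact Subgroup.subset_closure ⟨v, ⟨hv0, hv⟩, act_ext fun x => by rw [hact, act_tv hF hv, hc1, one_mul]⟩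

/-- An isotropic `u` orthogonal to a hyperbolic pair with prescribed product with a given orthogonal vector. -/
theorem exists_orth_iso (hF : Fintype.card F = 4) (hn : 5 ≤ n) {x y z : Fin n → F} (hx : Iso x) (hy : Iso y)
    (hxy : hf x y = 1) (hz0 : z ≠ 0) (hzx : hf z x = 0) (hzy : hf z y = 0) (δ : F) :
    ∃ u, hf u u = 0 ∧ hf u x = 0 ∧ hf u y = 0 ∧ hf z u = δ := by
  have hyx := hf_eq_one_symm hF hxy
  suffices h : ∃ u, hf u u = 0 ∧ hf u x = 0 ∧ hf u y = 0 ∧ hf z u = 1 by
    obtain ⟨u, h1, h2, h3, h4⟩ := h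
    refine ⟨δ ^ 2 • u, ?_, ?_, ?_, ?_⟩
    · rw [hf_smul_left hF, hf_smul_right hF, h1]; simp
    · rw [hf_smul_left hF, h2, mul_zero]
    · rw [hf_smul_left hF, h3, mul_zero]
    · rw [hf_smul_right hF, h4, mul_one]
      exact pow_q_pow_q (card_sq hF) δ
  by_cases hzz : hf z z = 0
  · obtain ⟨a, ha⟩ := exists_hf_one hF hz0
    set a' := a + hf a y • x + hf a x • y with ha'
    have h1 : hf a' x = 0 := by
      rw [ha', hf_add_left hF, hf_add_left hF, hf_smul_left hF, hf_smul_left hF, hx.2, hyx]
      linear_combination hf a x * two_eq_zero hF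
    have h2 : hf a' y = 0 := by
      rw [ha', hf_add_left hF, hf_add_left hF, hf_smul_left hF, hf_smul_left hF, hy.2, hxy]
      linear_combination hf a y * two_eq_zero hF
    have h3 : hf a' z = 1 := by
      rw [ha', hf_add_left hF, hf_add_left hF, hf_smul_left hF, hf_smul_left hF, ha,
        (hf_eq_zero_symm hF).1 hzx, (hf_eq_zero_symm hF).1 hzy]
      simp
    obtain ⟨t, ht⟩ := exists_trace hF ((herm hF).self_fixed a')
    refine ⟨a' + t • z, ?_, ?_, ?_, ?_⟩
    · rw [hf_add_left hF a' (t • z), hf_add_right hF a' a' (t • z), hf_add_right hF (t • z) a' (t • z),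
        hf_smul_left hF t z a', hf_smul_right hF t a' z, hf_smul_left hF t z (t • z), hf_smul_right hF t z z,
        h3, hf_eq_one_symm hF h3, hzz]
      have ht' : t + t ^ 2 = hf a' a' := ht
      linear_combination (hf a' a') * two_eq_zero hF + ht'
    · rw [hf_add_left hF, hf_smul_left hF, h1, hzx, mul_zero, add_zero]
    · rw [hf_add_left hF, hf_smul_left hF, h2, hzy, mul_zero, add_zero]
    · rw [hf_add_right hF, hf_smul_right hF, hzz, mul_zero, add_zero, hf_eq_one_symm hF h3]
  · have hz1 : hf z z = 1 := fixed_eq_one hF ((herm hF).self_fixed z) hzz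
    obtain ⟨f, hf1, hfp⟩ : ∃ f, hf f f = 1 ∧ ∀ i, hf f (![x, y, z] i) = 0 := by
      by_contra hc
      have hiso : ∀ p : perp hF ![x, y, z], hf (p : Fin n → F) p = 0 := fun p => by
        by_contra hp
        exact hc ⟨p, fixed_eq_one hF ((herm hF).self_fixed _) hp, (mem_perp hF).1 p.2⟩
      have hpz : ∀ p q : perp hF ![x, y, z], hf (p : Fin n → F) q = 0 :=
        ((herm hF).comap (perp hF ![x, y, z]).subtype).eq_zero_of_isotropic (card_sq hF) hiso
      let b := Module.finBasis F (perp hF ![x, y, z])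
      have hli : LinearIndependent F fun i => (b i : Fin n → F) :=
        b.linearIndependent.map' _ (perp hF ![x, y, z]).ker_subtype
      have hbx : ∀ i, hf (b i : Fin n → F) x = 0 := fun i => (mem_perp hF).1 (b i).2 0
      have hnot : x ∉ Submodule.span F (Set.range fun i => (b i : Fin n → F)) := fun hmem => by
        have hle : Submodule.span F (Set.range fun i => (b i : Fin n → F)) ≤ perp hF ![x, y, z] :=
          Submodule.span_le.2 (by rintro _ ⟨i, rfl⟩; exact (b i).2)
        have := (mem_perp hF).1 (hle hmem) 1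
        exact one_ne_zero (hxy.symm.trans this)
      have hli' := linearIndependent_fin_snoc.2 ⟨hli, hnot⟩
      have h2 := two_mul_le hF hli' fun i j => by
        induction i using Fin.lastCases with
        | last =>
          induction j using Fin.lastCases with
          | last => simpa using hx.2
          | cast j => simpa using (hf_eq_zero_symm hF).1 (hbx j)
        | cast i =>
          induction j using Fin.lastCases with
          | last => simpa using hbx i
          | cast j => simpa using hpz (b i) (b j)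
      have := le_finrank_perp hF ![x, y, z]
      omega
    refine ⟨z + f, ?_, ?_, ?_, ?_⟩
    · rw [hf_add_left hF, hf_add_right hF, hf_add_right hF, hz1, hf1, show hf f z = 0 from hfp 2,
        (hf_eq_zero_symm hF).1 (show hf f z = 0 from hfp 2)]
      linear_combination two_eq_zero hF
    · rw [hf_add_left hF, hzx, show hf f x = 0 from hfp 0, add_zero]
    · rw [hf_add_left hF, hzy, show hf f y = 0 from hfp 1, add_zero]
    · rw [hf_add_right hF, hz1, (hf_eq_zero_symm hF).1 (show hf f z = 0 from hfp 2), add_zero]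

/-- For non-orthogonal x, y the transvections with centre orthogonal to x or y generate. -/
theorem closure_perp (hF : Fintype.card F = 4) (hn : 5 ≤ n) {x y : Fin n → F} (hx : Iso x) (hy : Iso y)
    (hxy : hf x y ≠ 0) :
    Subgroup.closure {A : Cfsg.SU n F 2 | ∃ v, Iso v ∧ (hf v x = 0 ∨ hf v y = 0) ∧ A = tv hF v} = ⊤ := by
  set K := Subgroup.closure {A : Cfsg.SU n F 2 | ∃ v, Iso v ∧ (hf v x = 0 ∨ hf v y = 0) ∧ A = tv hF v}
  rw [eq_top_iff, ← closure_tv hF (by omega : 4 ≤ n), Subgroup.closure_le]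
  rintro _ ⟨z, hz, rfl⟩
  by_cases h0 : hf z x = 0 ∨ hf z y = 0
  · exact Subgroup.subset_closure ⟨z, hz, h0, rfl⟩
  rw [not_or] at h0
  set c := ((hf x y)⁻¹) ^ 2 with hcdef
  have hc0 : c ≠ 0 := pow_ne_zero _ (inv_ne_zero hxy)
  have hy' : Iso (c • y) := hy.smul hF hc0
  have hxy' : hf x (c • y) = 1 := by
    have e : ((((hf x y)⁻¹) ^ 2) ^ 2) = (hf x y)⁻¹ := pow_q_pow_q (card_sq hF) _
    rw [hf_smul_right hF, hcdef, e, inv_mul_cancel₀ hxy]
  have hyx' := hf_eq_one_symm hF hxy'
  obtain ⟨y', hy'def⟩ : ∃ y', y' = c • y := ⟨_, rfl⟩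
  rw [← hy'def] at hy' hxy' hyx'
  have hzy' : hf z y' ≠ 0 := by
    rw [hy'def, hf_smul_right hF]
    exact mul_ne_zero (pow_ne_zero _ hc0) h0.2
  set α := hf z y' with hα
  set β := hf z x with hβ
  suffices h : ∃ w, Iso w ∧ hf w x = 0 ∧ hf (act (tv hF w) z) y' = 0 by
    obtain ⟨w, hw, hwx, hwy⟩ := h
    have h1 : hf (act (tv hF w) z) y = 0 := by
      rw [hy'def, hf_smul_right hF] at hwy
      exact (mul_eq_zero.1 hwy).resolve_left (pow_ne_zero _ hc0)
    have hwK : tv hF w ∈ K := Subgroup.subset_closure ⟨w, hw, Or.inl hwx, rfl⟩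
    have hzK : tv hF (act (tv hF w) z) ∈ K := Subgroup.subset_closure ⟨_, hz.act _, Or.inr h1, rfl⟩
    have e : tv hF z = tv hF w * tv hF (act (tv hF w) z) * (tv hF w)⁻¹ := by
      rw [tv_conj_inv hF _ (hz.act _).2, ← act_mul, tv_sq hF hw.2, act_one]
    rw [SetLike.mem_coe, e]
    exact mul_mem (mul_mem hwK hzK) (inv_mem hwK)
  by_cases hab : α = β
  · refine ⟨x, hx, hx.2, ?_⟩
    rw [act_tv hF hx.2, hf_add_left hF, hf_smul_left hF, hxy', mul_one, ← hα, ← hβ, hab, add_self hF]
  set z' := z + α • x + β • y' with hz'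
  have hz'x : hf z' x = 0 := by
    rw [hz', hf_add_left hF, hf_add_left hF, hf_smul_left hF, hf_smul_left hF, hx.2, hyx', ← hβ]
    linear_combination β * two_eq_zero hF
  have hz'y : hf z' y' = 0 := by
    rw [hz', hf_add_left hF, hf_add_left hF, hf_smul_left hF, hf_smul_left hF, hy'.2, hxy', ← hα]
    linear_combination α * two_eq_zero hF
  have hz'0 : z' ≠ 0 := by
    intro h
    have hzz : z = α • x + β • y' := by
      rw [hz', add_assoc] at h
      exact funext fun i => (eq_iff_add_eq_zero hF).2 (congrFun h i)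
    have h1 := hz.2
    rw [hzz, hf_add_left hF, hf_add_right hF, hf_add_right hF, hf_smul_left hF, hf_smul_left hF,
      hf_smul_left hF, hf_smul_left hF, hf_smul_right hF, hf_smul_right hF, hf_smul_right hF,
      hf_smul_right hF, hx.2, hy'.2, hxy', hyx'] at h1
    have h2 : α * β * (α + β) = 0 := by linear_combination h1
    rcases mul_eq_zero.1 h2 with h3 | h3
    · rcases mul_eq_zero.1 h3 with h4 | h4
      exacts [hzy' h4, h0.1 h4]
    · exact hab ((eq_iff_add_eq_zero hF).2 h3)
  obtain ⟨u, hu0, hux, huy, hzu⟩ := exists_orth_iso hF hn hx hy' hxy' hz'0 hz'x hz'y (α + β)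
  refine ⟨x + u, ⟨fun h => ?_, ?_⟩, ?_, ?_⟩
  · have h1 := congrArg (fun p => hf p y') h
    simp only [hf_add_left hF, hf_zero_left hF, hxy', huy, add_zero] at h1
    exact one_ne_zero h1
  · rw [hf_add_left hF, hf_add_right hF, hf_add_right hF, hx.2, hu0, hux,
      (hf_eq_zero_symm hF).1 hux]
    simp
  · rw [hf_add_left hF, hx.2, hux, add_zero]
  · have hzu' : hf z u = α + β := by
      have h1 : hf z' u = hf z u := by
        rw [hz', hf_add_left hF, hf_add_left hF, hf_smul_left hF, hf_smul_left hF,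
          (hf_eq_zero_symm hF).1 hux, (hf_eq_zero_symm hF).1 huy]
        simp
      rw [← h1, hzu]
    rw [act_tv hF (by rw [hf_add_left hF, hf_add_right hF, hf_add_right hF, hx.2, hu0, hux,
      (hf_eq_zero_symm hF).1 hux]; simp), hf_add_left hF, hf_smul_left hF, hf_add_right hF, hzu', ← hβ,
      hf_add_left hF, hxy', huy, ← hα]
    linear_combination (α + β) * two_eq_zero hF

end Cfsg.Agent.ThreeTransSU
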