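/-
Central extensions of SU(n,2) with lifted transvections: the radical of the stabiliser of an isotropic vector.

`Ext ψ s` : `ψ : B →* SU n F 2` surjective with 2-group kernel and `s v` lifts of the transvections, permuted by
conjugation, satisfying the five-point relation on one totally isotropic line.
Main results (namespace `Cfsg.Agent.ThreeTransSU`):
* `Ext.line_all`, `Ext.central`, `Ext.commute_s`;
* `Ext.radical` : subgroup `R v`;  `Ext.radical_spec`;
* `Ext.exists_radical` : given `HasGens F m`, `m + 2 = n`, the radical is a 2-group acting regularly on the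
  isotropic partners of `v`.
-/
import Cfsg.Agent.Lib.ThreeTransSU.Class

set_option autoImplicit false

namespace Cfsg.Agent.ThreeTransSU

open Cfsg.Agent.Unitary Cfsg.Agent.U62Cover

variable {F : Type*} [Field F] [Fintype F] {n : ℕ}

/-- The product of the five lifts on the line through `u` and `w`, `ω` a primitive cube root of one. -/
def lineProd {B : Type*} [Group B] (s : (Fin n → F) → B) (ω : F) (u w : Fin n → F) : B :=
  s u * s w * s (u + w) * s (u + ω • w) * s (u + ω ^ 2 • w)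

/-- A set of `k` generators of the points of F^m under reflections and scalars. -/
def HasGensN (F : Type*) [Field F] (m k : ℕ) : Prop :=
  ∃ g : Fin k → (Fin m → F), (∀ i, Iso (g i)) ∧ ∀ P : Set (Fin m → F), (∀ i, g i ∈ P) →
    (∀ a ∈ P, ∀ b ∈ P, hf b a ≠ 0 → b + hf b a • a ∈ P) →
    (∀ c : F, ∀ a ∈ P, c ≠ 0 → c • a ∈ P) → ∀ x, Iso x → x ∈ P

/-- A set of `m` generators of the points of F^m under reflections and scalars. -/
abbrev HasGens (F : Type*) [Field F] (m : ℕ) : Prop := HasGensN F m m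

/-- `ψ` is an extension of SU(n,2) with lifts `s` of the transvections. -/
structure Ext {B : Type*} [Group B] (ψ : B →* Cfsg.SU n F 2) (s : (Fin n → F) → B) : Prop where
  card : Fintype.card F = 4
  five : 5 ≤ n
  surj : Function.Surjective ψ
  ker : IsPGroup 2 ψ.ker
  map_s : ∀ v, Iso v → ψ (s v) = tv card v
  sq : ∀ v, Iso v → s v * s v = 1
  smul : ∀ v, ∀ c : F, Iso v → c ≠ 0 → s (c • v) = s v
  equiv : ∀ b v, Iso v → b * s v * b⁻¹ = s (act (ψ b) v)
  gen : Subgroup.closure {b | ∃ v, Iso v ∧ b = s v} = ⊤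
  line : ∃ u w, OrthPair u w ∧ ∀ ω : F, ω ^ 2 = ω + 1 → lineProd s ω u w = 1

theorem OrthPair.symm (hF : Fintype.card F = 4) {u w : Fin n → F} (h : OrthPair u w) : OrthPair w u := by
  refine ⟨h.2.1, h.1, (hf_eq_zero_symm hF).1 h.2.2.1, fun c hc => ?_⟩
  by_cases hc0 : c = 0
  · rw [hc0, zero_smul] at hc; exact h.1.1 hc
  · exact h.2.2.2 c⁻¹ (by rw [hc, smul_smul, inv_mul_cancel₀ hc0, one_smul])

theorem OrthPair.act {u w : Fin n → F} (h : OrthPair u w) (g : Cfsg.SU n F 2) :
    OrthPair (act g u) (act g w) :=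
  ⟨h.1.act g, h.2.1.act g, by rw [act_hf]; exact h.2.2.1,
    fun c hc => h.2.2.2 c ((act_eq_iff g).1 (hc.trans (act_smul g c u).symm))⟩

theorem OrthPair.shift (hF : Fintype.card F = 4) {u w : Fin n → F} (h : OrthPair u w) (a : F) :
    OrthPair u (w + a • u) := by
  refine ⟨h.1, ⟨fun hz => h.2.2.2 a (funext fun i => (eq_iff_add_eq_zero hF).2 (congrFun hz i)), ?_⟩, ?_,
    fun c hc => h.2.2.2 (c + a) ?_⟩
  · rw [hf_add_left hF, hf_add_right hF, hf_add_right hF, hf_smul_left hF, hf_smul_left hF,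
      hf_smul_right hF, hf_smul_right hF, h.1.2, h.2.1.2, h.2.2.1, (hf_eq_zero_symm hF).1 h.2.2.1]
    simp
  · rw [hf_add_right hF, hf_smul_right hF, h.1.2, h.2.2.1]; simp
  · rw [add_smul, ← hc, vadd_cancel hF]

theorem OrthPair.smul_right (hF : Fintype.card F = 4) {u w : Fin n → F} (h : OrthPair u w) {c : F}
    (hc : c ≠ 0) : OrthPair u (c • w) :=
  ⟨h.1, h.2.1.smul hF hc, by rw [hf_smul_right hF, h.2.2.1, mul_zero],
    fun d hd => h.2.2.2 (c⁻¹ * d) (by rw [mul_smul, ← hd, smul_smul, inv_mul_cancel₀ hc, one_smul])⟩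

theorem OrthPair.smul_left (hF : Fintype.card F = 4) {u w : Fin n → F} (h : OrthPair u w) {c : F}
    (hc : c ≠ 0) : OrthPair (c • u) w :=
  ⟨h.1.smul hF hc, h.2.1, by rw [hf_smul_left hF, h.2.2.1, mul_zero],
    fun d hd => h.2.2.2 (d * c) (by rw [hd, smul_smul])⟩

namespace Ext

variable {B : Type*} [Group B] {ψ : B →* Cfsg.SU n F 2} {s : (Fin n → F) → B}

theorem s_inv (E : Ext ψ s) {v : Fin n → F} (hv : Iso v) : (s v)⁻¹ = s v :=
  inv_eq_of_mul_eq_one_left (E.sq v hv)

theorem commute_s (E : Ext ψ s) {u v : Fin n → F} (hu : Iso u) (hv : Iso v) (h : hf v u = 0) :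
    Commute (s u) (s v) := by
  have h1 := E.equiv (s u) v hv
  rw [E.map_s u hu, act_tv_of_orth E.card hu.2 h] at h1
  exact mul_inv_eq_iff_eq_mul.1 h1

theorem central (E : Ext ψ s) {b : B} (hb : ψ b = 1) : b ∈ Subgroup.center B := by
  have hle : Subgroup.closure {b | ∃ v, Iso v ∧ b = s v} ≤ Subgroup.centralizer ({b} : Set B) := by
    refine (Subgroup.closure_le _).2 ?_
    rintro _ ⟨v, hv, rfl⟩
    refine Subgroup.mem_centralizer_singleton_iff.2 ?_
    have h1 := E.equiv b v hv
    rw [hb, act_one] at h1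
    exact (mul_inv_eq_iff_eq_mul.1 h1).symm
  refine Subgroup.mem_center_iff.2 fun g => ?_
  exact Subgroup.mem_centralizer_singleton_iff.1 (hle (E.gen ▸ Subgroup.mem_top g))

theorem line_all (E : Ext ψ s) {u w : Fin n → F} (h : OrthPair u w) {ω : F} (hω : ω ^ 2 = ω + 1) :
    lineProd s ω u w = 1 := by
  have hF := E.card
  obtain ⟨u₀, w₀, h₀, hl⟩ := E.line
  obtain ⟨g, hgu, hgw⟩ := exists_act_two hF E.five h₀ h
  obtain ⟨b, rfl⟩ := E.surj g
  have hi : ∀ a : F, Iso (u₀ + a • w₀) := fun a => ((h₀.symm hF).shift hF a).2.1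
  have h1 : Iso (u₀ + w₀) := by simpa using hi 1
  have hc := congrArg (fun x => b * x * b⁻¹) (hl ω hω)
  simp only [lineProd, mul_one, mul_inv_cancel] at hc
  rw [show b * (s u₀ * s w₀ * s (u₀ + w₀) * s (u₀ + ω • w₀) * s (u₀ + ω ^ 2 • w₀)) * b⁻¹
    = b * s u₀ * b⁻¹ * (b * s w₀ * b⁻¹) * (b * s (u₀ + w₀) * b⁻¹) * (b * s (u₀ + ω • w₀) * b⁻¹)
      * (b * s (u₀ + ω ^ 2 • w₀) * b⁻¹) by group, E.equiv b u₀ h₀.1, E.equiv b w₀ h₀.2.1,
    E.equiv b _ h1, E.equiv b _ (hi ω), E.equiv b _ (hi (ω ^ 2))] at hc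
  simpa only [lineProd, act_add, act_smul, hgu, hgw] using hc

/-! ### The products ρ -/

/-- The generator of the radical at `v`. -/
def rho (_E : Ext ψ s) (v u : Fin n → F) (b : F) : B := s u * s (u + b • v)

theorem rho_zero (E : Ext ψ s) {v u : Fin n → F} (h : OrthPair v u) : E.rho v u 0 = 1 := by
  rw [rho, zero_smul, add_zero, E.sq u h.2.1]

theorem rho_comm (E : Ext ψ s) {v u : Fin n → F} (h : OrthPair v u) (a b : F) :
    Commute (s (u + a • v)) (s (u + b • v)) := by
  have hF := E.card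
  refine E.commute_s (h.shift hF a).2.1 (h.shift hF b).2.1 ?_
  rw [hf_add_left hF, hf_add_right hF, hf_add_right hF, hf_smul_left hF, hf_smul_left hF,
    hf_smul_right hF, hf_smul_right hF, h.1.2, h.2.1.2, h.2.2.1, (hf_eq_zero_symm hF).1 h.2.2.1]
  simp

theorem rho_inv (E : Ext ψ s) {v u : Fin n → F} (h : OrthPair v u) (b : F) :
    (E.rho v u b)⁻¹ = E.rho v u b := by
  have h0 : s u = s (u + (0 : F) • v) := by rw [zero_smul, add_zero]
  rw [rho, mul_inv_rev, E.s_inv h.2.1, E.s_inv (h.shift E.card b).2.1, h0, (E.rho_comm h b 0).eq]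

theorem rho_conj (E : Ext ψ s) {v u : Fin n → F} (h : OrthPair v u) (b : F) {g : B}
    (hg : act (ψ g) v = v) : g * E.rho v u b * g⁻¹ = E.rho v (act (ψ g) u) b := by
  rw [rho, rho, show g * (s u * s (u + b • v)) * g⁻¹ = g * s u * g⁻¹ * (g * s (u + b • v) * g⁻¹) by group,
    E.equiv g u h.2.1, E.equiv g _ (h.shift E.card b).2.1, act_add, act_smul, hg]

theorem rho_smul (E : Ext ψ s) {v u : Fin n → F} (h : OrthPair v u) {c : F} (hc : c ≠ 0) (b : F) :
    E.rho v (c • u) b = E.rho v u (c⁻¹ * b) := by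
  rw [rho, rho, E.smul u c h.2.1 hc,
    show c • u + b • v = c • (u + (c⁻¹ * b) • v) by rw [smul_add, smul_smul, ← mul_assoc,
      mul_inv_cancel₀ hc, one_mul], E.smul _ c (h.shift E.card _).2.1 hc]

theorem four_line (E : Ext ψ s) {v u : Fin n → F} (h : OrthPair v u) {a b : F} (ha : a ≠ 0) (hb : b ≠ 0)
    (hab : a ≠ b) : s (u + a • v) * s (u + b • v) = s v * (s u * s (u + (a + b) • v)) := by
  have hF := E.card
  set ω := b / a with hω
  have hω0 : ω ≠ 0 := div_ne_zero hb ha
  have hω1 : ω ≠ 1 := fun e => hab (by rwa [hω, div_eq_one_iff_eq ha, eq_comm] at e)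
  have hω2 : ω ^ 2 = ω + 1 := by
    have h3 := pow_three hF hω0
    have h4 : ω ^ 2 + ω + 1 = 0 :=
      (mul_eq_zero.1 (show (ω - 1) * (ω ^ 2 + ω + 1) = 0 by linear_combination h3)).resolve_left
        (sub_ne_zero.2 hω1)
    linear_combination h4 - (ω + 1) * two_eq_zero hF
  have hl := E.line_all ((h.symm hF).smul_right hF ha) hω2
  have e1 : u + ω • a • v = u + b • v := by rw [smul_smul, hω, div_mul_cancel₀ b ha]
  have e2 : u + ω ^ 2 • a • v = u + (a + b) • v := by
    rw [smul_smul, hω2, add_mul, one_mul, hω, div_mul_cancel₀ b ha, add_comm b a]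
  rw [lineProd, E.smul v a h.1 ha, e1, e2] at hl
  have c1 : Commute (s u) (s v) := E.commute_s h.2.1 h.1 h.2.2.1
  have hc2 : ∀ c : F, Commute (s v) (s (u + c • v)) := fun c =>
    (E.commute_s (h.shift hF c).2.1 h.1 (by
      rw [hf_add_right hF, hf_smul_right hF, h.1.2, h.2.2.1]; simp)).symm
  have h0 : s u = s (u + (0 : F) • v) := by rw [zero_smul, add_zero]
  have h5 : s (u + a • v) * s (u + b • v) = (s u * s v)⁻¹ * (s (u + (a + b) • v))⁻¹ := by
    calc s (u + a • v) * s (u + b • v) = (s u * s v)⁻¹ *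
          (s u * s v * s (u + a • v) * s (u + b • v) * s (u + (a + b) • v)) *
          (s (u + (a + b) • v))⁻¹ := by group
      _ = _ := by rw [hl, mul_one]
  rw [h5, mul_inv_rev, E.s_inv h.1, E.s_inv h.2.1, E.s_inv (h.shift hF _).2.1, mul_assoc]

theorem rho_mul (E : Ext ψ s) {v u : Fin n → F} (h : OrthPair v u) (a b : F) :
    E.rho v u a * E.rho v u b = E.rho v u (a + b) ∨
      E.rho v u a * E.rho v u b = s v * E.rho v u (a + b) := by
  have hF := E.card
  by_cases ha : a = 0
  · left; rw [ha, E.rho_zero h, one_mul, zero_add]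
  by_cases hb : b = 0
  · left; rw [hb, E.rho_zero h, mul_one, add_zero]
  by_cases hab : a = b
  · left
    rw [← hab, add_self hF, E.rho_zero h]
    nth_rewrite 1 [← E.rho_inv h a]
    exact inv_mul_cancel _
  right
  have h0 : s u = s (u + (0 : F) • v) := by rw [zero_smul, add_zero]
  have hc : Commute (s (u + a • v)) (s u) := by rw [h0]; exact E.rho_comm h a 0
  calc E.rho v u a * E.rho v u b = s u * (s (u + a • v) * s u) * s (u + b • v) := by rw [rho, rho]; group
    _ = (s u * s u) * (s (u + a • v) * s (u + b • v)) := by rw [hc.eq]; group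
    _ = s v * (s u * s (u + (a + b) • v)) := by rw [E.sq u h.2.1, one_mul, E.four_line h ha hb hab]

theorem rho_shift (E : Ext ψ s) {v u : Fin n → F} (h : OrthPair v u) (a b : F) :
    E.rho v (u + a • v) b = E.rho v u a * E.rho v u (a + b) := by
  have h0 : s u = s (u + (0 : F) • v) := by rw [zero_smul, add_zero]
  have hc : Commute (s (u + a • v)) (s u) := by rw [h0]; exact E.rho_comm h a 0
  rw [rho, rho, rho, add_assoc, ← add_smul,
    show s u * s (u + a • v) * (s u * s (u + (a + b) • v))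
      = s u * (s (u + a • v) * s u) * s (u + (a + b) • v) by group, hc.eq,
    show s u * (s u * s (u + a • v)) * s (u + (a + b) • v)
      = (s u * s u) * (s (u + a • v) * s (u + (a + b) • v)) by group, E.sq u h.2.1, one_mul]

/-- The radical of the stabiliser of `v`. -/
def radical (E : Ext ψ s) (v : Fin n → F) : Subgroup B :=
  Subgroup.closure ({p | ∃ u b, OrthPair v u ∧ p = E.rho v u b} ∪ {s v})

theorem radical_spec (E : Ext ψ s) {v : Fin n → F} (hv : Iso v) {r : B} (hr : r ∈ E.radical v) :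
    act (ψ r) v = v ∧ ∀ x, hf x v = 0 → ∃ c : F, act (ψ r) x = x + c • v := by
  have hF := E.card
  induction hr using Subgroup.closure_induction with
  | mem p hp =>
    rcases hp with ⟨u, b, h, rfl⟩ | hp
    · have h' := h.shift hF b
      have key : ∀ x, hf x v = 0 → act (ψ (E.rho v u b)) x = x + (hf x u * b) • v := by
        intro x hx
        have e : hf x (u + b • v) = hf x u := by rw [hf_add_right hF, hf_smul_right hF, hx]; simp
        rw [rho, map_mul, E.map_s u h.2.1, E.map_s _ h'.2.1, act_mul, act_tv hF h'.2.1.2, e,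
          act_tv hF h.2.1.2, hf_add_left hF, hf_smul_left hF, hf_add_left hF, hf_smul_left hF, h.2.1.2,
          h.2.2.1]
        simp only [mul_zero, add_zero, smul_add, smul_smul]
        rw [add_assoc, add_assoc, add_comm ((hf x u * b) • v), ← add_assoc (hf x u • u),
          vadd_self hF, zero_add]
      exact ⟨by rw [key v hv.2, h.2.2.1, zero_mul, zero_smul, add_zero], fun x hx => ⟨_, key x hx⟩⟩
    · rw [Set.mem_singleton_iff] at hp
      rw [hp, E.map_s v hv]
      exact ⟨act_tv_self hF hv.2, fun x hx => ⟨0, by rw [act_tv_of_orth hF hv.2 hx, zero_smul, add_zero]⟩⟩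
  | one => exact ⟨by rw [map_one, act_one], fun x _ => ⟨0, by rw [map_one, act_one, zero_smul, add_zero]⟩⟩
  | mul p q _ _ hp hq =>
    refine ⟨by rw [map_mul, act_mul, hq.1, hp.1], fun x hx => ?_⟩
    obtain ⟨c, hc⟩ := hq.2 x hx
    obtain ⟨d, hd⟩ := hp.2 x hx
    exact ⟨d + c, by rw [map_mul, act_mul, hc, act_add, act_smul, hd, hp.1, add_smul, add_assoc]⟩
  | inv p _ hp =>
    have h1 : act (ψ p⁻¹) v = v := by rw [map_inv]; conv_lhs => rw [← hp.1, act_inv_act]
    refine ⟨h1, fun x hx => ?_⟩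
    obtain ⟨c, hc⟩ := hp.2 x hx
    refine ⟨c, ?_⟩
    have h2 := congrArg (act (ψ p⁻¹)) hc
    rw [act_add, act_smul, h1, map_inv, act_inv_act] at h2
    nth_rewrite 2 [h2]
    rw [map_inv, vadd_cancel hF]

theorem commute_radical (E : Ext ψ s) {v : Fin n → F} (hv : Iso v) {r : B} (hr : r ∈ E.radical v) :
    Commute r (s v) := by
  have h := E.equiv r v hv
  rw [(E.radical_spec hv hr).1] at h
  exact mul_inv_eq_iff_eq_mul.1 h

theorem radical_conj (E : Ext ψ s) {v : Fin n → F} (hv : Iso v) {g : B} (hg : act (ψ g) v = v) :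
    g ∈ Subgroup.normalizer (E.radical v : Set B) := by
  have key : ∀ g : B, act (ψ g) v = v → ∀ r ∈ E.radical v, g * r * g⁻¹ ∈ E.radical v := by
    intro g hg r hr
    induction hr using Subgroup.closure_induction with
    | mem p hp =>
      rcases hp with ⟨u, b, h, rfl⟩ | hp
      · refine Subgroup.subset_closure (Or.inl ⟨_, b, ?_, E.rho_conj h b hg⟩)
        have h' := h.act (ψ g)
        rwa [hg] at h'
      · rw [Set.mem_singleton_iff] at hp
        rw [hp, E.equiv g v hv, hg]
        exact Subgroup.subset_closure (Or.inr rfl)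
    | one => simp
    | mul a b _ _ ha hb =>
      have e : g * (a * b) * g⁻¹ = g * a * g⁻¹ * (g * b * g⁻¹) := by group
      rw [e]; exact mul_mem ha hb
    | inv a _ ha =>
      have e : g * a⁻¹ * g⁻¹ = (g * a * g⁻¹)⁻¹ := by group
      rw [e]; exact inv_mem ha
  refine Subgroup.mem_normalizer_iff.2 fun r => ⟨key g hg r, fun h => ?_⟩
  have hg' : act (ψ g⁻¹) v = v := by rw [map_inv]; conv_lhs => rw [← hg, act_inv_act]
  have := key g⁻¹ hg' _ h
  rwa [show g⁻¹ * (g * r * g⁻¹) * g⁻¹⁻¹ = r by group] at this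

/-- Conjugation by `p` fixing `v` and moving `u` along `v` changes a generator by a power of `s v`. -/
theorem rho_move (E : Ext ψ s) {v u : Fin n → F} (h : OrthPair v u) {p : B} (hp : act (ψ p) v = v)
    {c : F} (hc : act (ψ p) u = u + c • v) (b : F) :
    p * E.rho v u b * p⁻¹ = E.rho v u b ∨ p * E.rho v u b * p⁻¹ = s v * E.rho v u b := by
  rw [E.rho_conj h b hp, hc, E.rho_shift h]
  rcases E.rho_mul h c (c + b) with e | e <;>
    rw [← add_assoc, add_self E.card, zero_add] at e
  exacts [Or.inl e, Or.inr e]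

end Ext

end Cfsg.Agent.ThreeTransSU
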