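/-
The radical at an isotropic vector acts regularly on the isotropic partners of that vector.

Main results (namespace `Cfsg.Agent.ThreeTransSU`):
* `exists_partner`, `exists_frame`;
* `Ext.radical_transitive`, `Ext.card_radical_le`;
* `Ext.radical_free`, `Ext.isPGroup_radical`.
-/
import Cfsg.Agent.Lib.ThreeTransSU.Radical

set_option autoImplicit false

namespace Cfsg.Agent.ThreeTransSU

open Cfsg.Agent.Unitary Cfsg.Agent.U62Cover

variable {F : Type*} [Field F] [Fintype F] {n : ℕ}

/-- `v` and `z` form a hyperbolic pair. -/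
def Partner (v z : Fin n → F) : Prop := hf z z = 0 ∧ hf v z = 1

theorem exists_partner (hF : Fintype.card F = 4) {k : ℕ} {b : Fin k → (Fin n → F)}
    (hli : LinearIndependent F b) {v : Fin n → F} (hv : Iso v) (hvb : ∀ i, hf v (b i) = 0)
    (hnot : v ∉ Submodule.span F (Set.range b)) :
    ∃ z, Partner v z ∧ ∀ i, hf z (b i) = 0 := by
  obtain ⟨x, hx⟩ := exists_dual hF (linearIndependent_fin_snoc.2 ⟨hli, hnot⟩) (Fin.snoc (fun _ => 0) 1)
  have hxv : hf x v = 1 := by simpa using hx (Fin.last k)
  have hxb : ∀ i, hf x (b i) = 0 := fun i => by simpa using hx i.castSucc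
  obtain ⟨t, ht⟩ := exists_trace hF ((herm hF).self_fixed x)
  refine ⟨x + t • v, ⟨?_, ?_⟩, fun i => ?_⟩
  · rw [hf_add_left hF, hf_add_right hF, hf_add_right hF, hf_smul_left hF, hf_smul_left hF,
      hf_smul_right hF, hf_smul_right hF, hv.2, hxv, hf_eq_one_symm hF hxv]
    have ht' : t + t ^ 2 = hf x x := ht
    linear_combination (hf x x) * two_eq_zero hF + ht'
  · rw [hf_add_right hF, hf_smul_right hF, hv.2, hf_eq_one_symm hF hxv]; simp
  · rw [hf_add_left hF, hf_smul_left hF, hxb, hvb]; simp

/-- The two norm-one vectors of a hyperbolic pair. -/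
def pairBasis (ω : F) (v z : Fin n → F) : Fin 2 → (Fin n → F) := ![ω • v + z, ω ^ 2 • v + z]

theorem pair_orthonormal (hF : Fintype.card F = 4) {ω : F} (hω : ω ^ 2 = ω + 1) {v z : Fin n → F}
    (hv : Iso v) (hz : Partner v z) : Orthonormal (Cfsg.hermForm n F 2) (pairBasis ω v z) := by
  have hzv := hf_eq_one_symm hF hz.2
  have key : ∀ a c : F, hf (a • v + z) (c • v + z) = a + c ^ 2 := fun a c => by
    rw [hf_add_left hF, hf_add_right hF, hf_add_right hF, hf_smul_left hF, hf_smul_left hF,
      hf_smul_right hF, hf_smul_right hF, hv.2, hz.1, hz.2, hzv]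
    ring
  have h4 : (ω ^ 2) ^ 2 = ω := pow_q_pow_q (card_sq hF) ω
  refine ⟨fun i => ?_, fun i j hij => ?_⟩
  · fin_cases i <;> simp only [pairBasis, Matrix.cons_val_zero, Matrix.cons_val_one] <;>
      refine (key _ _).trans ?_
    · linear_combination hω + ω * two_eq_zero hF
    · rw [h4]; linear_combination hω + ω * two_eq_zero hF
  · fin_cases i <;> fin_cases j <;> simp only [ne_eq, not_true_eq_false] at hij ⊢ <;>
      simp only [pairBasis, Matrix.cons_val_zero, Matrix.cons_val_one] <;>
      refine (key _ _).trans ?_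
    · rw [h4]; exact add_self hF ω
    · exact add_self hF _

/-- An orthonormal frame for the vectors orthogonal to a hyperbolic pair. -/
theorem exists_frame (hF : Fintype.card F = 4) {m : ℕ} (hm : m + 2 = n) {v z : Fin n → F} (hv : Iso v)
    (hz : Partner v z) :
    ∃ w : Fin m → (Fin n → F), Orthonormal (Cfsg.hermForm n F 2) w ∧ (∀ i, hf (w i) v = 0) ∧
      (∀ i, hf (w i) z = 0) ∧ ∀ x, hf x v = 0 → hf x z = 0 → x = ∑ i, hf x (w i) • w i := by
  obtain ⟨ω, -, hω⟩ := exists_omega hF
  obtain ⟨c, hc, hce⟩ := exists_orthonormal_extend (card_sq hF) (herm hF) (hermForm_nondeg (card_sq hF) n)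
    (pair_orthonormal hF hω hv hz) (n := 2 + m) (Nat.le_add_right _ _)
    (le_of_eq (by rw [Module.finrank_fin_fun]; omega))
  have h4 : (ω ^ 2) ^ 2 = ω := pow_q_pow_q (card_sq hF) ω
  have hvz : ∀ x, hf x v = 0 → hf x z = 0 → ∀ i, hf x (c (Fin.castLE (Nat.le_add_right 2 m) i)) = 0 := by
    intro x h1 h2 i
    rw [hce]
    fin_cases i <;> simp [pairBasis, hf_add_right hF, hf_smul_right hF, h1, h2]
  have hw : ∀ i, hf (c (Fin.natAdd 2 i)) v = 0 ∧ hf (c (Fin.natAdd 2 i)) z = 0 := by
    intro i
    have e : ∀ j : Fin 2, hf (c (Fin.natAdd 2 i)) (pairBasis ω v z j) = 0 := fun j => by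
      rw [← hce]
      refine hc.2 fun h => ?_
      have := congrArg Fin.val h
      simp at this
      omega
    have e0 := e 0
    have e1 := e 1
    simp only [pairBasis, Matrix.cons_val_zero, Matrix.cons_val_one, hf_add_right hF,
      hf_smul_right hF, h4] at e0 e1
    have h1 : hf (c (Fin.natAdd 2 i)) v = 0 := by
      linear_combination e0 + e1 - hf (c (Fin.natAdd 2 i)) v * hω -
        (hf (c (Fin.natAdd 2 i)) z + ω * hf (c (Fin.natAdd 2 i)) v) * two_eq_zero hF
    exact ⟨h1, by rw [h1, mul_zero, zero_add] at e1; exact e1⟩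
  refine ⟨fun i => c (Fin.natAdd 2 i), hc.comp _ (Fin.natAdd_injective m 2),
    fun i => (hw i).1, fun i => (hw i).2, fun x h1 h2 => ?_⟩
  conv_lhs => rw [Cfsg.Agent.Unitary.Orthonormal.eq_sum_of_card (herm hF) hc (by simp; omega) x]
  rw [Fin.sum_univ_add]
  have hz0 : ∀ i : Fin 2, hf x (c (Fin.castAdd m i)) = 0 := fun i => hvz x h1 h2 i
  rw [Finset.sum_eq_zero (fun i _ => by
    rw [show Cfsg.hermForm n F 2 x (c (Fin.castAdd m i)) = 0 from hz0 i, zero_smul]), zero_add]

namespace Ext

variable {B : Type*} [Group B] {ψ : B →* Cfsg.SU n F 2} {s : (Fin n → F) → B}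

section Frame

variable {m : ℕ}

/-- The vector with given coordinates. -/
def coord (w : Fin m → (Fin n → F)) (c : Fin m → F) : Fin n → F := ∑ i, c i • w i

theorem coord_hf (hF : Fintype.card F = 4) {w : Fin m → (Fin n → F)}
    (hw : Orthonormal (Cfsg.hermForm n F 2) w) (c d : Fin m → F) :
    hf (coord w c) (coord w d) = hf c d :=
  Cfsg.Agent.Unitary.Orthonormal.inner_sum (card_sq hF) (herm hF) hw c d

theorem coord_add (w : Fin m → (Fin n → F)) (c d : Fin m → F) :
    coord w (c + d) = coord w c + coord w d := by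
  simp [coord, add_smul, Finset.sum_add_distrib]

theorem coord_smul (w : Fin m → (Fin n → F)) (a : F) (c : Fin m → F) : coord w (a • c) = a • coord w c := by
  simp [coord, Finset.smul_sum, smul_smul]

theorem coord_zero (w : Fin m → (Fin n → F)) : coord w (0 : Fin m → F) = 0 := by simp [coord]

theorem coord_perp (hF : Fintype.card F = 4) {w : Fin m → (Fin n → F)} {v : Fin n → F}
    (hwv : ∀ i, hf (w i) v = 0) (c : Fin m → F) : hf (coord w c) v = 0 := by
  show Cfsg.hermForm n F 2 (∑ i, c i • w i) v = 0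
  rw [(herm hF).sum_left]
  exact Finset.sum_eq_zero fun i _ => by
    rw [(herm hF).smul_left, show Cfsg.hermForm n F 2 (w i) v = 0 from hwv i, mul_zero]

theorem coord_orthPair (hF : Fintype.card F = 4) {w : Fin m → (Fin n → F)} {v z : Fin n → F}
    (hw : Orthonormal (Cfsg.hermForm n F 2) w) (hwv : ∀ i, hf (w i) v = 0) (hwz : ∀ i, hf (w i) z = 0)
    (hv : Iso v) (hz : Partner v z) {c : Fin m → F} (hc : Iso c) : OrthPair v (coord w c) := by
  refine ⟨hv, ⟨fun h => hc.1 ?_, by rw [coord_hf hF hw]; exact hc.2⟩,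
    (hf_eq_zero_symm hF).1 (coord_perp hF hwv c), fun a ha => ?_⟩
  · funext i
    have h1 : Cfsg.hermForm n F 2 (coord w c) (w i) = 0 := by rw [h]; exact hf_zero_left hF _
    rwa [coord, Cfsg.Agent.Unitary.Orthonormal.coeff (herm hF) hw] at h1
  · have h1 := coord_perp hF hwz c
    rw [ha, hf_smul_left hF, hz.2, mul_one] at h1
    rw [h1, zero_smul] at ha
    refine hc.1 (funext fun i => ?_)
    have h2 : Cfsg.hermForm n F 2 (coord w c) (w i) = 0 := by rw [ha]; exact hf_zero_left hF _
    rwa [coord, Cfsg.Agent.Unitary.Orthonormal.coeff (herm hF) hw] at h2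

end Frame

theorem radical_transitive (E : Ext ψ s) {m : ℕ} (hm : m + 2 = n) {v z : Fin n → F} (hv : Iso v)
    (hz : Partner v z) {z' : Fin n → F} (hz' : Partner v z') :
    ∃ r ∈ E.radical v, act (ψ r) z = z' := by
  classical
  have hF := E.card
  obtain ⟨w, hw, hwv, hwz, hexp⟩ := exists_frame hF hm hv hz
  have hzv := hf_eq_one_symm hF hz.2
  -- the displacements of `z` that the radical realises
  let T : Set (Fin m → F) := {c | ∃ r ∈ E.radical v, ∃ a : F, act (ψ r) z = z + coord w c + a • v}
  have hadd : ∀ c d, c ∈ T → d ∈ T → c + d ∈ T := by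
    rintro c d ⟨r, hr, a, ha⟩ ⟨r', hr', a', ha'⟩
    obtain ⟨hrv, hrx⟩ := E.radical_spec hv hr
    obtain ⟨e, he⟩ := hrx (coord w d) (coord_perp hF hwv d)
    refine ⟨r * r', mul_mem hr hr', a + e + a', ?_⟩
    rw [map_mul, act_mul, ha', act_add, act_add, act_smul, hrv, ha, he, coord_add, add_smul, add_smul]
    abel
  have hiso : ∀ c : Fin m → F, Iso c → c ∈ T := by
    intro c hc
    have hp := coord_orthPair hF hw hwv hwz hv hz hc
    have hp' := hp.shift hF 1
    refine ⟨E.rho v (coord w c) 1, Subgroup.subset_closure (Or.inl ⟨_, _, hp, rfl⟩), 1, ?_⟩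
    have hzc : hf z (coord w c) = 0 := (hf_eq_zero_symm hF).1 (coord_perp hF hwz c)
    rw [rho, map_mul, E.map_s _ hp.2.1, E.map_s _ hp'.2.1, act_mul, act_tv hF hp'.2.1.2,
      hf_add_right hF, hf_smul_right hF, hzc, hzv, zero_add, one_pow, one_mul, one_smul, one_smul,
      act_tv hF hp.2.1.2, hf_add_left hF, hf_add_left hF, hzc, hp.2.1.2,
      show hf v (coord w c) = 0 from hp.2.2.1, add_zero, add_zero, zero_smul, add_zero, add_assoc]
  have hzero : (0 : Fin m → F) ∈ T :=
    ⟨1, one_mem _, 0, by rw [map_one, act_one, coord_zero, zero_smul, add_zero, add_zero]⟩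
  have hall : ∀ c, c ∈ T := by
    obtain ⟨ω, hω0, hω⟩ := exists_omega hF
    have hsingle : ∀ (j : Fin m) (a : F), Pi.single j a ∈ T := by
      intro j a
      by_cases ha : a = 0
      · rw [ha, Pi.single_zero]; exact hzero
      obtain ⟨i, hij⟩ : ∃ i : Fin m, i ≠ j := by
        have : 1 < Fintype.card (Fin m) := by
          rw [Fintype.card_fin]; have := E.five; omega
        exact Fintype.exists_ne_of_one_lt_card this j
      have hI : ∀ d : F, d ≠ 0 → Iso (Pi.single i a + Pi.single j d : Fin m → F) := fun d hd => by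
        refine ⟨fun h => ha ?_, ?_⟩
        · have := congrFun h i
          simpa [hij] using this
        · have hso := single_orthonormal (card_sq hF) m (F := F)
          have e1 : ∀ (p : Fin m) (x : F), (Pi.single p x : Fin m → F) = x • Pi.single p 1 := fun p x => by
            rw [← Pi.single_smul', smul_eq_mul, mul_one]
          rw [e1 i, e1 j, hf_add_left hF, hf_add_right hF, hf_add_right hF]
          simp only [hf_smul_left hF, hf_smul_right hF]
          rw [show hf (Pi.single i 1 : Fin m → F) (Pi.single i 1) = 1 from hso.1 i,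
            show hf (Pi.single j 1 : Fin m → F) (Pi.single j 1) = 1 from hso.1 j,
            show hf (Pi.single i 1 : Fin m → F) (Pi.single j 1) = 0 from hso.2 hij,
            show hf (Pi.single j 1 : Fin m → F) (Pi.single i 1) = 0 from hso.2 hij.symm]
          linear_combination mul_sq_self hF ha + mul_sq_self hF hd + two_eq_zero hF
      have h1 := hadd _ _ (hiso _ (hI (ω * a) (mul_ne_zero hω0 ha)))
        (hiso _ (hI ((ω + 1) * a) (mul_ne_zero (by rw [← hω]; exact pow_ne_zero _ hω0) ha)))
      rw [add_add_add_comm, vadd_self hF, zero_add, ← Pi.single_add, ← add_mul, ← add_assoc, add_self hF,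
        zero_add, one_mul] at h1
      exact h1
    intro c
    rw [← Finset.univ_sum_single c]
    exact Finset.sum_induction _ (· ∈ T) hadd hzero fun j _ => hsingle j _
  -- finish with a transvection at `v`
  set x := z' + z + hf (z' + z) z • v with hx
  have hxv : hf x v = 0 := by
    rw [hx, hf_add_left hF, hf_add_left hF, hf_smul_left hF, hv.2, hf_eq_one_symm hF hz'.2, hzv]
    linear_combination two_eq_zero hF
  have hxz : hf x z = 0 := by
    rw [hx, hf_add_left hF _ (hf (z' + z) z • v), hf_smul_left hF, hz.2, mul_one]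
    exact add_self hF _
  have hxe : x = coord w (fun i => hf x (w i)) := hexp x hxv hxz
  obtain ⟨r, hr, a, ha⟩ := hall (fun i => hf x (w i))
  rw [← hxe] at ha
  set d := a + hf (z' + z) z with hd
  have hrz : act (ψ r) z = z' + d • v := by
    rw [ha, hx, hd, add_smul]
    calc z + (z' + z + hf (z' + z) z • v) + a • v
        = (z + z) + (z' + (a • v + hf (z' + z) z • v)) := by abel
      _ = _ := by rw [vadd_self hF, zero_add]
  have hd2 : d ^ 2 = d := by
    have h1 := act_hf (ψ r) z z
    rw [hrz, hf_add_left hF, hf_add_right hF, hf_add_right hF, hf_smul_left hF, hf_smul_left hF,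
      hf_smul_right hF, hf_smul_right hF, hz.1, hz'.1, hv.2, hz'.2, hf_eq_one_symm hF hz'.2] at h1
    linear_combination h1 - d * two_eq_zero hF
  by_cases hd0 : d = 0
  · exact ⟨r, hr, by rw [hrz, hd0, zero_smul, add_zero]⟩
  · have hd1 : d = 1 := fixed_eq_one hF hd2 hd0
    refine ⟨s v * r, mul_mem (Subgroup.subset_closure (Or.inr rfl)) hr, ?_⟩
    rw [map_mul, act_mul, hrz, hd1, one_smul, E.map_s v hv, act_add, act_tv hF hv.2,
      act_tv_self hF hv.2, hf_eq_one_symm hF hz'.2, one_smul, vadd_cancel hF]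

theorem card_partner_ge (hF : Fintype.card F = 4) {m : ℕ} (hm : m + 2 = n) {v z : Fin n → F} (hv : Iso v)
    (hz : Partner v z) : 2 * 4 ^ m ≤ Nat.card {x : Fin n → F // Partner v x} := by
  classical
  obtain ⟨w, hw, hwv, hwz, -⟩ := exists_frame hF hm hv hz
  have hzv := hf_eq_one_symm hF hz.2
  have htr : ∀ c : Fin m → F, ∃ t : F, t + t ^ 2 = hf c c := fun c =>
    exists_trace hF ((herm hF).self_fixed c)
  choose t ht using htr
  have hmem : ∀ p : (Fin m → F) × Bool,
      Partner v (z + coord w p.1 + (t p.1 + cond p.2 1 0) • v) := by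
    rintro ⟨c, e⟩
    have h1 := coord_perp hF hwv c
    have h2 := coord_perp hF hwz c
    have he : (cond e (1 : F) 0) ^ 2 = cond e 1 0 := by cases e <;> simp
    refine ⟨?_, ?_⟩
    · simp only [hf_add_left hF, hf_add_right hF, hf_smul_left hF, hf_smul_right hF, coord_hf hF hw, h1, h2,
        hz.1, hz.2, hzv, hv.2, (hf_eq_zero_symm hF).1 h1, (hf_eq_zero_symm hF).1 h2, mul_zero, mul_one,
        add_zero, zero_add]
      linear_combination ht c + (hf c c + cond e 1 0 + t c * cond e 1 0) * two_eq_zero hF + he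
    · simp only [hf_add_right hF, hf_smul_right hF, hz.2, hv.2, (hf_eq_zero_symm hF).1 h1, mul_zero,
        add_zero]
  have hinj : Function.Injective fun p : (Fin m → F) × Bool =>
      (⟨_, hmem p⟩ : {x : Fin n → F // Partner v x}) := by
    rintro ⟨c, e⟩ ⟨c', e'⟩ h
    have h0 := congrArg Subtype.val h
    simp only at h0
    have hc : c = c' := by
      funext i
      have h1 := congrArg (fun x => hf x (w i)) h0
      simp only [hf_add_left hF, hf_smul_left hF, (hf_eq_zero_symm hF).1 (hwz i),
        (hf_eq_zero_symm hF).1 (hwv i), mul_zero, add_zero, zero_add] at h1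
      have h2 : Cfsg.hermForm n F 2 (coord w c) (w i) = Cfsg.hermForm n F 2 (coord w c') (w i) := h1
      rwa [coord, coord, Cfsg.Agent.Unitary.Orthonormal.coeff (herm hF) hw, Cfsg.Agent.Unitary.Orthonormal.coeff (herm hF) hw] at h2
    subst hc
    have h1 := congrArg (fun x => hf x z) h0
    simp only [hf_add_left hF, hf_smul_left hF, hz.2, mul_one, add_right_inj] at h1
    cases e <;> cases e' <;> simp_all
  have h := Nat.card_le_card_of_injective _ hinj
  rw [Nat.card_prod, Nat.card_fun, Nat.card_fin, Nat.card_eq_fintype_card (α := F), hF,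
    Nat.card_eq_fintype_card, Fintype.card_bool, mul_comm] at h
  exact h

/-- The radical is bounded by the closure of the generators. -/
theorem exists_small (E : Ext ψ s) [Finite B] {v : Fin n → F} (hv : Iso v) :
    ∀ L : List (Fin n → F), (∀ u ∈ L, OrthPair v u) →
      ∃ M : Subgroup B, M ≤ E.radical v ∧ s v ∈ M ∧ (∀ u ∈ L, ∀ b, E.rho v u b ∈ M) ∧
        Nat.card M ≤ 2 * 4 ^ L.length ∧
        ∀ g : B, act (ψ g) v = v → (∀ u ∈ L, ∃ c : F, act (ψ g) u = u + c • v) →
          ∀ x ∈ M, g * x * g⁻¹ ∈ M := by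
  classical
  have hF := E.card
  intro L
  induction L with
  | nil =>
    intro _
    refine ⟨Subgroup.zpowers (s v), Subgroup.zpowers_le.2 (Subgroup.subset_closure (Or.inr rfl)),
      Subgroup.mem_zpowers _, by simp, ?_, fun g hg _ x hx => ?_⟩
    · rw [Nat.card_zpowers, List.length_nil, pow_zero, mul_one]
      exact Nat.le_of_dvd (by norm_num) (orderOf_dvd_of_pow_eq_one (by rw [pow_two, E.sq v hv]))
    · obtain ⟨k, rfl⟩ := Subgroup.mem_zpowers_iff.1 hx
      refine Subgroup.mem_zpowers_iff.2 ⟨k, ?_⟩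
      rw [← conj_zpow, E.equiv g v hv, hg]
  | cons u L ih =>
    intro hL
    have hu : OrthPair v u := hL u List.mem_cons_self
    obtain ⟨K, hKR, hKv, hKL, hKc, hKn⟩ := ih fun w hw => hL w (List.mem_cons_of_mem _ hw)
    have hrho : ∀ b, E.rho v u b ∈ E.radical v := fun b => Subgroup.subset_closure (Or.inl ⟨u, b, hu, rfl⟩)
    let Y : Set B := Set.range fun p : K × F => (p.1 : B) * E.rho v u p.2
    let M : Subgroup B := Subgroup.closure ((K : Set B) ∪ Set.range (E.rho v u))
    have hnorm : ∀ b, ∀ x ∈ K, E.rho v u b * x * (E.rho v u b)⁻¹ ∈ K := fun b x hx =>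
      hKn _ (E.radical_spec hv (hrho b)).1
        (fun w hw => (E.radical_spec hv (hrho b)).2 w
          ((hf_eq_zero_symm hF).1 (hL w (List.mem_cons_of_mem _ hw)).2.2.1)) x hx
    have hsub : (M : Set B) ⊆ Y := by
      intro x hx
      induction hx using Subgroup.closure_induction_left with
      | one => exact ⟨(1, 0), by simp [E.rho_zero hu]⟩
      | mul_left t ht y hy ih =>
        obtain ⟨⟨k, b⟩, rfl⟩ := ih
        rcases ht with ht | ⟨a, rfl⟩
        · exact ⟨(⟨t, ht⟩ * k, b), by simp [mul_assoc]⟩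
        · have e : E.rho v u a * ((k : B) * E.rho v u b)
              = E.rho v u a * k * (E.rho v u a)⁻¹ * (E.rho v u a * E.rho v u b) := by group
          show E.rho v u a * ((k : B) * E.rho v u b) ∈ Y
          rw [e]
          rcases E.rho_mul hu a b with h | h <;> rw [h]
          · exact ⟨(⟨_, hnorm a k k.2⟩, a + b), rfl⟩
          · exact ⟨(⟨_, hnorm a k k.2⟩ * ⟨s v, hKv⟩, a + b), by simp [mul_assoc]⟩
      | inv_mul_cancel t ht y hy ih =>
        obtain ⟨⟨k, b⟩, rfl⟩ := ih
        rcases ht with ht | ⟨a, rfl⟩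
        · exact ⟨(⟨t, ht⟩⁻¹ * k, b), by simp [mul_assoc]⟩
        · have e : (E.rho v u a)⁻¹ * ((k : B) * E.rho v u b)
              = E.rho v u a * k * (E.rho v u a)⁻¹ * (E.rho v u a * E.rho v u b) := by
            conv_lhs => rw [E.rho_inv hu]
            group
          show (E.rho v u a)⁻¹ * ((k : B) * E.rho v u b) ∈ Y
          rw [e]
          rcases E.rho_mul hu a b with h | h <;> rw [h]
          · exact ⟨(⟨_, hnorm a k k.2⟩, a + b), rfl⟩
          · exact ⟨(⟨_, hnorm a k k.2⟩ * ⟨s v, hKv⟩, a + b), by simp [mul_assoc]⟩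
    refine ⟨M, (Subgroup.closure_le _).2 (Set.union_subset hKR (by rintro _ ⟨b, rfl⟩; exact hrho b)),
      Subgroup.subset_closure (Or.inl hKv), ?_, ?_, fun g hg hgL x hx => ?_⟩
    · intro w hw b
      rcases List.mem_cons.1 hw with rfl | hw
      exacts [Subgroup.subset_closure (Or.inr ⟨b, rfl⟩), Subgroup.subset_closure (Or.inl (hKL w hw b))]
    · have h1 : Nat.card M ≤ Nat.card Y := Nat.card_mono (Set.finite_range _) hsub
      refine h1.trans ((Finite.card_range_le _).trans ?_)
      rw [Nat.card_prod, Nat.card_eq_fintype_card (α := F), hF, List.length_cons, pow_succ]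
      calc Nat.card K * 4 ≤ 2 * 4 ^ L.length * 4 := Nat.mul_le_mul_right 4 hKc
        _ = _ := by ring
    · induction hx using Subgroup.closure_induction with
      | mem p hp =>
        rcases hp with hp | ⟨b, rfl⟩
        · exact Subgroup.subset_closure
            (Or.inl (hKn g hg (fun w hw => hgL w (List.mem_cons_of_mem _ hw)) p hp))
        · obtain ⟨c, hc⟩ := hgL u List.mem_cons_self
          rcases E.rho_move hu hg hc b with h | h <;> rw [h]
          · exact Subgroup.subset_closure (Or.inr ⟨b, rfl⟩)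
          · exact mul_mem (Subgroup.subset_closure (Or.inl hKv)) (Subgroup.subset_closure (Or.inr ⟨b, rfl⟩))
      | one => simp
      | mul a b _ _ ha hb =>
        have e : g * (a * b) * g⁻¹ = g * a * g⁻¹ * (g * b * g⁻¹) := by group
        rw [e]; exact mul_mem ha hb
      | inv a _ ha =>
        have e : g * a⁻¹ * g⁻¹ = (g * a * g⁻¹)⁻¹ := by group
        rw [e]; exact inv_mem ha

theorem card_radical_le' (E : Ext ψ s) [Finite B] {m k : ℕ} (hm : m + 2 = n) (hg : HasGensN F m k)
    {v : Fin n → F} (hv : Iso v) : Nat.card (E.radical v) ≤ 2 * 4 ^ k := by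
  classical
  have hF := E.card
  obtain ⟨z, hz, -⟩ := exists_partner hF (k := 0) (b := Fin.elim0) linearIndependent_empty_type hv
    (fun i => i.elim0) (by simp [Submodule.span_empty, hv.1])
  obtain ⟨w, hw, hwv, hwz, hexp⟩ := exists_frame hF hm hv hz
  obtain ⟨g, hgI, hgP⟩ := hg
  obtain ⟨M, hMR, hMv, hMg, hMc, hMn⟩ := E.exists_small hv (List.ofFn fun i => coord w (g i)) fun u hu => by
    obtain ⟨i, rfl⟩ := List.mem_ofFn.1 hu
    exact coord_orthPair hF hw hwv hwz hv hz (hgI i)
  rw [List.length_ofFn] at hMc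
  -- the good classes
  let P : Set (Fin m → F) := {c | Iso c ∧ ∀ b, E.rho v (coord w c) b ∈ M}
  have hall : ∀ c, Iso c → c ∈ P := by
    refine hgP P (fun i => ⟨hgI i, hMg _ (List.mem_ofFn.2 ⟨i, rfl⟩)⟩) ?_ ?_
    · rintro a ⟨ha, haM⟩ b ⟨hb, hbM⟩ hab
      have hpa := coord_orthPair hF hw hwv hwz hv hz ha
      have hpb := coord_orthPair hF hw hwv hwz hv hz hb
      have hI : Iso (b + hf b a • a) := by
        refine ⟨fun h => ?_, ?_⟩
        · have h1 := congrArg (fun x => hf x a) h
          simp only [hf_add_left hF, hf_smul_left hF, ha.2, hf_zero_left hF, mul_zero, add_zero] at h1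
          exact hab h1
        · rw [hf_add_left hF, hf_add_right hF, hf_add_right hF, hf_smul_left hF, hf_smul_left hF,
            hf_smul_right hF, hf_smul_right hF, ha.2, hb.2, hf_symm hF b a]
          linear_combination (hf b a * hf b a ^ 2) * two_eq_zero hF
      refine ⟨hI, fun c => ?_⟩
      have e1 : act (ψ (s (coord w a))) v = v := by
        rw [E.map_s _ hpa.2.1, act_tv_of_orth hF hpa.2.1.2 hpa.2.2.1]
      have e2 : act (ψ (s (coord w a))) (coord w b) = coord w (b + hf b a • a) := by
        rw [E.map_s _ hpa.2.1, act_tv hF hpa.2.1.2, coord_hf hF hw, coord_add, coord_smul]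
      have e3 := E.rho_conj hpb c e1
      rw [e2] at e3
      rw [← e3]
      set q := E.rho v (coord w b) c with hq
      have hqR : q ∈ E.radical v := Subgroup.subset_closure (Or.inl ⟨_, _, hpb, rfl⟩)
      obtain ⟨d, hd⟩ := (E.radical_spec hv hqR).2 (coord w a) (coord_perp hF hwv a)
      have e4 := E.equiv q (coord w a) hpa.2.1
      rw [hd] at e4
      have e5 : s (coord w a) * q * (s (coord w a))⁻¹ * q⁻¹ = E.rho v (coord w a) d := by
        rw [show s (coord w a) * q * (s (coord w a))⁻¹ * q⁻¹
          = s (coord w a) * (q * (s (coord w a))⁻¹ * q⁻¹) by group, E.s_inv hpa.2.1, e4]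
        rfl
      rw [show s (coord w a) * q * (s (coord w a))⁻¹
        = (s (coord w a) * q * (s (coord w a))⁻¹ * q⁻¹) * q by group, e5]
      exact mul_mem (haM d) (hbM c)
    · rintro c a ⟨ha, haM⟩ hc
      refine ⟨ha.smul hF hc, fun b => ?_⟩
      rw [coord_smul, E.rho_smul (coord_orthPair hF hw hwv hwz hv hz ha) hc]
      exact haM _
  have hle : E.radical v ≤ M := by
    refine (Subgroup.closure_le _).2 ?_
    rintro _ (⟨u, b, hu, rfl⟩ | h)
    · set a := hf u z with ha
      set u' := u + a • v with hu'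
      have h1 : hf u' v = 0 := by
        rw [hu', hf_add_left hF, hf_smul_left hF, hv.2, (hf_eq_zero_symm hF).1 hu.2.2.1]; simp
      have h2 : hf u' z = 0 := by
        rw [hu', hf_add_left hF, hf_smul_left hF, hz.2, mul_one, ← ha, add_self hF]
      have hc : coord w (fun i => hf u' (w i)) = u' := (hexp u' h1 h2).symm
      have hI : Iso (fun i => hf u' (w i)) := by
        refine ⟨fun h => ?_, ?_⟩
        · rw [h, coord_zero] at hc
          exact (hu.shift hF a).2.1.1 hc.symm
        · rw [← coord_hf hF hw, hc]; exact (hu.shift hF a).2.1.2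
      have hm2 := (hall _ hI).2
      rw [hc] at hm2
      have hue : u = u' + a • v := by rw [hu', vadd_cancel hF]
      show E.rho v u b ∈ M
      rw [hue, E.rho_shift (hu.shift hF a)]
      exact mul_mem (hm2 a) (hm2 (a + b))
    · rw [Set.mem_singleton_iff] at h
      show _ ∈ M
      rw [h]; exact hMv
  exact (Nat.card_le_card_of_injective _ (Subgroup.inclusion_injective hle)).trans hMc

theorem card_radical_le (E : Ext ψ s) [Finite B] {m : ℕ} (hm : m + 2 = n) (hg : HasGens F m)
    {v : Fin n → F} (hv : Iso v) : Nat.card (E.radical v) ≤ 2 * 4 ^ m :=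
  E.card_radical_le' hm hg hv

/-- The radical acts freely on partners, and is a 2-group. -/
theorem radical_free (E : Ext ψ s) [Finite B] {m : ℕ} (hm : m + 2 = n) (hg : HasGens F m) {v : Fin n → F}
    (hv : Iso v) :
    IsPGroup 2 (E.radical v) ∧
      ∀ z, Partner v z → ∀ r ∈ E.radical v, act (ψ r) z = z → r = 1 := by
  classical
  have hF := E.card
  have hle := E.card_radical_le hm hg hv
  have hfree : ∀ z, Partner v z → Nat.card (E.radical v) = 2 * 4 ^ m ∧
      ∀ r ∈ E.radical v, act (ψ r) z = z → r = 1 := by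
    intro z hz
    have hmap : ∀ r : E.radical v, Partner v (act (ψ r) z) := fun r =>
      ⟨by rw [act_hf]; exact hz.1, by
        have h1 := act_hf (ψ (r : B)) v z
        rw [(E.radical_spec hv r.2).1] at h1
        rw [h1]; exact hz.2⟩
    let f : E.radical v → {x : Fin n → F // Partner v x} := fun r => ⟨_, hmap r⟩
    have hs : Function.Surjective f := by
      rintro ⟨x, hx⟩
      obtain ⟨r, hr, hrx⟩ := E.radical_transitive hm hv hz hx
      exact ⟨⟨r, hr⟩, Subtype.ext hrx⟩
    have h1 := Nat.card_le_card_of_surjective f hs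
    have h2 := card_partner_ge hF hm hv hz
    have hb := (Nat.bijective_iff_surjective_and_card f).2 ⟨hs, by omega⟩
    refine ⟨by omega, fun r hr hrz => ?_⟩
    have : f ⟨r, hr⟩ = f 1 := Subtype.ext (by
      show act (ψ r) z = act (ψ ((1 : E.radical v) : B)) z
      rw [hrz, OneMemClass.coe_one, map_one, act_one])
    exact congrArg Subtype.val (hb.1 this)
  obtain ⟨z, hz, -⟩ := exists_partner hF (k := 0) (b := Fin.elim0) linearIndependent_empty_type hv
    (fun i => i.elim0) (by simp [Submodule.span_empty, hv.1])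
  refine ⟨IsPGroup.of_card (n := 2 * m + 1) ?_, fun z hz => (hfree z hz).2⟩
  rw [(hfree z hz).1, pow_succ, pow_mul]
  ring

end Ext

end Cfsg.Agent.ThreeTransSU
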