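/-
An extension of SU(n,2) with lifted transvections is trivial.

The Sylow 2-subgroups split over the kernel (descend along isotropic vectors with the radicals), and
transfer kills a central 2-subgroup of the derived group.
Main result (namespace `Cfsg.Agent.ThreeTransSU`): `Ext.ker_eq_bot`.
-/
import Cfsg.Agent.Lib.ThreeTransSU.RadicalBound

set_option autoImplicit false

namespace Cfsg.Agent.ThreeTransSU

open Cfsg.Agent.Unitary Cfsg.Agent.U62Cover
open scoped Matrix commutatorElement

variable {F : Type*} [Field F] [Fintype F] {n : ℕ}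

/-- An element fixing an orthonormal (n-1)-family is trivial. -/
theorem eq_one_of_fix (hF : Fintype.card F = 4) {k : ℕ} (hk : k + 1 = n) {b : Fin k → (Fin n → F)}
    (hb : Cfsg.Agent.Unitary.Orthonormal (Cfsg.hermForm n F 2) b) (g : Cfsg.SU n F 2)
    (h : ∀ i, act g (b i) = b i) : g = 1 := by
  classical
  subst hk
  obtain ⟨c, hc, hcb⟩ := exists_orthonormal_extend (card_sq hF) (herm hF) (hermForm_nondeg (card_sq hF) _)
    hb (n := k + 1) (Nat.le_succ k) (le_of_eq (Module.finrank_fin_fun F).symm)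
  have hexp := Cfsg.Agent.Unitary.Orthonormal.eq_sum_of_card (herm hF) hc (by simp)
  have hfix : ∀ i : Fin k, act g (c i.castSucc) = c i.castSucc := fun i => by
    rw [show c i.castSucc = b i from hcb i]; exact h i
  set l := hf (act g (c (Fin.last k))) (c (Fin.last k)) with hl
  have hlast : act g (c (Fin.last k)) = l • c (Fin.last k) := by
    conv_lhs => rw [hexp (act g (c (Fin.last k)))]
    rw [Fin.sum_univ_castSucc, Finset.sum_eq_zero, zero_add]
    intro i _
    have h1 := act_hf g (c (Fin.last k)) (c i.castSucc)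
    rw [hfix i] at h1
    rw [show Cfsg.hermForm (k + 1) F 2 (act g (c (Fin.last k))) (c i.castSucc) = 0 from
      h1.trans (hc.2 (Fin.castSucc_lt_last i).ne'), zero_smul]
  set A : Matrix (Fin (k + 1)) (Fin (k + 1)) F :=
    ((g : Matrix.SpecialLinearGroup (Fin (k + 1)) F) : Matrix (Fin (k + 1)) (Fin (k + 1)) F) with hA
  set C : Matrix (Fin (k + 1)) (Fin (k + 1)) F := Matrix.of fun i j => c j i with hC
  set d : Fin (k + 1) → F := Fin.snoc (fun _ => 1) l with hd
  have hCu : IsUnit C := Matrix.linearIndependent_cols_iff_isUnit.1 (hc.linearIndependent (herm hF))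
  have hmul : A * C = C * Matrix.diagonal d := by
    ext i j
    rw [Matrix.mul_diagonal]
    show (A *ᵥ c j) i = c j i * d j
    induction j using Fin.lastCases with
    | last =>
      rw [show A *ᵥ c (Fin.last k) = l • c (Fin.last k) from hlast, hd, Fin.snoc_last, Pi.smul_apply,
        smul_eq_mul, mul_comm]
    | cast j => rw [show A *ᵥ c j.castSucc = c j.castSucc from hfix j, hd, Fin.snoc_castSucc, mul_one]
  have hdet := congrArg Matrix.det hmul
  rw [Matrix.det_mul, Matrix.det_mul, show A.det = 1 from (g : Matrix.SpecialLinearGroup (Fin (k + 1)) F).2,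
    one_mul, Matrix.det_diagonal, Fin.prod_univ_castSucc] at hdet
  simp only [hd, Fin.snoc_castSucc, Fin.snoc_last, Finset.prod_const_one, one_mul] at hdet
  have hl1 : l = 1 := by
    have h0 : C.det ≠ 0 := ((Matrix.isUnit_iff_isUnit_det C).1 hCu).ne_zero
    exact (mul_eq_left₀ h0).1 hdet.symm
  refine act_ext fun x => ?_
  rw [act_one, hexp x]
  show A *ᵥ _ = _
  rw [Matrix.mulVec_sum]
  refine Finset.sum_congr rfl fun i _ => ?_
  rw [Matrix.mulVec_smul]
  congr 1
  induction i using Fin.lastCases with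
  | last => rw [show A *ᵥ c (Fin.last k) = l • c (Fin.last k) from hlast, hl1, one_smul]
  | cast i => exact hfix i

/-- Transfer: a central element of the derived group lies in the derived group of a Sylow subgroup containing it. -/
theorem mem_commutator_sylow {B : Type*} [Group B] [Finite B] {p : ℕ} [Fact p.Prime] (P : Sylow p B) {x : B}
    (hxP : x ∈ (P : Subgroup B)) (hx : x ∈ Subgroup.center B) (hx' : x ∈ commutator B) :
    (⟨x, hxP⟩ : (P : Subgroup B)) ∈ commutator (P : Subgroup B) := by
  have key : ∀ (k : ℕ) (g₀ : B), g₀⁻¹ * x ^ k * g₀ ∈ (P : Subgroup B) → g₀⁻¹ * x ^ k * g₀ = x ^ k := by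
    intro k g₀ _
    rw [mul_assoc, ← Subgroup.mem_center_iff.1 (pow_mem hx k) g₀, ← mul_assoc, inv_mul_cancel, one_mul]
  let φ := MonoidHom.transfer (Abelianization.of : (P : Subgroup B) →* _)
  have h1 : φ x = 1 := Abelianization.commutator_subset_ker φ hx'
  rw [MonoidHom.transfer_eq_pow _ x key] at h1
  have h2 : (⟨x, hxP⟩ : (P : Subgroup B)) ^ (P : Subgroup B).index ∈ commutator (P : Subgroup B) := by
    rw [← Abelianization.ker_of, MonoidHom.mem_ker]
    rw [← h1]
    rfl
  have hcop : (P : Subgroup B).index.Coprime (orderOf (⟨x, hxP⟩ : (P : Subgroup B))) := by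
    obtain ⟨j, hj⟩ := IsPGroup.iff_orderOf.1 P.isPGroup' (⟨x, hxP⟩ : (P : Subgroup B))
    rw [hj]
    exact Nat.Coprime.pow_right j ((Nat.Prime.coprime_iff_not_dvd Fact.out).2 P.not_dvd_index).symm
  obtain ⟨e, he⟩ := exists_pow_eq_self_of_coprime hcop
  rw [← he]
  exact pow_mem h2 e

namespace Ext

variable {B : Type*} [Group B] {ψ : B →* Cfsg.SU n F 2} {s : (Fin n → F) → B}

/-- The elements fixing a family of vectors. -/
def fixSub (_E : Ext ψ s) {k : ℕ} (b : Fin k → (Fin n → F)) : Subgroup B where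
  carrier := {g | ∀ i, act (ψ g) (b i) = b i}
  one_mem' i := by rw [map_one, act_one]
  mul_mem' {g h} hg hh i := by rw [map_mul, act_mul, hh i, hg i]
  inv_mem' {g} hg i := by rw [map_inv]; conv_lhs => rw [← hg i, act_inv_act]

theorem mem_fixSub (E : Ext ψ s) {k : ℕ} {b : Fin k → (Fin n → F)} {g : B} :
    g ∈ E.fixSub b ↔ ∀ i, act (ψ g) (b i) = b i := Iff.rfl

theorem even_isotropic (hF : Fintype.card F = 4) {k j : ℕ} (hk : k + (2 * j + 3) = n)
    {b : Fin k → (Fin n → F)} (hb : Cfsg.Agent.Unitary.Orthonormal (Cfsg.hermForm n F 2) b) :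
    2 ∣ Nat.card {v : Fin n → F // hf v v = 0 ∧ ∀ i, hf v (b i) = 0} := by
  show 2 ∣ Nat.card {v : Fin n → F // Cfsg.hermForm n F 2 v v = 0 ∧ ∀ i, Cfsg.hermForm n F 2 v (b i) = 0}
  rw [orthonormal_next (card_sq hF) (by omega) hb, isotropic_count (card_sq hF), if_neg (by
    rw [Nat.not_even_iff_odd]; exact ⟨j + 1, by omega⟩)]
  have h1 : Odd (2 ^ (n - k) + 1) := by
    refine Even.add_one ?_
    exact (Nat.even_pow).2 ⟨even_two, by omega⟩
  have h2 : Odd (2 ^ (n - k - 1) - 1) := by
    refine Nat.Even.sub_odd (Nat.one_le_two_pow) ?_ odd_one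
    exact (Nat.even_pow).2 ⟨even_two, by omega⟩
  exact even_iff_two_dvd.1 (h1.mul h2).add_one

/-- Two-subgroups fixing an orthonormal family split over the kernel. -/
theorem split (E : Ext ψ s) [Finite B] (hg : HasGens F (n - 2)) : ∀ (j k : ℕ), k + (2 * j + 1) = n →
    ∀ b : Fin k → (Fin n → F), Cfsg.Agent.Unitary.Orthonormal (Cfsg.hermForm n F 2) b →
    ∀ P : Subgroup B, IsPGroup 2 P → P ≤ E.fixSub b →
      ∃ U : Subgroup B, U ≤ E.fixSub b ∧ U ⊓ ψ.ker = ⊥ ∧ P ≤ ψ.ker ⊔ U := by
  classical
  have hF := E.card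
  have : Fact (Nat.Prime 2) := ⟨Nat.prime_two⟩
  intro j
  induction j with
  | zero =>
    intro k hk b hb P _ hPb
    exact ⟨⊥, bot_le, bot_inf_eq _, fun p hp => Subgroup.mem_sup_left (eq_one_of_fix hF hk hb _ (hPb hp))⟩
  | succ j ih =>
    intro k hk b hb P hP hPb
    -- a fixed isotropic vector
    let V0 := {v : Fin n → F // hf v v = 0 ∧ ∀ i, hf v (b i) = 0}
    let inst : MulAction P V0 :=
      { smul := fun p v => ⟨act (ψ p) v.1, by rw [act_hf]; exact v.2.1, fun i => by
          rw [← hPb p.2 i, act_hf]; exact v.2.2 i⟩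
        one_smul := fun v => Subtype.ext (by
          show act (ψ ((1 : P) : B)) v.1 = v.1
          rw [OneMemClass.coe_one, map_one, act_one])
        mul_smul := fun p q v => Subtype.ext (by
          show act (ψ ((p * q : P) : B)) v.1 = act (ψ p) (act (ψ q) v.1)
          rw [Subgroup.coe_mul, map_mul, act_mul]) }
    let zero0 : V0 := ⟨0, hf_zero_left hF 0, fun i => hf_zero_left hF _⟩
    obtain ⟨⟨v, hv0, hvb⟩, hvfix, hne⟩ := hP.exists_fixed_point_of_prime_dvd_card_of_fixed_point V0
      (even_isotropic hF (k := k) (j := j) (by omega) hb) (a := zero0)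
      (fun p => Subtype.ext (act_zero _))
    have hv : Iso v := ⟨fun h => hne (Subtype.ext h.symm), hv0⟩
    have hPv : ∀ p ∈ P, act (ψ p) v = v := fun p hp => congrArg Subtype.val (hvfix ⟨p, hp⟩)
    -- a partner and the larger family
    have hli : LinearIndependent F b := hb.linearIndependent (herm hF)
    have hnot : v ∉ Submodule.span F (Set.range b) := fun hmem => by
      obtain ⟨c, hc⟩ := (Submodule.mem_span_range_iff_exists_fun F).1 hmem
      refine hv.1 ?_
      rw [← hc]
      refine Finset.sum_eq_zero fun i _ => ?_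
      have h1 : Cfsg.hermForm n F 2 (∑ i, c i • b i) (b i) = c i :=
        Cfsg.Agent.Unitary.Orthonormal.coeff (herm hF) hb c i
      rw [hc, show Cfsg.hermForm n F 2 v (b i) = 0 from hvb i] at h1
      rw [← h1, zero_smul]
    obtain ⟨z, hz, hzb⟩ := exists_partner hF hli hv hvb hnot
    obtain ⟨ω, -, hω⟩ := exists_omega hF
    have hpo := pair_orthonormal hF hω hv hz
    let b' : Fin (k + 2) → (Fin n → F) := Fin.append b (pairBasis ω v z)
    have hpb : ∀ i l, hf (pairBasis ω v z l) (b i) = 0 := fun i l => by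
      fin_cases l <;> simp [pairBasis, hf_add_left hF, hf_smul_left hF, hvb i, hzb i]
    have hb' : Cfsg.Agent.Unitary.Orthonormal (Cfsg.hermForm n F 2) b' := by
      refine ⟨fun i => ?_, fun i l hil => ?_⟩
      · induction i using Fin.addCases with
        | left i => simpa [b'] using hb.1 i
        | right i => simpa [b'] using hpo.1 i
      · induction i using Fin.addCases with
        | left i =>
          induction l using Fin.addCases with
          | left l =>
            simp only [b', Fin.append_left]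
            exact hb.2 fun h => hil (by rw [h])
          | right l =>
            simp only [b', Fin.append_left, Fin.append_right]
            exact (hf_eq_zero_symm hF).1 (hpb i l)
        | right i =>
          induction l using Fin.addCases with
          | left l =>
            simp only [b', Fin.append_left, Fin.append_right]
            exact hpb l i
          | right l =>
            simp only [b', Fin.append_right]
            exact hpo.2 fun h => hil (by rw [h])
    have hfix' : ∀ g : B, g ∈ E.fixSub b' ↔ g ∈ E.fixSub b ∧ act (ψ g) v = v ∧ act (ψ g) z = z := by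
      intro g
      refine ⟨fun h => ?_, fun ⟨h1, h2, h3⟩ i => ?_⟩
      · have e : ∀ l, act (ψ g) (pairBasis ω v z l) = pairBasis ω v z l := fun l => by
          simpa [b'] using h (Fin.natAdd k l)
        have e0 := e 0
        have e1 := e 1
        simp only [pairBasis, Matrix.cons_val_zero, Matrix.cons_val_one, act_add, act_smul] at e0 e1
        have hv' : act (ψ g) v = v := by
          have e2 : (ω + ω ^ 2) • act (ψ g) v = (ω + ω ^ 2) • v := by
            calc (ω + ω ^ 2) • act (ψ g) v
                = (ω • act (ψ g) v + act (ψ g) z) + (ω ^ 2 • act (ψ g) v + act (ψ g) z) := by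
                  rw [add_smul, add_add_add_comm, vadd_self hF, add_zero]
              _ = (ω • v + z) + (ω ^ 2 • v + z) := by rw [e0, e1]
              _ = _ := by rw [add_smul, add_add_add_comm, vadd_self hF, add_zero]
          rw [hω, ← add_assoc, add_self hF, zero_add, one_smul, one_smul] at e2
          exact e2
        refine ⟨fun i => by simpa [b'] using h (Fin.castAdd 2 i), hv', ?_⟩
        rw [hv', add_right_inj] at e0
        exact e0
      · induction i using Fin.addCases with
        | left i => simpa [b'] using h1 i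
        | right i => fin_cases i <;> simp [b', pairBasis, act_add, act_smul, h2, h3]
    have hm : (n - 2) + 2 = n := by have := E.five; omega
    obtain ⟨hR2, hfree⟩ := E.radical_free hm hg hv
    set R := E.radical v ⊓ E.fixSub b with hRdef
    have hnormR : ∀ g ∈ E.fixSub b, act (ψ g) v = v → g ∈ Subgroup.normalizer (R : Set B) := by
      intro g hgb hgv
      rw [Subgroup.mem_normalizer_iff]
      intro r
      have h1 := Subgroup.mem_normalizer_iff.1 (E.radical_conj hv hgv) r
      simp only [hRdef, Subgroup.mem_inf]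
      refine ⟨fun h => ⟨h1.1 h.1, mul_mem (mul_mem hgb h.2) (inv_mem hgb)⟩, fun h => ⟨h1.2 h.1, ?_⟩⟩
      have h3 := mul_mem (mul_mem (inv_mem hgb) h.2) hgb
      rwa [show g⁻¹ * (g * r * g⁻¹) * g = r by group] at h3
    have hRP : IsPGroup 2 (R ⊔ P : Subgroup B) :=
      IsPGroup.to_sup_of_normal_left' (hR2.to_le inf_le_left) hP fun p hp =>
        hnormR p (hPb hp) (hPv p hp)
    set P2 := (R ⊔ P) ⊓ E.fixSub b' with hP2
    obtain ⟨U2, hU2b, hU2N, hP2U⟩ :=
      ih (k + 2) (by omega) b' hb' P2 (hRP.to_le inf_le_left) inf_le_right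
    have hU2 : U2 ≤ Subgroup.normalizer (R : Set B) := fun g hg' => by
      obtain ⟨h1, h2, -⟩ := (hfix' g).1 (hU2b hg')
      exact hnormR g h1 h2
    refine ⟨U2 ⊔ R, sup_le (fun g hg' => ((hfix' g).1 (hU2b hg')).1) inf_le_right, ?_, fun p hp => ?_⟩
    · rw [eq_bot_iff]
      rintro x ⟨hx, hxN⟩
      have hx' : x ∈ ((U2 ⊔ R : Subgroup B) : Set B) := hx
      rw [Subgroup.coe_mul_of_left_le_normalizer_right _ _ hU2] at hx'
      obtain ⟨u, hu, r, hr, rfl⟩ := hx'
      obtain ⟨-, -, huz⟩ := (hfix' u).1 (hU2b hu)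
      have hrz : act (ψ r) z = z := by
        have h1 : ψ u * ψ r = 1 := by rw [← map_mul]; exact hxN
        have h2 : ψ r = (ψ u)⁻¹ := eq_inv_of_mul_eq_one_right h1
        rw [h2]
        conv_lhs => rw [← huz, act_inv_act]
      have hr1 : r = 1 := hfree z hz r hr.1 hrz
      subst hr1
      simp only [mul_one] at hxN ⊢
      have h4 : u ∈ U2 ⊓ ψ.ker := ⟨hu, hxN⟩
      rwa [hU2N] at h4
    · have hzp : Partner v (act (ψ p) z) := by
        refine ⟨by rw [act_hf]; exact hz.1, ?_⟩
        have h1 := act_hf (ψ p) v z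
        rw [hPv p hp] at h1
        rw [h1]; exact hz.2
      obtain ⟨r, hr, hrz⟩ := E.radical_transitive hm hv hz hzp
      have hrb : r ∈ E.fixSub b := by
        intro i
        obtain ⟨c, hc⟩ := (E.radical_spec hv hr).2 (b i) ((hf_eq_zero_symm hF).1 (hvb i))
        have h1 := act_hf (ψ r) (b i) z
        rw [hc, hrz, hf_add_left hF, hf_smul_left hF, hzp.2, mul_one] at h1
        have h2 := act_hf (ψ p) (b i) z
        rw [hPb hp i] at h2
        rw [h2, add_eq_left] at h1
        rw [hc, h1, zero_smul, add_zero]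
      have hrR : r ∈ R := ⟨hr, hrb⟩
      have hx : r⁻¹ * p ∈ P2 := by
        refine Subgroup.mem_inf.2 ⟨mul_mem (inv_mem (Subgroup.mem_sup_left (T := P) hrR)) (Subgroup.mem_sup_right (S := R) hp),
          (hfix' _).2 ⟨?_, ?_, ?_⟩⟩
        · exact mul_mem (inv_mem hrb) (hPb hp)
        · rw [map_mul, act_mul, hPv p hp, map_inv]
          conv_lhs => rw [← (E.radical_spec hv hr).1, act_inv_act]
        · rw [map_mul, act_mul, map_inv, ← hrz, act_inv_act]
      have hle : U2 ≤ U2 ⊔ R := le_sup_left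
      rw [show p = r * (r⁻¹ * p) by group]
      exact mul_mem (Subgroup.mem_sup_right (Subgroup.mem_sup_right hrR))
        ((sup_le_sup_left hle ψ.ker) (hP2U hx))

/-- The group is perfect. -/
theorem perfect (E : Ext ψ s) : commutator B = ⊤ := by
  have hF := E.card
  obtain ⟨u₀, w₀, hp, hl⟩ := E.line
  rw [← Abelianization.ker_of, eq_top_iff, ← E.gen, Subgroup.closure_le]
  have hsame : ∀ a, Iso a → Abelianization.of (s a) = Abelianization.of (s u₀) := by
    intro a ha
    obtain ⟨g, hga⟩ := exists_act hF (by linarith [E.five]) hp.1 ha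
    obtain ⟨x, rfl⟩ := E.surj g
    rw [← hga, ← E.equiv x u₀ hp.1, map_mul, map_mul, map_inv, mul_comm, ← mul_assoc, inv_mul_cancel, one_mul]
  obtain ⟨ω, -, hω⟩ := exists_omega hF
  have hi : ∀ a : F, Iso (u₀ + a • w₀) := fun a => ((hp.symm hF).shift hF a).2.1
  have h5 := congrArg Abelianization.of (hl ω hω)
  simp only [lineProd, map_mul, map_one] at h5
  rw [hsame w₀ hp.2.1, hsame (u₀ + w₀) (by simpa using hi 1), hsame _ (hi ω), hsame _ (hi (ω ^ 2))] at h5
  have h2 : Abelianization.of (s u₀) * Abelianization.of (s u₀) = 1 := by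
    rw [← map_mul, E.sq u₀ hp.1, map_one]
  rw [h2, one_mul, mul_assoc, h2, mul_one] at h5
  rintro _ ⟨v, hv, rfl⟩
  show Abelianization.of (s v) = 1
  rw [hsame v hv, h5]

/-- The kernel is trivial. -/
theorem ker_eq_bot (E : Ext ψ s) [Finite B] (hodd : Odd n) (hg : HasGens F (n - 2)) : ψ.ker = ⊥ := by
  classical
  have hF := E.card
  have : Fact (Nat.Prime 2) := ⟨Nat.prime_two⟩
  have hperf := E.perfect
  obtain ⟨j, hj⟩ := hodd
  obtain ⟨P⟩ := (inferInstance : Nonempty (Sylow 2 B))
  obtain ⟨U, -, hUN, hPU⟩ := E.split hg j 0 (by omega) Fin.elim0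
    ⟨fun i => i.elim0, fun i => i.elim0⟩ (P : Subgroup B) P.isPGroup' (fun g _ i => i.elim0)
  rw [eq_bot_iff]
  intro x hx
  have hxc : x ∈ Subgroup.center B := E.central hx
  have hker : ψ.ker ≤ (P : Subgroup B) := by
    have hc := Subgroup.comap_map_eq ψ (P : Subgroup B)
    have h := P.3 (IsPGroup.to_sup_of_normal_right P.isPGroup' E.ker) le_sup_left
    rw [← h]
    exact le_sup_right
  have hmem := mem_commutator_sylow P (hker hx) hxc (hperf ▸ Subgroup.mem_top x)
  have hsub : (commutator (P : Subgroup B)).map (P : Subgroup B).subtype ≤ U := by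
    rw [commutator_def, Subgroup.map_commutator, ← MonoidHom.range_eq_map, Subgroup.range_subtype,
      Subgroup.commutator_le]
    intro a ha b hb
    obtain ⟨a1, ha1, a2, ha2, rfl⟩ := Subgroup.mem_sup_of_normal_left.1 (hPU ha)
    obtain ⟨b1, hb1, b2, hb2, rfl⟩ := Subgroup.mem_sup_of_normal_left.1 (hPU hb)
    have e : ⁅a1 * a2, b1 * b2⁆ = ⁅a2, b2⁆ := by
      have ca := Subgroup.mem_center_iff.1 (E.central ha1)
      have cb := Subgroup.mem_center_iff.1 (E.central hb1)
      rw [commutatorElement_def, commutatorElement_def,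
        show a1 * a2 * (b1 * b2) * (a1 * a2)⁻¹ * (b1 * b2)⁻¹
          = a1 * (a2 * b1) * b2 * a2⁻¹ * a1⁻¹ * (b2⁻¹ * b1⁻¹) by group, cb a2,
        show a1 * (b1 * a2) * b2 * a2⁻¹ * a1⁻¹ * (b2⁻¹ * b1⁻¹)
          = a1 * b1 * ((a2 * b2 * a2⁻¹) * a1⁻¹) * (b2⁻¹ * b1⁻¹) by group,
        show (a2 * b2 * a2⁻¹) * a1⁻¹ = a1⁻¹ * (a2 * b2 * a2⁻¹) from
          ((Commute.inv_left (ca (a2 * b2 * a2⁻¹)).symm).symm).eq,
        show a1 * b1 * (a1⁻¹ * (a2 * b2 * a2⁻¹)) * (b2⁻¹ * b1⁻¹)
          = a1 * (b1 * a1⁻¹) * (a2 * b2 * a2⁻¹ * b2⁻¹) * b1⁻¹ by group,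
        show b1 * a1⁻¹ = a1⁻¹ * b1 from (cb a1⁻¹).symm, ← mul_assoc a1, mul_inv_cancel, one_mul,
        ← cb (a2 * b2 * a2⁻¹ * b2⁻¹), mul_inv_cancel_right]
    rw [e, commutatorElement_def]
    exact mul_mem (mul_mem (mul_mem ha2 hb2) (inv_mem ha2)) (inv_mem hb2)
  have h6 : x ∈ U ⊓ ψ.ker := ⟨hsub ⟨_, hmem, rfl⟩, hx⟩
  rwa [hUN] at h6

end Ext

end Cfsg.Agent.ThreeTransSU
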