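/-
A 3-transposition group over SU(n,2), n ≥ 5 odd: lifts of transvections and the subgroup `Q0`.

For `Setup D π`, a lift of `v` is an element of `D` over the transvection with centre `v`.
Main results (namespace `Cfsg.Agent.ThreeTransSU`):
* `Setup.exists_isLift`, `Setup.isLift_of_mem`, `Setup.isLift_conj`;
* `Setup.commute_of_orth`, `Setup.braid_of_not_orth`;
* `Setup.Q0` (products of two lifts of one transvection) is normal, in the kernel and elementary abelian.
-/
import Cfsg.Agent.Lib.ThreeTransSU.Class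
import Cfsg.Agent.Lib.ThreeTrans.Basic
import Cfsg.Agent.Lib.Cores.Basic

set_option autoImplicit false

namespace Cfsg.Agent.ThreeTransSU

open Cfsg.Agent.Unitary Cfsg.Agent.U62Cover Cfsg.Agent.ThreeTrans

/-- A group with trivial centre generated by a class `D` of 3-transpositions, over SU(n,2) with kernel a 2-group. -/
structure Setup {G : Type*} [Group G] {F : Type*} [Field F] [Fintype F] {n : ℕ} (D : Set G)
    (π : G →* Cfsg.SU n F 2) : Prop where
  card : Fintype.card F = 4
  five : 5 ≤ n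
  odd : Odd n
  cls : Cfsg.IsThreeTranspositionClass D
  center : Subgroup.center G = ⊥
  surj : Function.Surjective π
  ker : IsPGroup 2 π.ker

namespace Setup

variable {G : Type*} [Group G] {F : Type*} [Field F] [Fintype F] {n : ℕ} {D : Set G}
  {π : G →* Cfsg.SU n F 2}

theorem conj_mem (S : Setup D π) (g : G) {d : G} (hd : d ∈ D) : g * d * g⁻¹ ∈ D := by
  obtain ⟨d₁, -, hconj⟩ := S.cls.2.1
  rw [hconj, conjugatesOf, Set.mem_ofPred_eq] at hd ⊢
  exact hd.trans (isConj_iff.2 ⟨g, rfl⟩)

theorem exists_two (S : Setup D π) : ∃ u w : Fin n → F, OrthPair u w := by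
  classical
  have hF := S.card
  have hn := S.five
  have hne : ∀ i j : Fin n, i ≠ j → hf (Pi.single i (1 : F)) (Pi.single j 1) = 0 := fun i j h =>
    (single_orthonormal (card_sq hF) n).2 h
  have he : ∀ i : Fin n, hf (Pi.single i (1 : F)) (Pi.single i 1) = 1 :=
    (single_orthonormal (card_sq hF) n).1
  let i0 : Fin n := ⟨0, by omega⟩
  let i1 : Fin n := ⟨1, by omega⟩
  let i2 : Fin n := ⟨2, by omega⟩
  let i3 : Fin n := ⟨3, by omega⟩
  have iso : ∀ i j : Fin n, i ≠ j → Iso ((Pi.single i 1 : Fin n → F) + Pi.single j 1) := fun i j h => by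
    refine ⟨fun h0 => ?_, ?_⟩
    · have := congrFun h0 i
      simp [h] at this
    · rw [hf_add_left hF, hf_add_right hF, hf_add_right hF, he, he, hne i j h, hne j i h.symm]
      linear_combination two_eq_zero hF
  refine ⟨Pi.single i0 1 + Pi.single i1 1, Pi.single i2 1 + Pi.single i3 1,
    iso _ _ (by simp [i0, i1]), iso _ _ (by simp [i2, i3]), ?_, fun c h => ?_⟩
  · rw [hf_add_left hF, hf_add_right hF, hf_add_right hF, hne _ _ (by simp [i0, i2]),
      hne _ _ (by simp [i0, i3]), hne _ _ (by simp [i1, i2]), hne _ _ (by simp [i1, i3])]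
    simp
  · have := congrFun h i2
    simp [i0, i1, i2, i3] at this

theorem map_ne_one (S : Setup D π) {d : G} (hd : d ∈ D) : π d ≠ 1 := by
  intro h1
  obtain ⟨d₁, -, hconj⟩ := S.cls.2.1
  have hall : ∀ d' ∈ D, π d' = 1 := fun d' hd' => by
    rw [hconj, conjugatesOf, Set.mem_ofPred_eq] at hd hd'
    obtain ⟨g, hg⟩ := isConj_iff.1 (hd.symm.trans hd')
    rw [← hg, map_mul, map_mul, h1, mul_one, ← map_mul, mul_inv_cancel, map_one]
  have htop : (⊤ : Subgroup G) ≤ π.ker := S.cls.2.2 ▸ (Subgroup.closure_le _).2 hall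
  obtain ⟨u, w, hu, -⟩ := S.exists_two
  obtain ⟨x, hx⟩ := S.surj (tv S.card u)
  exact tv_ne_one S.card hu (hx ▸ htop (Subgroup.mem_top x))

theorem image_spec (S : Setup D π) :
    (∀ c ∈ π '' D, ∃ v, Iso v ∧ c = tv S.card v) ∧ ∀ v, Iso v → tv S.card v ∈ π '' D := by
  have hset := S.cls.1
  refine class_eq S.card S.five S.odd (π '' D) ?_ ?_ ?_ ?_ ?_
  · rintro g _ ⟨d, hd, rfl⟩
    obtain ⟨x, rfl⟩ := S.surj g
    exact ⟨_, S.conj_mem x hd, by simp⟩
  · rintro _ ⟨d, hd, rfl⟩
    rw [← map_mul, mul_self hset hd, map_one]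
  · rintro _ ⟨d, hd, rfl⟩
    exact S.map_ne_one hd
  · rintro _ ⟨d, hd, rfl⟩ _ ⟨e, he, rfl⟩
    simp only [← map_mul, ← map_pow]
    exact (hset.2 d hd e he).imp (fun h => by rw [h, map_one]) (fun h => by rw [h, map_one])
  · obtain ⟨d, hd, -⟩ := S.cls.2.1
    exact ⟨π d, d, hd, rfl⟩

/-- `x` is a lift of the transvection with centre `v`. -/
def IsLift (S : Setup D π) (v : Fin n → F) (x : G) : Prop := Iso v ∧ x ∈ D ∧ π x = tv S.card v

theorem exists_isLift (S : Setup D π) {v : Fin n → F} (hv : Iso v) : ∃ x, S.IsLift v x := by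
  obtain ⟨x, hx, hπ⟩ := S.image_spec.2 v hv
  exact ⟨x, hv, hx, hπ⟩

theorem isLift_of_mem (S : Setup D π) {x : G} (hx : x ∈ D) : ∃ v, S.IsLift v x := by
  obtain ⟨v, hv, h⟩ := S.image_spec.1 (π x) ⟨x, hx, rfl⟩
  exact ⟨v, hv, hx, h⟩

theorem isLift_conj (S : Setup D π) (g : G) {v : Fin n → F} {x : G} (h : S.IsLift v x) :
    S.IsLift (act (π g) v) (g * x * g⁻¹) :=
  ⟨h.1.act _, S.conj_mem g h.2.1, by rw [map_mul, map_mul, map_inv, h.2.2, tv_conj_inv S.card _ h.1.2]⟩

theorem isLift_smul (S : Setup D π) {v : Fin n → F} {x : G} (h : S.IsLift v x) {c : F} (hc : c ≠ 0) :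
    S.IsLift (c • v) x :=
  ⟨h.1.smul S.card hc, h.2.1, by rw [tv_smul S.card h.1 hc, h.2.2]⟩

/-- Lifts with orthogonal centres commute. -/
theorem commute_of_orth (S : Setup D π) {v w : Fin n → F} {x y : G} (hx : S.IsLift v x)
    (hy : S.IsLift w y) (h : hf v w = 0) : Commute x y := by
  by_contra hne
  have h3 := pow_three_of_not_commute S.cls.1 hx.2.1 hy.2.1 hne
  have hF := S.card
  have hc : Commute (tv hF v) (tv hF w) :=
    (tv_comm_iff hF hx.1 hy.1).2 ((hf_eq_zero_symm hF).1 h)
  have h2 : (π (x * y)) ^ 2 = 1 := by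
    rw [map_mul, hx.2.2, hy.2.2, hc.mul_pow, pow_two, pow_two, tv_sq hF hx.1.2, tv_sq hF hy.1.2, one_mul]
  have h1 : π (x * y) = 1 := by
    have h3' : (π (x * y)) ^ 3 = 1 := by rw [← map_pow, h3, map_one]
    rwa [pow_succ, h2, one_mul] at h3'
  obtain ⟨k, hk⟩ := S.ker ⟨x * y, h1⟩
  have hk' : (x * y) ^ 2 ^ k = 1 := congrArg Subtype.val hk
  have hone : x * y = 1 := by
    have hord : orderOf (x * y) ∣ Nat.gcd 3 (2 ^ k) :=
      Nat.dvd_gcd (orderOf_dvd_of_pow_eq_one h3) (orderOf_dvd_of_pow_eq_one hk')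
    rw [Nat.Coprime.pow_right k (by norm_num : Nat.Coprime 3 2)] at hord
    exact orderOf_eq_one_iff.1 (Nat.dvd_one.1 hord)
  refine hne ?_
  rw [eq_inv_of_mul_eq_one_left hone, inv_eq S.cls.1 hy.2.1]

/-- Lifts with non-orthogonal centres braid. -/
theorem braid_of_not_orth (S : Setup D π) {v w : Fin n → F} {x y : G} (hx : S.IsLift v x)
    (hy : S.IsLift w y) (h : hf v w ≠ 0) : x * y * x = y * x * y := by
  refine braid S.cls.1 hx.2.1 hy.2.1 fun hc => h ?_
  have hc' : Commute (π x) (π y) := hc.map π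
  rw [hx.2.2, hy.2.2, tv_comm_iff S.card hx.1 hy.1] at hc'
  exact (hf_eq_zero_symm S.card).1 hc'

theorem commute_same (S : Setup D π) {v : Fin n → F} {x y : G} (hx : S.IsLift v x) (hy : S.IsLift v y) :
    Commute x y := S.commute_of_orth hx hy hx.1.2

theorem inv_lift (S : Setup D π) {v : Fin n → F} {x : G} (hx : S.IsLift v x) : x⁻¹ = x :=
  inv_eq S.cls.1 hx.2.1

theorem sq_lift (S : Setup D π) {v : Fin n → F} {x : G} (hx : S.IsLift v x) : x * x = 1 :=
  mul_self S.cls.1 hx.2.1

/-! ### The products of two lifts -/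

/-- The products of two lifts of the same transvection. -/
def pairSet (S : Setup D π) : Set G := {p | ∃ v x y, S.IsLift v x ∧ S.IsLift v y ∧ p = x * y}

/-- The subgroup they generate. -/
def Q0 (S : Setup D π) : Subgroup G := Subgroup.closure S.pairSet

theorem pair_mem (S : Setup D π) {v : Fin n → F} {x y : G} (hx : S.IsLift v x) (hy : S.IsLift v y) :
    x * y ∈ S.Q0 := Subgroup.subset_closure ⟨v, x, y, hx, hy, rfl⟩

theorem pair_conj (S : Setup D π) (g : G) {p : G} (hp : p ∈ S.pairSet) : g * p * g⁻¹ ∈ S.pairSet := by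
  obtain ⟨v, x, y, hx, hy, rfl⟩ := hp
  exact ⟨_, _, _, S.isLift_conj g hx, S.isLift_conj g hy, by group⟩

theorem q0_normal (S : Setup D π) : S.Q0.Normal := by
  refine ⟨fun x hx g => ?_⟩
  induction hx using Subgroup.closure_induction with
  | mem p hp => exact Subgroup.subset_closure (S.pair_conj g hp)
  | one => simp
  | mul a b _ _ ha hb =>
    have e : g * (a * b) * g⁻¹ = g * a * g⁻¹ * (g * b * g⁻¹) := by group
    rw [e]; exact mul_mem ha hb
  | inv a _ ha =>
    have e : g * a⁻¹ * g⁻¹ = (g * a * g⁻¹)⁻¹ := by group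
    rw [e]; exact inv_mem ha

theorem q0_le_ker (S : Setup D π) : S.Q0 ≤ π.ker := by
  refine (Subgroup.closure_le _).2 ?_
  rintro _ ⟨v, x, y, hx, hy, rfl⟩
  show π (x * y) = 1
  rw [map_mul, hx.2.2, hy.2.2, tv_sq S.card hx.1.2]

theorem pair_sq (S : Setup D π) {p : G} (hp : p ∈ S.pairSet) : p * p = 1 := by
  obtain ⟨v, x, y, hx, hy, rfl⟩ := hp
  rw [show x * y * (x * y) = x * (y * x) * y by group, ← (S.commute_same hx hy).eq,
    ← mul_assoc, S.sq_lift hx, one_mul, S.sq_lift hy]

/-- The commutator of two such products commutes with each lift orthogonal to the first. -/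
theorem commute_commutator (S : Setup D π) {u v w : Fin n → F} {f x x' y y' : G}
    (hf' : S.IsLift u f) (hx : S.IsLift v x) (hx' : S.IsLift v x') (hy : S.IsLift w y) (hy' : S.IsLift w y')
    (huv : hf u v = 0) : Commute f ((x * x') * (y * y') * (x * x') * (y * y')) := by
  set p := x * x' with hp
  set q := y * y' with hq
  have hqker : π q = 1 := S.q0_le_ker (S.pair_mem hy hy')
  have hpp : p * p = 1 := S.pair_sq ⟨v, x, x', hx, hx', rfl⟩
  have hqq : q * q = 1 := S.pair_sq ⟨w, y, y', hy, hy', rfl⟩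
  have hqinv : q⁻¹ = q := inv_eq_of_mul_eq_one_left hqq
  have hf2 : S.IsLift u (q * f * q) := by
    have := S.isLift_conj q hf'
    rwa [hqker, act_one, hqinv] at this
  set m := f * (q * f * q) with hm
  have cfp : Commute f p := (S.commute_of_orth hf' hx huv).mul_right (S.commute_of_orth hf' hx' huv)
  have cmp : Commute m p :=
    cfp.mul_left ((S.commute_of_orth hf2 hx huv).mul_right (S.commute_of_orth hf2 hx' huv))
  have hm2 : m * m = 1 := S.pair_sq ⟨u, f, q * f * q, hf', hf2, rfl⟩
  have hff : f * f = 1 := S.sq_lift hf'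
  have hfqf : f * q * f = m * q := by
    rw [hm, show f * (q * f * q) * q = f * q * f * (q * q) by group, hqq, mul_one]
  have hmq : q * m = m * q := by
    have h1 : (m * q) * (m * q) = 1 := by
      rw [← hfqf, show f * q * f * (f * q * f) = f * q * (f * f) * q * f by group, hff, mul_one,
        show f * q * q * f = f * (q * q) * f by group, hqq, mul_one, hff]
    have h2 : m * q = (m * q)⁻¹ := eq_inv_of_mul_eq_one_left h1
    rw [mul_inv_rev, hqinv, inv_eq_of_mul_eq_one_left hm2] at h2
    exact h2.symm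
  have hfp : f * p * f = p := by rw [cfp.eq, mul_assoc, hff, mul_one]
  have key : f * (p * q * p * q) * f = p * q * p * q := by
    calc f * (p * q * p * q) * f = (f * p * f) * (f * q * f) * (f * p * f) * (f * q * f) := by
          simp only [mul_assoc]
          rw [← mul_assoc f f, hff, one_mul, ← mul_assoc f f, hff, one_mul, ← mul_assoc f f, hff, one_mul]
      _ = p * (m * q) * p * (m * q) := by rw [hfp, hfqf]
      _ = m * (p * q * p * m) * q := by
          rw [show p * (m * q) * p * (m * q) = p * m * (q * p * m * q) by group, ← cmp.eq]; group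
      _ = m * (p * q * (m * p)) * q := by rw [mul_assoc (p * q) p m, ← cmp.eq]
      _ = m * (p * m * (q * p)) * q := by
          rw [show p * q * (m * p) = p * (q * m) * p by group, hmq]; group
      _ = p * q * p * q := by
          rw [← cmp.eq, show m * (m * p * (q * p)) * q = (m * m) * (p * (q * p) * q) by group, hm2, one_mul]
          group
  have hfinv : f⁻¹ = f := S.inv_lift hf'
  show f * (p * q * p * q) = p * q * p * q * f
  conv_rhs => rw [← key, mul_assoc, hff, mul_one]

theorem pair_comm (S : Setup D π) {p q : G} (hp : p ∈ S.pairSet) (hq : q ∈ S.pairSet) : Commute p q := by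
  obtain ⟨v, x, x', hx, hx', rfl⟩ := hp
  obtain ⟨w, y, y', hy, hy', rfl⟩ := hq
  have hF := S.card
  by_cases hvw : hf v w = 0
  · exact ((S.commute_of_orth hx hy hvw).mul_right (S.commute_of_orth hx hy' hvw)).mul_left
      ((S.commute_of_orth hx' hy hvw).mul_right (S.commute_of_orth hx' hy' hvw))
  set p := x * x' with hp
  set q := y * y' with hq
  set c := p * q * p * q with hc
  have hpp : p * p = 1 := S.pair_sq ⟨v, x, x', hx, hx', rfl⟩
  have hqq : q * q = 1 := S.pair_sq ⟨w, y, y', hy, hy', rfl⟩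
  have h1 : ∀ u f, S.IsLift u f → hf u v = 0 → Commute f c := fun u f hf' h =>
    S.commute_commutator hf' hx hx' hy hy' h
  have h2 : ∀ u f, S.IsLift u f → hf u w = 0 → Commute f c := fun u f hf' h => by
    have h' := S.commute_commutator hf' hy hy' hx hx' h
    have hinv : c⁻¹ = q * p * q * p := by
      refine inv_eq_of_mul_eq_one_left ?_
      rw [hc, show q * p * q * p * (p * q * p * q) = q * p * q * (p * p) * q * p * q by group, hpp,
        mul_one, show q * p * q * q * p * q = q * p * (q * q) * p * q by group, hqq, mul_one,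
        show q * p * p * q = q * (p * p) * q by group, hpp, mul_one, hqq]
    rw [← hinv] at h'
    exact (Commute.inv_right_iff).1 h'
  let C := Subgroup.centralizer ({c} : Set G)
  have hmem : ∀ f, f ∈ C ↔ Commute f c := fun f => Subgroup.mem_centralizer_singleton_iff
  have htop : C.map π = ⊤ := by
    rw [eq_top_iff, ← closure_perp hF S.five hx.1 hy.1 hvw, Subgroup.closure_le]
    rintro _ ⟨u, hu, hor, rfl⟩
    obtain ⟨f, hf'⟩ := S.exists_isLift hu
    exact ⟨f, (hmem f).2 (hor.elim (h1 u f hf') (h2 u f hf')), hf'.2.2⟩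
  have hall : ∀ f ∈ D, Commute f c := by
    intro f hfD
    obtain ⟨u, hf'⟩ := S.isLift_of_mem hfD
    obtain ⟨g, hg⟩ := exists_act hF (by linarith [S.five]) hf'.1 hx.1
    obtain ⟨s, hs, hsg⟩ : ∃ s ∈ C, π s = g := by
      have : g ∈ C.map π := htop ▸ Subgroup.mem_top g
      exact this
    have h3 := S.isLift_conj s hf'
    rw [hsg, hg] at h3
    have h4 : s * f * s⁻¹ ∈ C := (hmem _).2 (h1 _ _ h3 hx.1.2)
    have e : f = s⁻¹ * (s * f * s⁻¹) * s := by group
    exact (hmem f).1 (e ▸ mul_mem (mul_mem (inv_mem hs) h4) hs)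
  have hc1 : c = 1 := by
    have hz : c ∈ Subgroup.center G := Subgroup.mem_center_iff.2 fun g => by
      have : g ∈ C := by
        have hle : Subgroup.closure D ≤ C := (Subgroup.closure_le _).2 fun f hfD => (hmem f).2 (hall f hfD)
        exact hle (S.cls.2.2 ▸ Subgroup.mem_top g)
      exact (hmem g).1 this
    rwa [S.center, Subgroup.mem_bot] at hz
  show p * q = q * p
  have : (p * q) * (p * q) = 1 := by rw [← hc1, hc]; group
  rw [eq_inv_of_mul_eq_one_left this, mul_inv_rev, inv_eq_of_mul_eq_one_left hpp,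
    inv_eq_of_mul_eq_one_left hqq]

theorem q0_comm (S : Setup D π) {a b : G} (ha : a ∈ S.Q0) (hb : b ∈ S.Q0) : Commute a b := by
  have h1 : S.pairSet ⊆ Subgroup.centralizer S.pairSet := fun p hp =>
    Subgroup.mem_centralizer_iff.2 fun q hq => (S.pair_comm hq hp).eq
  have h2 : S.Q0 ≤ Subgroup.centralizer S.pairSet := (Subgroup.closure_le _).2 h1
  have h3 : S.pairSet ⊆ Subgroup.centralizer (S.Q0 : Set G) := fun p hp =>
    Subgroup.mem_centralizer_iff.2 fun q hq => (Subgroup.mem_centralizer_iff.1 (h2 hq) p hp).symm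
  have h4 : S.Q0 ≤ Subgroup.centralizer (S.Q0 : Set G) := (Subgroup.closure_le _).2 h3
  exact (Subgroup.mem_centralizer_iff.1 (h4 hb) a ha)

theorem q0_sq (S : Setup D π) {a : G} (ha : a ∈ S.Q0) : a * a = 1 := by
  induction ha using Subgroup.closure_induction with
  | mem p hp => exact S.pair_sq hp
  | one => simp
  | mul a b ha hb iha ihb =>
    rw [show a * b * (a * b) = a * (b * a) * b by group, ← (S.q0_comm ha hb).eq, ← mul_assoc, iha,
      one_mul, ihb]
  | inv a _ iha => rw [← mul_inv_rev, iha, inv_one]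

end Setup

end Cfsg.Agent.ThreeTransSU
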