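/-
The kernel of a 3-transposition group over SU(n,2) is elementary abelian.

Main results (namespace `Cfsg.Agent.ThreeTransSU`):
* `tv_line` : five transvections on a totally isotropic line multiply to one;
* `Setup.kernel_elementary` : given `HasGens F (n - 2)`, the kernel is elementary abelian.
-/
import Cfsg.Agent.Lib.ThreeTransSU.Lift
import Cfsg.Agent.Lib.ThreeTransSU.CentralExt

set_option autoImplicit false

namespace Cfsg.Agent.ThreeTransSU

open Cfsg.Agent.Unitary Cfsg.Agent.U62Cover

variable {F : Type*} [Field F] [Fintype F] {n : ℕ}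

/-- The five points of the line through `u` and `w`. -/
def linePts (ω : F) (u w : Fin n → F) : List (Fin n → F) := [u, w, u + w, u + ω • w, u + ω ^ 2 • w]

theorem linePts_iso (hF : Fintype.card F = 4) (ω : F) {u w : Fin n → F} (h : OrthPair u w) :
    ∀ p ∈ linePts ω u w, Iso p := by
  have hi : ∀ a : F, Iso (u + a • w) := fun a => ((h.symm hF).shift hF a).2.1
  intro p hp
  simp only [linePts, List.mem_cons, List.not_mem_nil, or_false] at hp
  rcases hp with rfl | rfl | rfl | rfl | rfl
  exacts [h.1, h.2.1, by simpa using hi 1, hi ω, hi (ω ^ 2)]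

theorem linePts_orth (hF : Fintype.card F = 4) (ω : F) {u w : Fin n → F} (h : OrthPair u w) {x : Fin n → F}
    (hu : hf x u = 0) (hw : hf x w = 0) : ∀ p ∈ linePts ω u w, hf x p = 0 := by
  intro p hp
  simp only [linePts, List.mem_cons, List.not_mem_nil, or_false] at hp
  rcases hp with rfl | rfl | rfl | rfl | rfl <;> simp [hf_add_right hF, hf_smul_right hF, hu, hw]

theorem linePts_mutual (hF : Fintype.card F = 4) (ω : F) {u w : Fin n → F} (h : OrthPair u w) :
    ∀ p ∈ linePts ω u w, ∀ q ∈ linePts ω u w, hf p q = 0 := by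
  intro p hp q hq
  refine linePts_orth hF ω h ?_ ?_ q hq
  · exact (hf_eq_zero_symm hF).1 (linePts_orth hF ω h h.1.2 h.2.2.1 p hp)
  · exact (hf_eq_zero_symm hF).1 (linePts_orth hF ω h ((hf_eq_zero_symm hF).1 h.2.2.1) h.2.1.2 p hp)

theorem act_list_tv (hF : Fintype.card F = 4) : ∀ (L : List (Fin n → F)),
    (∀ p ∈ L, ∀ q ∈ L, hf p q = 0) → ∀ x, act (L.map (tv hF)).prod x = x + (L.map fun p => hf x p • p).sum
  | [], _, x => by simp [act_one]
  | p :: L, h, x => by
    have hz : ∀ (M : List (Fin n → F)), (∀ q ∈ M, q ∈ L) → hf (M.map fun q => hf x q • q).sum p = 0 := by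
      intro M
      induction M with
      | nil => intro _; exact hf_zero_left hF p
      | cons q M ih =>
        intro hM
        rw [List.map_cons, List.sum_cons, hf_add_left hF, hf_smul_left hF,
          ih fun r hr => hM r (List.mem_cons_of_mem _ hr),
          h q (List.mem_cons_of_mem _ (hM q List.mem_cons_self)) p List.mem_cons_self, mul_zero, add_zero]
    simp only [List.map_cons, List.prod_cons, List.sum_cons]
    rw [act_mul, act_list_tv hF L (fun a ha b hb => h a (List.mem_cons_of_mem _ ha) b (List.mem_cons_of_mem _ hb)),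
      act_tv hF (h p List.mem_cons_self p List.mem_cons_self), hf_add_left hF, hz L fun q hq => hq, add_zero]
    abel

/-- The five transvections on a totally isotropic line multiply to one. -/
theorem tv_line (hF : Fintype.card F = 4) {ω : F} (hω : ω ^ 2 = ω + 1) {u w : Fin n → F}
    (h : OrthPair u w) : ((linePts ω u w).map (tv hF)).prod = 1 := by
  have h1 : ω ^ 2 + ω + 1 = 0 := by linear_combination hω + (ω + 1) * two_eq_zero hF
  have h3 : ω ^ 3 = 1 := by linear_combination (ω - 1) * h1
  refine act_ext fun x => ?_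
  rw [act_list_tv hF _ (linePts_mutual hF ω h), act_one, add_eq_left]
  funext i
  simp only [linePts, List.map_cons, List.map_nil, List.sum_cons, List.sum_nil, Pi.add_apply, Pi.smul_apply,
    hf_add_right hF, hf_smul_right hF, smul_eq_mul, add_zero, Pi.zero_apply]
  linear_combination (hf x w * u i + hf x u * w i) * h1 + (hf x w * w i * (1 + ω ^ 3) + hf x w * w i + hf x w * u i * ω) * h3 +
    2 * (hf x u * u i + hf x w * w i) * two_eq_zero hF

namespace Setup

variable {G : Type*} [Group G] {D : Set G} {π : G →* Cfsg.SU n F 2}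

theorem kernel_comm_mem (S : Setup D π) {q : G} (hq : π q = 1) (g : G) : g * q * g⁻¹ * q⁻¹ ∈ S.Q0 := by
  have hn := S.q0_normal
  have hg : g ∈ Subgroup.closure D := S.cls.2.2 ▸ Subgroup.mem_top g
  induction hg using Subgroup.closure_induction with
  | mem x hx =>
    obtain ⟨v, hv⟩ := S.isLift_of_mem hx
    have h2 := S.isLift_conj q hv
    rw [hq, act_one] at h2
    have h3 := S.pair_mem hv h2
    rw [show x * q * x⁻¹ * q⁻¹ = x * (q * x⁻¹ * q⁻¹) by group, S.inv_lift hv]
    exact h3
  | one => simp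
  | mul a b _ _ ha hb =>
    rw [show a * b * q * (a * b)⁻¹ * q⁻¹ = a * (b * q * b⁻¹ * q⁻¹) * a⁻¹ * (a * q * a⁻¹ * q⁻¹) by group]
    exact mul_mem (hn.conj_mem _ hb a) ha
  | inv a _ ha =>
    rw [show a⁻¹ * q * a⁻¹⁻¹ * q⁻¹ = (a⁻¹ * (a * q * a⁻¹ * q⁻¹) * a⁻¹⁻¹)⁻¹ by group]
    exact inv_mem (hn.conj_mem _ ha a⁻¹)

theorem list_prod_sq (S : Setup D π) : ∀ (L : List ((Fin n → F) × G)),
    (∀ p ∈ L, S.IsLift p.1 p.2) → (∀ p ∈ L, ∀ q ∈ L, hf p.1 q.1 = 0) →
      (L.map Prod.snd).prod * (L.map Prod.snd).prod = 1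
  | [], _, _ => by simp
  | p :: L, h1, h2 => by
    have hc : Commute p.2 (L.map Prod.snd).prod := Commute.list_prod_right _ _ fun x hx => by
      obtain ⟨q, hq, rfl⟩ := List.mem_map.1 hx
      exact S.commute_of_orth (h1 p List.mem_cons_self) (h1 q (List.mem_cons_of_mem _ hq))
        (h2 p List.mem_cons_self q (List.mem_cons_of_mem _ hq))
    simp only [List.map_cons, List.prod_cons]
    rw [show p.2 * (L.map Prod.snd).prod * (p.2 * (L.map Prod.snd).prod)
      = p.2 * ((L.map Prod.snd).prod * p.2) * (L.map Prod.snd).prod by group, ← hc.eq, ← mul_assoc,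
      S.sq_lift (h1 p List.mem_cons_self), one_mul,
      list_prod_sq S L (fun q hq => h1 q (List.mem_cons_of_mem _ hq))
        fun a ha b hb => h2 a (List.mem_cons_of_mem _ ha) b (List.mem_cons_of_mem _ hb)]

/-- The kernel is elementary abelian. -/
theorem kernel_elementary (S : Setup D π) [Finite G] (hg : HasGens F (n - 2)) :
    Cfsg.IsElementaryAbelian 2 π.ker := by
  classical
  have hF := S.card
  obtain ⟨u, w, hp⟩ := S.exists_two
  obtain ⟨ω, -, hω⟩ := exists_omega hF
  let pick : (Fin n → F) → G := fun v => if h : Iso v then (S.exists_isLift h).choose else 1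
  have hpick : ∀ v, Iso v → S.IsLift v (pick v) := fun v h => by
    simp only [pick, dif_pos h]; exact (S.exists_isLift h).choose_spec
  set L := (linePts ω u w).map fun p => (p, pick p) with hL
  have hL1 : ∀ p ∈ L, S.IsLift p.1 p.2 := fun p hp' => by
    obtain ⟨q, hq, rfl⟩ := List.mem_map.1 hp'
    exact hpick q (linePts_iso hF ω hp q hq)
  have hL2 : ∀ p ∈ L, ∀ q ∈ L, hf p.1 q.1 = 0 := fun p hp' q hq' => by
    obtain ⟨a, ha, rfl⟩ := List.mem_map.1 hp'
    obtain ⟨b, hb, rfl⟩ := List.mem_map.1 hq'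
    exact linePts_mutual hF ω hp a ha b hb
  set z := (L.map Prod.snd).prod with hz
  have hz2 : z * z = 1 := S.list_prod_sq L hL1 hL2
  have hzker : π z = 1 := by
    rw [hz, map_list_prod, hL, List.map_map, List.map_map]
    rw [← tv_line hF hω hp]
    congr 1
    refine List.map_congr_left fun p hp' => ?_
    exact (hpick p (linePts_iso hF ω hp p hp')).2.2
  have hzu : ∀ x, S.IsLift u x → Commute x z := fun x hx => Commute.list_prod_right _ _ fun y hy => by
    obtain ⟨p, hp', rfl⟩ := List.mem_map.1 hy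
    obtain ⟨q, hq, rfl⟩ := List.mem_map.1 hp'
    exact S.commute_of_orth hx (hL1 _ hp') (linePts_orth hF ω hp hp.1.2 hp.2.2.1 q hq)
  have hzQ : ∀ a ∈ S.Q0, Commute z a := by
    intro a ha
    induction ha using Subgroup.closure_induction with
    | mem p hp' =>
      obtain ⟨v, x, y, hx, hy, rfl⟩ := hp'
      obtain ⟨g₀, hg₀⟩ := exists_act hF (by linarith [S.five]) hp.1 hx.1
      obtain ⟨g, rfl⟩ := S.surj g₀
      have hconj : ∀ x, S.IsLift v x → Commute x (g * z * g⁻¹) := fun x hx => by
        have h1 := S.isLift_conj g⁻¹ hx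
        rw [map_inv, ← hg₀, act_inv_act] at h1
        have h2 := (hzu _ h1).map (MulAut.conj g).toMonoidHom
        simp only [MulEquiv.coe_toMonoidHom, MulAut.conj_apply] at h2
        rwa [show g * (g⁻¹ * x * g⁻¹⁻¹) * g⁻¹ = x by group] at h2
      have hc := S.kernel_comm_mem hzker g
      have hxy : Commute (x * y) (g * z * g⁻¹) := (hconj x hx).mul_left (hconj y hy)
      have hcc : Commute (x * y) (g * z * g⁻¹ * z⁻¹) := S.q0_comm (S.pair_mem hx hy) hc
      have h3 := (hcc.inv_right).mul_right hxy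
      rw [show (g * z * g⁻¹ * z⁻¹)⁻¹ * (g * z * g⁻¹) = z by group] at h3
      exact h3.symm
    | one => exact Commute.one_right z
    | mul a b _ _ ha hb => exact ha.mul_right hb
    | inv a _ ha => exact ha.inv_right
  set Q1 := S.Q0 ⊔ Subgroup.zpowers z with hQ1
  have hQ1ker : Q1 ≤ π.ker := sup_le S.q0_le_ker (Subgroup.zpowers_le.2 hzker)
  have hzmem : z ∈ Q1 := Subgroup.mem_sup_right (Subgroup.mem_zpowers z)
  have hsplit : ∀ a ∈ Q1, ∃ q ∈ S.Q0, a = q ∨ a = q * z := by
    intro a ha
    have := S.q0_normal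
    obtain ⟨q, hq, c, hc, rfl⟩ := Subgroup.mem_sup_of_normal_left.1 ha
    obtain ⟨k, rfl⟩ := Subgroup.mem_zpowers_iff.1 hc
    have hz2' : z ^ (2 : ℤ) = 1 := by rw [zpow_two, hz2]
    rcases Int.even_or_odd k with ⟨j, rfl⟩ | ⟨j, rfl⟩
    · exact ⟨q, hq, Or.inl (by rw [← two_mul, zpow_mul, hz2', one_zpow, mul_one])⟩
    · exact ⟨q, hq, Or.inr (by rw [zpow_add, zpow_one, zpow_mul, hz2', one_zpow, one_mul])⟩
  have hcommQ1 : ∀ a ∈ Q1, ∀ b ∈ Q1, Commute a b := by
    intro a ha b hb
    obtain ⟨q, hq, ha⟩ := hsplit a ha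
    obtain ⟨r, hr, hb⟩ := hsplit b hb
    have hqr := S.q0_comm hq hr
    rcases ha with rfl | rfl <;> rcases hb with rfl | rfl
    exacts [hqr, hqr.mul_right (hzQ _ hq).symm, hqr.mul_left (hzQ _ hr),
      (hqr.mul_right (hzQ _ hq).symm).mul_left ((hzQ _ hr).mul_right (Commute.refl z))]
  have hsqQ1 : ∀ a ∈ Q1, a * a = 1 := by
    intro a ha
    obtain ⟨q, hq, rfl | rfl⟩ := hsplit a ha
    · exact S.q0_sq hq
    · rw [show q * z * (q * z) = q * (z * q) * z by group, (hzQ q hq).eq, ← mul_assoc, S.q0_sq hq, one_mul,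
        hz2]
  have hnorm : Q1.Normal := by
    refine ⟨fun a ha g => ?_⟩
    obtain ⟨q, hq, e⟩ := hsplit a ha
    rcases e with e | e <;> subst a
    · exact Subgroup.mem_sup_left (S.q0_normal.conj_mem q hq g)
    · rw [show g * (q * z) * g⁻¹ = g * q * g⁻¹ * (g * z * g⁻¹ * z⁻¹) * z by group]
      exact mul_mem (mul_mem (Subgroup.mem_sup_left (S.q0_normal.conj_mem q hq g))
        (Subgroup.mem_sup_left (S.kernel_comm_mem hzker g))) hzmem
  let ψ : G ⧸ Q1 →* Cfsg.SU n F 2 := QuotientGroup.lift Q1 π hQ1ker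
  let s : (Fin n → F) → G ⧸ Q1 := fun v => (pick v : G)
  have hwd : ∀ v x, S.IsLift v x → ((x : G) : G ⧸ Q1) = s v := fun v x hx => by
    refine QuotientGroup.eq.2 ?_
    rw [S.inv_lift hx]
    exact Subgroup.mem_sup_left (S.pair_mem hx (hpick v hx.1))
  have E : Ext ψ s :=
    { card := hF
      five := S.five
      surj := fun g => by
        obtain ⟨x, rfl⟩ := S.surj g
        exact ⟨(x : G ⧸ Q1), rfl⟩
      ker := by
        intro b
        obtain ⟨x, hx⟩ := QuotientGroup.mk_surjective (b : G ⧸ Q1)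
        have hxk : π x = 1 := by
          have h1 : ψ (b : G ⧸ Q1) = 1 := b.2
          rw [← hx] at h1
          exact h1
        obtain ⟨k, hk⟩ := S.ker ⟨x, hxk⟩
        refine ⟨k, Subtype.ext ?_⟩
        rw [Subgroup.coe_pow, ← hx, ← QuotientGroup.mk_pow, show x ^ 2 ^ k = 1 from congrArg Subtype.val hk]
        rfl
      map_s := fun v hv => (hpick v hv).2.2
      sq := fun v hv => by
        show ((pick v : G) : G ⧸ Q1) * (pick v : G) = 1
        rw [← QuotientGroup.mk_mul, S.sq_lift (hpick v hv)]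
        rfl
      smul := fun v c hv hc => (hwd (c • v) _ (S.isLift_smul (hpick v hv) hc)).symm
      equiv := fun b v hv => by
        obtain ⟨x, rfl⟩ := QuotientGroup.mk_surjective b
        exact hwd _ _ (S.isLift_conj x (hpick v hv))
      gen := by
        rw [eq_top_iff]
        intro b hb
        clear hb
        obtain ⟨x, rfl⟩ := QuotientGroup.mk_surjective b
        have hx : x ∈ Subgroup.closure D := S.cls.2.2 ▸ Subgroup.mem_top x
        induction hx using Subgroup.closure_induction with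
        | mem x hxD =>
          obtain ⟨v, hv⟩ := S.isLift_of_mem hxD
          exact Subgroup.subset_closure ⟨v, hv.1, hwd v x hv⟩
        | one => exact one_mem _
        | mul a b _ _ ha hb => exact mul_mem ha hb
        | inv a _ ha => exact inv_mem ha
      line := by
        refine ⟨u, w, hp, fun η hη => ?_⟩
        have hz0 : ((z : G) : G ⧸ Q1) = 1 := (QuotientGroup.eq_one_iff z).2 hzmem
        have he : lineProd s ω u w = 1 := by
          rw [← hz0, hz, hL, linePts]
          simp only [List.map_cons, List.map_nil, List.prod_cons, List.prod_nil, mul_one, QuotientGroup.mk_mul,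
            lineProd, s, mul_assoc]
        have hη' : η = ω ∨ η = ω + 1 := by
          have : (η - ω) * (η - (ω + 1)) = 0 := by
            linear_combination hη + hω + (-(η * ω) + ω + 1) * two_eq_zero hF
          rcases mul_eq_zero.1 this with h | h
          exacts [Or.inl (sub_eq_zero.1 h), Or.inr (sub_eq_zero.1 h)]
        rcases hη' with rfl | rfl
        · exact he
        · have e2 : (ω + 1) ^ 2 = ω := by linear_combination hω + (ω + 1) * two_eq_zero hF
          rw [lineProd, e2, ← hω, ← he, lineProd]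
          have hc := S.commute_of_orth (hpick _ (linePts_iso hF ω hp (u + ω • w) (by simp [linePts])))
            (hpick _ (linePts_iso hF ω hp (u + ω ^ 2 • w) (by simp [linePts])))
            (linePts_mutual hF ω hp _ (by simp [linePts]) _ (by simp [linePts]))
          simp only [s, mul_assoc, ← QuotientGroup.mk_mul, hc.eq] }
  have hbot := E.ker_eq_bot S.odd hg
  have hker : π.ker = Q1 := by
    refine le_antisymm (fun x hx => ?_) hQ1ker
    have h1 : ((x : G) : G ⧸ Q1) ∈ ψ.ker := hx
    rw [hbot, Subgroup.mem_bot] at h1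
    exact (QuotientGroup.eq_one_iff x).1 h1
  rw [hker]
  exact ⟨⟨⟨fun a b => Subtype.ext (hcommQ1 a a.2 b b.2)⟩⟩,
    fun a ha => by rw [pow_two]; exact hsqQ1 a ha⟩

end Setup

end Cfsg.Agent.ThreeTransSU
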