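/-
The class of transvections in PSU(n,2) and the double perpendicular of a line in dimension six.

Main results (namespace `Cfsg.Agent.ThreeTransSU`, `hF : Fintype.card F = 4`):
* `psu_class_eq` : a class of 3-transpositions of PSU(n,2) consists of the transvection images;
* `mk_tv_inj`, `mk_tv_comm` : the images remember centres and orthogonality;
* `span_of_iso_perp` : n = 6, the span of two independent vectors is detected by isotropic vectors;
* `double_perp` : n = 6, an isotropic vector orthogonal to a line `u, w` and to every isotropic vector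
  orthogonal to the line is a multiple of one of its five points.
-/
import Cfsg.Agent.Lib.ThreeTransSU.Kernel
import Cfsg.Agent.Lib.Unitary.Center

set_option autoImplicit false

namespace Cfsg.Agent.ThreeTransSU

open scoped Matrix
open Cfsg.Agent.Unitary Cfsg.Agent.U62Cover

variable {F : Type*} [Field F] [Fintype F] {n : ℕ}

/-- The projection to PSU(n,2). -/
abbrev toPSU (n : ℕ) (F : Type*) [Field F] : Cfsg.SU n F 2 →* Cfsg.PSU n F 2 :=
  QuotientGroup.mk' (Subgroup.center (Cfsg.SU n F 2))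

theorem center_cube (hF : Fintype.card F = 4) (hn : 2 ≤ n) {z : Cfsg.SU n F 2}
    (hz : z ∈ Subgroup.center (Cfsg.SU n F 2)) : z ^ 3 = 1 := by
  obtain ⟨ζ, -, h3, he⟩ := center_SU_scalar (card_sq hF) hn hz
  refine Subtype.ext (Subtype.ext ?_)
  rw [Subgroup.coe_pow, Matrix.SpecialLinearGroup.coe_pow, he, ← map_pow, h3, map_one]
  rfl

/-- A central power of a product of two involutions is trivial. -/
theorem eq_one_of_pow_central (hF : Fintype.card F = 4) (hn : 2 ≤ n) {c d : Cfsg.SU n F 2}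
    (hc : c * c = 1) (hd : d * d = 1) {k : ℕ} (h : (c * d) ^ k ∈ Subgroup.center (Cfsg.SU n F 2)) :
    (c * d) ^ k = 1 := by
  set z := (c * d) ^ k with hz
  have h1 : z = z⁻¹ :=
    calc z = c * z * c⁻¹ := by rw [Subgroup.mem_center_iff.1 h c, mul_inv_cancel_right]
      _ = (c * (c * d) * c⁻¹) ^ k := by rw [hz, conj_pow]
      _ = z⁻¹ := by
        rw [hz, ← inv_pow, mul_inv_rev, inv_eq_of_mul_eq_one_left hc, inv_eq_of_mul_eq_one_left hd,
          ← mul_assoc, hc, one_mul]
  have h2 : z * z = 1 := mul_eq_one_iff_eq_inv.2 h1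
  have h3 := center_cube hF hn h
  rwa [pow_succ, pow_two, h2, one_mul] at h3

theorem toPSU_eq_one {n : ℕ} {x : Cfsg.SU n F 2} :
    toPSU n F x = 1 ↔ x ∈ Subgroup.center (Cfsg.SU n F 2) := QuotientGroup.eq_one_iff x

/-- An involution of PSU(n,2) lifts to an involution. -/
theorem exists_lift_involution (hF : Fintype.card F = 4) (hn : 2 ≤ n) {c : Cfsg.PSU n F 2}
    (hc : c * c = 1) : ∃ y, y * y = 1 ∧ toPSU n F y = c := by
  obtain ⟨x, rfl⟩ := QuotientGroup.mk'_surjective _ c
  have hz := toPSU_eq_one.1 (show toPSU n F (x * x) = 1 by rw [map_mul]; exact hc)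
  refine ⟨x ^ 3, ?_, ?_⟩
  · rw [← pow_add, show 3 + 3 = 2 * 3 from rfl, pow_mul, pow_two]
    exact center_cube hF hn hz
  · rw [map_pow, pow_succ, pow_two, hc, one_mul]

/-- The classes of 3-transpositions of PSU(n,2) consist of the images of the transvections. -/
theorem psu_class_eq (hF : Fintype.card F = 4) (hn : 3 ≤ n) (C : Set (Cfsg.PSU n F 2))
    (hD : Cfsg.IsThreeTranspositionClass C) :
    (∀ c ∈ C, ∃ v, Iso v ∧ c = toPSU n F (tv hF v)) ∧ ∀ v, Iso v → toPSU n F (tv hF v) ∈ C := by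
  have hg := Cfsg.Agent.ThreeTrans.group_of_class hD
  set C' : Set (Cfsg.SU n F 2) := {y | y * y = 1 ∧ toPSU n F y ∈ C} with hC'
  have hlift : ∀ c ∈ C, ∃ y ∈ C', toPSU n F y = c := fun c hc => by
    obtain ⟨y, hy, hyc⟩ := exists_lift_involution hF (by omega) (Cfsg.Agent.ThreeTrans.mul_self hD.1 hc)
    exact ⟨y, ⟨hy, by rw [hyc]; exact hc⟩, hyc⟩
  obtain ⟨h1, h2⟩ := class_eq' hF hn C' (fun g y hy => by
      refine ⟨?_, ?_⟩
      · rw [show g * y * g⁻¹ * (g * y * g⁻¹) = g * (y * y) * g⁻¹ by group, hy.1, mul_one, mul_inv_cancel]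
      · rw [map_mul, map_mul, map_inv]; exact hg.2.1 _ _ hy.2)
    (fun y hy => hy.1)
    (fun y hy h => Cfsg.Agent.ThreeTrans.ne_one hD.1 hy.2 (by rw [h, map_one]))
    (fun y hy z hz => (hD.1.2 _ hy.2 _ hz.2).imp
      (fun h => eq_one_of_pow_central hF (by omega) hy.1 hz.1
        (toPSU_eq_one.1 (by rw [map_pow, map_mul]; exact h)))
      (fun h => eq_one_of_pow_central hF (by omega) hy.1 hz.1
        (toPSU_eq_one.1 (by rw [map_pow, map_mul]; exact h))))
    (by
      obtain ⟨c, hc, -⟩ := hD.2.1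
      obtain ⟨y, hy, -⟩ := hlift c hc
      exact ⟨y, hy⟩)
  refine ⟨fun c hc => ?_, fun v hv => (h2 v hv).2⟩
  obtain ⟨y, hy, rfl⟩ := hlift c hc
  obtain ⟨v, hv, rfl⟩ := h1 y hy
  exact ⟨v, hv, rfl⟩

theorem mk_tv_inj (hF : Fintype.card F = 4) (hn : 2 ≤ n) {u v : Fin n → F} (hu : Iso u) (hv : Iso v)
    (h : toPSU n F (tv hF u) = toPSU n F (tv hF v)) : ∃ c : F, c ≠ 0 ∧ v = c • u := by
  have hz : (tv hF u * tv hF v) ^ 1 ∈ Subgroup.center (Cfsg.SU n F 2) := by
    rw [pow_one]
    refine toPSU_eq_one.1 ?_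
    rw [map_mul, h, ← map_mul, tv_sq hF hv.2, map_one]
  have h1 := eq_one_of_pow_central hF hn (tv_sq hF hu.2) (tv_sq hF hv.2) hz
  rw [pow_one, mul_eq_one_iff_eq_inv, tv_inv hF hv.2] at h1
  exact tv_inj hF hu hv h1

theorem mk_tv_comm (hF : Fintype.card F = 4) (hn : 2 ≤ n) {u v : Fin n → F} (hu : Iso u) (hv : Iso v) :
    Commute (toPSU n F (tv hF u)) (toPSU n F (tv hF v)) ↔ hf u v = 0 := by
  refine ⟨fun h => ?_, fun h => Commute.map (tv_comm hF hu.2 hv.2 ((hf_eq_zero_symm hF).1 h)) _⟩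
  have hz : (tv hF u * tv hF v) ^ 2 ∈ Subgroup.center (Cfsg.SU n F 2) := by
    refine toPSU_eq_one.1 ?_
    rw [map_pow, map_mul, h.mul_pow, ← map_pow, ← map_pow, pow_two, pow_two, tv_sq hF hu.2,
      tv_sq hF hv.2, map_one, one_mul]
  have h1 := eq_one_of_pow_central hF hn (tv_sq hF hu.2) (tv_sq hF hv.2) hz
  rw [pow_two, mul_eq_one_iff_eq_inv, mul_inv_rev, tv_inv hF hu.2, tv_inv hF hv.2] at h1
  exact (hf_eq_zero_symm hF).1 ((tv_comm_iff hF hu hv).1 h1)

/-! ### The double perpendicular of a line -/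

theorem four_cases (hF : Fintype.card F = 4) {ω : F} (hω : ω ^ 2 = ω + 1) (t : F) :
    t = 0 ∨ t = 1 ∨ t = ω ∨ t = ω ^ 2 := by
  by_cases ht : t = 0
  · exact Or.inl ht
  have h3 : t ^ 3 = 1 := pow_three hF ht
  have h : (t - 1) * ((t - ω) * (t - ω ^ 2)) = 0 := by
    linear_combination h3 + (-(t ^ 2) + t * (ω + 2) - (ω + 1)) * hω + (-(t ^ 2) * (ω + 1) + t * (2 * ω + 1) - ω) * two_eq_zero hF
  rcases mul_eq_zero.1 h with h | h
  · exact Or.inr (Or.inl (sub_eq_zero.1 h))
  rcases mul_eq_zero.1 h with h | h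
  exacts [Or.inr (Or.inr (Or.inl (sub_eq_zero.1 h))), Or.inr (Or.inr (Or.inr (sub_eq_zero.1 h)))]

theorem mem_linePts_of_span (hF : Fintype.card F = 4) {ω : F} (hω : ω ^ 2 = ω + 1) {u w x : Fin n → F}
    (hx : x ≠ 0) {α β : F} (h : x = α • u + β • w) :
    ∃ p ∈ linePts ω u w, ∃ c : F, c ≠ 0 ∧ x = c • p := by
  by_cases hα : α = 0
  · subst hα
    rw [zero_smul, zero_add] at h
    exact ⟨w, by simp [linePts], β, fun hβ => hx (by rw [h, hβ, zero_smul]), h⟩
  refine ⟨u + (β / α) • w, ?_, α, hα, by rw [smul_add, smul_smul, mul_div_cancel₀ _ hα, h]⟩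
  rcases four_cases hF hω (β / α) with e | e | e | e <;> rw [e] <;> simp [linePts]

theorem perp_eq_span (hF : Fintype.card F = 4) {u w : Fin 6 → F} (h : LinearIndependent F ![u, w]) {x : Fin 6 → F}
    (hx : ∀ y, hf y u = 0 → hf y w = 0 → hf y x = 0) : ∃ α β : F, x = α • u + β • w := by
  let b := Module.finBasis F (perp hF ![u, w])
  have hb : LinearIndependent F fun i => (b i : Fin 6 → F) :=
    b.linearIndependent.map' _ (perp hF ![u, w]).ker_subtype
  have h1 := finrank_perp hF hb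
  have h2 := finrank_perp hF h
  have hle : Submodule.span F (Set.range ![u, w]) ≤ perp hF fun i => (b i : Fin 6 → F) :=
    Submodule.span_le.2 (by
      rintro _ ⟨j, rfl⟩
      exact (mem_perp hF).2 fun i => (hf_eq_zero_symm hF).1 ((mem_perp hF).1 (b i).2 j))
  have he : Submodule.span F (Set.range ![u, w]) = perp hF fun i => (b i : Fin 6 → F) := by
    refine Submodule.eq_of_le_of_finrank_le hle ?_
    rw [finrank_span_eq_card h, Fintype.card_fin]
    omega
  have hmem : x ∈ Submodule.span F (Set.range ![u, w]) := he ▸ (mem_perp hF).2 fun i =>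
    (hf_eq_zero_symm hF).1 (hx _ ((mem_perp hF).1 (b i).2 0) ((mem_perp hF).1 (b i).2 1))
  rw [Matrix.range_cons_cons_empty, Submodule.mem_span_pair] at hmem
  obtain ⟨α, β, e⟩ := hmem
  exact ⟨α, β, e.symm⟩

theorem exists_iso_companion (hF : Fintype.card F = 4) {u w y : Fin 6 → F} (hy : hf y y = 1) :
    ∃ f, hf f f = 1 ∧ ∀ i, hf f (![u, w, y] i) = 0 := by
  by_contra hc
  have hiso : ∀ p : perp hF ![u, w, y], hf (p : Fin 6 → F) p = 0 := fun p => by
    by_contra hp
    exact hc ⟨p, fixed_eq_one hF ((herm hF).self_fixed _) hp, (mem_perp hF).1 p.2⟩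
  have hz : ∀ p q : perp hF ![u, w, y], hf (p : Fin 6 → F) q = 0 :=
    ((herm hF).comap (perp hF ![u, w, y]).subtype).eq_zero_of_isotropic (card_sq hF) hiso
  let b := Module.finBasis F (perp hF ![u, w, y])
  have hb : LinearIndependent F fun i => (b i : Fin 6 → F) :=
    b.linearIndependent.map' _ (perp hF ![u, w, y]).ker_subtype
  have h1 := finrank_perp hF hb
  have h2 := le_finrank_perp hF ![u, w, y]
  have hle : perp hF ![u, w, y] ≤ perp hF fun i => (b i : Fin 6 → F) := fun p hp =>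
    (mem_perp hF).2 fun i => hz ⟨p, hp⟩ (b i)
  have he := Submodule.eq_of_le_of_finrank_le hle (by omega)
  have hy' : y ∈ perp hF ![u, w, y] := he ▸ (mem_perp hF).2 fun i =>
    (hf_eq_zero_symm hF).1 ((mem_perp hF).1 (b i).2 2)
  exact one_ne_zero (hy.symm.trans ((mem_perp hF).1 hy' 2))

/-- A vector orthogonal to every isotropic vector orthogonal to two independent vectors is in their span. -/
theorem span_of_iso_perp (hF : Fintype.card F = 4) {ω : F} (hω : ω ^ 2 = ω + 1) {u w x : Fin 6 → F}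
    (h : LinearIndependent F ![u, w]) (H : ∀ y, Iso y → hf y u = 0 → hf y w = 0 → hf y x = 0) :
    ∃ α β : F, x = α • u + β • w := by
  exact perp_eq_span hF h (x := x) (fun y hyu hyw => by
    by_cases hy0 : y = 0
    · rw [hy0, hf_zero_left hF]
    by_cases hyy : hf y y = 0
    · exact H y ⟨hy0, hyy⟩ hyu hyw
    have hy1 : hf y y = 1 := fixed_eq_one hF ((herm hF).self_fixed y) hyy
    obtain ⟨f, hff, hfp⟩ := exists_iso_companion hF (u := u) (w := w) hy1
    have hfu : hf f u = 0 := hfp 0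
    have hfw : hf f w = 0 := hfp 1
    have hfy : hf f y = 0 := hfp 2
    have hyf : hf y f = 0 := (hf_eq_zero_symm hF).1 hfy
    have hc : ∀ c : F, c ^ 3 = 1 → hf y x + c * hf f x = 0 := fun c hc => by
      rw [← hf_smul_left hF, ← hf_add_left hF]
      refine H _ ⟨fun h0 => ?_, ?_⟩ ?_ ?_
      · have h1 := congrArg (fun z => hf z y) h0
        simp only [hf_add_left hF, hf_smul_left hF, hf_zero_left hF, hy1, hfy, mul_zero, add_zero] at h1
        exact one_ne_zero h1
      · rw [hf_add_left hF, hf_add_right hF, hf_add_right hF, hf_smul_left hF, hf_smul_left hF,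
          hf_smul_right hF, hf_smul_right hF, hy1, hyf, hfy, hff]
        linear_combination hc + two_eq_zero hF
      · rw [hf_add_left hF, hf_smul_left hF, hyu, hfu]; simp
      · rw [hf_add_left hF, hf_smul_left hF, hyw, hfw]; simp
    have h1 := hc 1 (one_pow 3)
    have h2 := hc ω (by linear_combination (ω + 1) * hω + ω * two_eq_zero hF)
    have hω1 : ω - 1 ≠ 0 := fun e => by
      rw [sub_eq_zero] at e
      rw [e] at hω
      exact one_ne_zero (show (1 : F) = 0 by linear_combination -hω)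
    have h3 : hf f x = 0 :=
      (mul_eq_zero.1 (show (ω - 1) * hf f x = 0 by linear_combination h2 - h1)).resolve_left hω1
    linear_combination h1 - h3)

/-- The double perpendicular of a totally isotropic line of a six-dimensional space. -/
theorem double_perp (hF : Fintype.card F = 4) {ω : F} (hω : ω ^ 2 = ω + 1) {u w x : Fin 6 → F}
    (h : OrthPair u w) (hx : Iso x) (H : ∀ y, Iso y → hf y u = 0 → hf y w = 0 → hf y x = 0) :
    ∃ p ∈ linePts ω u w, ∃ c : F, c ≠ 0 ∧ x = c • p := by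
  obtain ⟨α, β, e⟩ := span_of_iso_perp hF hω h.li H
  exact mem_linePts_of_span hF hω hx.1 e

end Cfsg.Agent.ThreeTransSU
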