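/-
Certificates: m reflections generate the isotropic points of F^m for m = 3, 5, and five those of F^4.

Main results (namespace `Cfsg.Agent.ThreeTransSU`): `hasGens_three`, `hasGensN_four`, `hasGens_five`.
-/
import Cfsg.Agent.Lib.ThreeTransSU.Radical
import Cfsg.Agent.Lib.SU32.Basic

set_option autoImplicit false

namespace Cfsg.Agent.ThreeTransSU.GensCert

open Cfsg.Agent.SU32

/-- The vector of a list. -/
def vec (m : ℕ) (l : List K4) : Fin m → K4 := fun i => l.getD i.val .z

/-- The form. -/
def hk (m : ℕ) (a b : List K4) : K4 := Cfsg.hermForm m K4 2 (vec m a) (vec m b)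

/-- All vectors. -/
def allVecs : ℕ → List (List K4)
  | 0 => [[]]
  | m + 1 => (allVecs m).flatMap fun l => [.z :: l, .o :: l, .w :: l, .w2 :: l]

/-- The reflection of `b` at `a`. -/
def refl (m : ℕ) (a b : List K4) : List K4 := List.ofFn fun i => vec m b i + hk m b a * vec m a i

/-- Apply the steps, checking each. -/
def build (m : ℕ) : List (ℕ × ℕ) → List (List K4) → Option (List (List K4))
  | [], L => some L
  | (i, j) :: t, L =>
    if i < L.length ∧ j < L.length ∧ hk m (L.getD j []) (L.getD i []) ≠ .z then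
      build m t (L ++ [refl m (L.getD i []) (L.getD j [])])
    else none

/-- A scalar multiple. -/
def smulL (m : ℕ) (c : K4) (p : List K4) : List K4 := List.ofFn fun i => c * vec m p i

/-- The check. -/
def check (m : ℕ) (g : List (List K4)) (st : List (ℕ × ℕ)) : Bool :=
  (g.all fun a => decide (hk m a a = .z ∧ vec m a ≠ fun _ => .z)) &&
  match build m st g with
  | none => false
  | some L => (allVecs m).all fun x =>
      decide (hk m x x ≠ .z) || decide (vec m x = fun _ => .z) ||
        L.any fun p => decide (x = smulL m .o p ∨ x = smulL m .w p ∨ x = smulL m .w2 p)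

theorem ofFn_mem : ∀ (m : ℕ) (f : Fin m → K4), List.ofFn f ∈ allVecs m
  | 0, f => by simp [allVecs]
  | m + 1, f => by
    rw [List.ofFn_succ, allVecs, List.mem_flatMap]
    refine ⟨_, ofFn_mem m fun i => f i.succ, ?_⟩
    cases f 0 <;> simp

theorem vec_ofFn {m : ℕ} (f : Fin m → K4) : vec m (List.ofFn f) = f := by
  funext i
  simp [vec]

theorem hf_map {m : ℕ} {F : Type*} [Field F] (e : K4 ≃+* F) (a b : Fin m → K4) :
    hf (fun i => e (a i)) (fun i => e (b i)) = e (Cfsg.hermForm m K4 2 a b) := by
  simp [Cfsg.hermForm, map_sum]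

theorem build_sound {m : ℕ} {P : List K4 → Prop}
    (hstep : ∀ a b, P a → P b → hk m b a ≠ .z → P (refl m a b)) :
    ∀ (st : List (ℕ × ℕ)) (L L' : List (List K4)), (∀ x ∈ L, P x) → build m st L = some L' → ∀ x ∈ L', P x
  | [], L, L', h, e => by simp only [build, Option.some.injEq] at e; exact e ▸ h
  | (i, j) :: t, L, L', h, e => by
    rw [build] at e
    split at e
    case isFalse => exact absurd e (by simp)
    case isTrue hij =>
      refine build_sound hstep t _ L' (fun x hx => ?_) e
      rcases List.mem_append.1 hx with hx | hx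
      · exact h x hx
      · rw [List.mem_singleton] at hx
        subst hx
        refine hstep _ _ ?_ ?_ hij.2.2
        · rw [List.getD_eq_getElem _ _ hij.1]; exact h _ (List.getElem_mem _)
        · rw [List.getD_eq_getElem _ _ hij.2.1]; exact h _ (List.getElem_mem _)

theorem hasGens_of_check {m : ℕ} {g : List (List K4)} {st : List (ℕ × ℕ)} (hc : check m g st = true)
    {F : Type*} [Field F] [Fintype F] (hF : Fintype.card F = 4) : HasGensN F m g.length := by
  simp only [check, Bool.and_eq_true, List.all_eq_true, decide_eq_true_eq] at hc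
  obtain ⟨hiso, hb⟩ := hc
  cases hL : build m st g with
  | none => rw [hL] at hb; exact absurd hb (by simp)
  | some L =>
    rw [hL] at hb
    simp only [List.all_eq_true, Bool.or_eq_true, List.any_eq_true, decide_eq_true_eq] at hb
    let e : K4 ≃+* F := FiniteField.ringEquivOfCardEq (hF ▸ K4.card_eq)
    have hgl : ∀ i : Fin g.length, g.getD i.val [] ∈ g := fun i => by
      rw [List.getD_eq_getElem _ _ i.2]; exact List.getElem_mem _
    refine ⟨fun i k => e (vec m (g.getD i.val []) k), fun i => ?_, fun P hP hre hsm x hx => ?_⟩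
    · obtain ⟨h1, h2⟩ := hiso _ (hgl i)
      refine ⟨fun h => h2 (funext fun k => e.injective ((congrFun h k).trans (map_zero e).symm)), ?_⟩
      rw [hf_map e, show Cfsg.hermForm m K4 2 _ _ = (0 : K4) from h1, map_zero]
    have hall : ∀ p ∈ L, (fun k => e (vec m p k)) ∈ P := by
      refine build_sound (P := fun p => (fun k => e (vec m p k)) ∈ P) ?_ st g L ?_ hL
      · intro a b ha hb' hne
        have hval : hf (fun k => e (vec m b k)) (fun k => e (vec m a k)) = e (hk m b a) := hf_map e _ _
        have h := hre _ ha _ hb' (by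
          rw [hval]
          exact fun h => hne (e.injective (h.trans (map_zero e).symm)))
        rw [hval] at h
        convert h using 1
        funext k
        simp [refl, vec_ofFn]
      · intro p hp
        obtain ⟨i, hi, rfl⟩ := List.getElem_of_mem hp
        have := hP ⟨i, hi⟩
        rw [← List.getD_eq_getElem g [] hi]
        exact this
    set y : Fin m → K4 := fun k => e.symm (x k) with hy
    have hxe : x = fun k => e (y k) := funext fun k => (e.apply_symm_apply (x k)).symm
    rcases hb _ (ofFn_mem m y) with (h | h) | ⟨p, hp, h⟩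
    · exfalso
      refine h (e.injective ?_)
      rw [hk, vec_ofFn, ← hf_map e, ← hxe]
      exact hx.2.trans (map_zero e).symm
    · exfalso
      refine hx.1 ?_
      rw [hxe]
      funext k
      rw [show y k = (0 : K4) from congrFun ((vec_ofFn y).symm.trans h) k, map_zero]
      rfl
    · have key : ∀ c : K4, c ≠ .z → List.ofFn y = smulL m c p → x ∈ P := by
        intro c hc hy'
        have h1 : y = fun k => c * vec m p k := by
          have := congrArg (vec m) hy'
          rwa [vec_ofFn, smulL, vec_ofFn] at this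
        have h2 := hsm (e c) _ (hall p hp) fun h0 => hc (e.injective (h0.trans (map_zero e).symm))
        convert h2 using 1
        rw [hxe, h1]
        funext k
        simp
      rcases h with h | h | h
      exacts [key _ (by decide) h, key _ (by decide) h, key _ (by decide) h]

/-- Generators of the points of K4^3. -/
def gens3 : List (List K4) :=
  [[.z, .o, .w2],
   [.z, .o, .w],
   [.o, .w2, .z]]

/-- Reflection steps. -/
def steps3 : List (ℕ × ℕ) :=
  [(1, 0), (2, 0), (2, 1), (4, 1), (3, 2), (6, 2)]

/-- Five generators of the points of K4^4. -/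
def gens4 : List (List K4) :=
  [[.o, .o, .w, .o],
   [.o, .w2, .w2, .w],
   [.o, .w, .o, .o],
   [.z, .o, .z, .w],
   [.z, .z, .o, .w2]]

/-- Reflection steps. -/
def steps4 : List (ℕ × ℕ) :=
  [(1, 0), (2, 0), (3, 0), (2, 1), (3, 1), (7, 1), (3, 2), (4, 2),
   (7, 2), (4, 3), (5, 3), (6, 3), (10, 3), (13, 3), (6, 4), (7, 4),
   (8, 4), (9, 4), (10, 4), (13, 4), (15, 4), (16, 4), (17, 4), (16, 1),
   (18, 1), (26, 1), (20, 2), (22, 2), (23, 2), (24, 2), (27, 2), (30, 2),
   (23, 3), (27, 3), (30, 3), (22, 6), (27, 6), (30, 6), (37, 6), (35, 7)]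

/-- Generators of the points of K4^5. -/
def gens5 : List (List K4) :=
  [[.z, .o, .w, .z, .z],
   [.o, .w, .o, .z, .w],
   [.z, .o, .z, .z, .o],
   [.z, .z, .z, .o, .o],
   [.z, .o, .z, .z, .w]]

/-- Reflection steps. -/
def steps5 : List (ℕ × ℕ) :=
  [(1, 0), (2, 0), (4, 0), (3, 1), (4, 1), (6, 1), (7, 1), (3, 2), (4, 2),
   (7, 2), (8, 2), (9, 2), (11, 2), (4, 3), (5, 3), (6, 3), (7, 3), (9, 3),
   (10, 3), (11, 3), (13, 3), (16, 3), (17, 3), (5, 4), (6, 4), (8, 4), (11, 4),
   (12, 4), (14, 4), (15, 4), (19, 4), (22, 4), (23, 4), (24, 4), (25, 4), (26, 4),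
   (27, 4), (15, 0), (22, 0), (24, 0), (25, 0), (30, 0), (34, 0), (35, 0), (36, 0),
   (37, 0), (38, 0), (40, 0), (41, 0), (20, 1), (21, 1), (23, 1), (25, 1), (26, 1),
   (32, 1), (34, 1), (35, 1), (38, 1), (39, 1), (40, 1), (41, 1), (42, 1), (43, 1),
   (44, 1), (45, 1), (46, 1), (47, 1), (49, 1), (50, 1), (53, 1), (19, 2), (22, 2),
   (27, 2), (30, 2), (35, 2), (37, 2), (38, 2), (40, 2), (41, 2), (43, 2), (44, 2),
   (47, 2), (61, 2), (62, 2), (64, 2), (65, 2), (67, 2), (68, 2), (71, 2), (34, 3),
   (38, 3), (47, 3), (51, 3), (59, 3), (63, 3), (64, 3), (65, 3), (73, 3), (78, 3),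
   (79, 3), (80, 3), (81, 3), (82, 3), (83, 3), (86, 3), (88, 3), (90, 3), (91, 3),
   (92, 3), (93, 3), (42, 4), (54, 4), (66, 4), (68, 4), (73, 4), (74, 4), (75, 4),
   (79, 4), (80, 4), (81, 4), (84, 4), (85, 4), (87, 4), (90, 4), (91, 4), (93, 4),
   (96, 4), (108, 4), (109, 4), (110, 4), (113, 4), (114, 4), (26, 5), (41, 5), (45, 5),
   (47, 5), (78, 5), (83, 5), (98, 5), (99, 5), (104, 5), (105, 5), (107, 5), (113, 5),
   (131, 5), (132, 5), (134, 5), (136, 5), (94, 6), (98, 6), (110, 6), (112, 6), (120, 6),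
   (135, 6), (143, 6), (135, 7), (143, 7), (147, 7), (81, 8), (133, 8)]

theorem check_three : check 3 gens3 steps3 = true := by decide +kernel

theorem check_four : check 4 gens4 steps4 = true := by decide +kernel

theorem check_five : check 5 gens5 steps5 = true := by decide +kernel

end Cfsg.Agent.ThreeTransSU.GensCert

namespace Cfsg.Agent.ThreeTransSU

theorem hasGens_three {F : Type*} [Field F] [Fintype F] (hF : Fintype.card F = 4) : HasGens F 3 :=
  GensCert.hasGens_of_check GensCert.check_three hF

theorem hasGensN_four {F : Type*} [Field F] [Fintype F] (hF : Fintype.card F = 4) : HasGensN F 4 5 :=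
  GensCert.hasGens_of_check GensCert.check_four hF

theorem hasGens_five {F : Type*} [Field F] [Fintype F] (hF : Fintype.card F = 4) : HasGens F 5 :=
  GensCert.hasGens_of_check GensCert.check_five hF

end Cfsg.Agent.ThreeTransSU
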