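/-
Central extensions of SU(6,2) with lifted transvections and trivial line products: the kernel has order at most 4.

Transfer to the stabiliser of an isotropic vector puts the kernel into the radical times the lifts of a SU(4,2);
these lifts lie in a split SU(5,2), and five generators bound the radical.

Main results (namespace `Cfsg.Agent.ThreeTransSU`):
* `mem_commutator_of_coprime_index` : transfer of a central element of the derived group;
* `Ext.card_ker_six` : `Nat.card ψ.ker ≤ 4` for n = 6.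
-/
import Cfsg.Agent.Lib.ThreeTransSU.CentralExt
import Cfsg.Agent.Lib.ThreeTransSU.GensCert
import Cfsg.Agent.Lib.FischerM22.Stab
import Cfsg.Agent.Lib.FischerM22.Counts

set_option autoImplicit false

namespace Cfsg.Agent.ThreeTransSU

open scoped Matrix commutatorElement
open Cfsg.Agent.Unitary Cfsg.Agent.U62Cover

/-- Transfer: a central element of the derived group lies in the derived group of a subgroup of coprime index. -/
theorem mem_commutator_of_coprime_index {B : Type*} [Group B] [Finite B] (K : Subgroup B) {x : B}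
    (hxK : x ∈ K) (hx : x ∈ Subgroup.center B) (hx' : x ∈ commutator B)
    (hcop : K.index.Coprime (orderOf x)) : (⟨x, hxK⟩ : K) ∈ commutator K := by
  have key : ∀ (k : ℕ) (g₀ : B), g₀⁻¹ * x ^ k * g₀ ∈ K → g₀⁻¹ * x ^ k * g₀ = x ^ k := by
    intro k g₀ _
    rw [mul_assoc, ← Subgroup.mem_center_iff.1 (pow_mem hx k) g₀, ← mul_assoc, inv_mul_cancel, one_mul]
  let φ := MonoidHom.transfer (Abelianization.of : K →* _)
  have h1 : φ x = 1 := Abelianization.commutator_subset_ker φ hx'
  rw [MonoidHom.transfer_eq_pow _ x key] at h1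
  have h2 : (⟨x, hxK⟩ : K) ^ K.index ∈ commutator K := by
    rw [← Abelianization.ker_of, MonoidHom.mem_ker, ← h1]
    rfl
  obtain ⟨e, he⟩ := exists_pow_eq_self_of_coprime (x := (⟨x, hxK⟩ : K)) (n := K.index) (by
    rwa [← Subgroup.orderOf_coe])
  rw [← he]
  exact pow_mem h2 e

variable {F : Type*} [Field F] [Fintype F]

/-- A vector of F^5 in the last five coordinates. -/
def upVec (w : Fin 5 → F) : Fin 6 → F := Fin.append (0 : Fin 1 → F) w

omit [Fintype F] in
/-- SU(5,2) on the last five coordinates. -/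
def upHom : Cfsg.SU 5 F 2 →* Cfsg.SU (1 + 5) F 2 where
  toFun B := suOfUnitary (blockMatrix 1 (mt B))
    (isUnitary_block IsUnitary.one fun u v => SU_apply B u v)
    (by
      rw [FischerM22.det_block, Matrix.det_one, one_mul]
      exact (B : Matrix.SpecialLinearGroup (Fin 5) F).2)
  map_one' := Subtype.ext (Subtype.ext (Matrix.ext_iff_mulVec.2 fun x => by
    show blockMatrix (1 : Matrix (Fin 1) (Fin 1) F) 1 *ᵥ x = (1 : Matrix (Fin (1 + 5)) (Fin (1 + 5)) F) *ᵥ x
    rw [← append_split x, blockMatrix_mulVec, Matrix.one_mulVec, Matrix.one_mulVec, Matrix.one_mulVec]))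
  map_mul' a b := Subtype.ext (Subtype.ext (by
    show blockMatrix (1 : Matrix (Fin 1) (Fin 1) F) (mt a * mt b) = blockMatrix 1 (mt a) * blockMatrix 1 (mt b)
    rw [← blockMatrix_mul, Matrix.mul_one]))

theorem act_upHom (B : Cfsg.SU 5 F 2) (u : Fin 1 → F) (x : Fin 5 → F) :
    act (upHom B) (Fin.append u x) = Fin.append u (act B x) := by
  show blockMatrix (1 : Matrix (Fin 1) (Fin 1) F) (mt B) *ᵥ Fin.append u x = _
  rw [blockMatrix_mulVec, Matrix.one_mulVec]
  rfl

theorem upHom_injective : Function.Injective (upHom (F := F)) := fun a b h => act_ext fun x => by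
  have h1 := congrArg (fun g => act g (Fin.append (0 : Fin 1 → F) x)) h
  simp only [act_upHom] at h1
  funext i
  have h2 := congrFun h1 (Fin.natAdd 1 i)
  simpa using h2

theorem hf_upVec (hF : Fintype.card F = 4) (x y : Fin 5 → F) : hf (upVec x) (upVec y) = hf x y := by
  show hf (Fin.append (0 : Fin 1 → F) x) (Fin.append (0 : Fin 1 → F) y) = _
  rw [show hf (Fin.append (0 : Fin 1 → F) x) (Fin.append (0 : Fin 1 → F) y)
    = hf (0 : Fin 1 → F) 0 + hf x y from hermForm_append _ _ x y, hf_zero_left hF, zero_add]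

omit [Fintype F] in
theorem upVec_inj {x y : Fin 5 → F} (h : upVec x = upVec y) : x = y := funext fun i => by
  have := congrFun h (Fin.natAdd 1 i)
  simpa [upVec] using this

omit [Fintype F] in
theorem upVec_smul (c : F) (x : Fin 5 → F) : upVec (c • x) = c • upVec x := by
  ext i
  induction i using Fin.addCases (m := 1) (n := 5) <;> simp [upVec]

omit [Fintype F] in
theorem upVec_add (x y : Fin 5 → F) : upVec (x + y) = upVec x + upVec y := by
  ext i
  induction i using Fin.addCases (m := 1) (n := 5) <;> simp [upVec]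

theorem iso_upVec (hF : Fintype.card F = 4) {w : Fin 5 → F} (hw : Iso w) : Iso (upVec w) :=
  ⟨fun h => hw.1 (upVec_inj (h.trans (funext fun i => by
    induction i using Fin.addCases (m := 1) (n := 5) <;> simp [upVec]))),
    by rw [hf_upVec hF]; exact hw.2⟩

theorem upHom_tv (hF : Fintype.card F = 4) {w : Fin 5 → F} (hw : Iso w) :
    upHom (tv hF w) = tv hF (upVec w) := act_ext (n := 1 + 5) fun z => by
  rw [← append_split z, act_upHom, act_tv hF hw.2]
  generalize (fun i => z (Fin.castAdd 5 i)) = u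
  generalize (fun i => z (Fin.natAdd 1 i)) = x
  rw [act_tv (n := 1 + 5) hF (iso_upVec hF hw).2,
    show hf (Fin.append u x) (upVec w) = hf u (0 : Fin 1 → F) + hf x w from hermForm_append _ _ x w,
    hf_zero_right hF, zero_add]
  ext i
  induction i using Fin.addCases <;> simp [upVec]

namespace Ext

variable {B : Type*} [Group B] {ψ : B →* Cfsg.SU 6 F 2} {s : (Fin 6 → F) → B}

/-- The lifts in the last five coordinates. -/
def upLifts (_E : Ext ψ s) : Subgroup B :=
  Subgroup.closure {b | ∃ w : Fin 5 → F, Iso w ∧ b = s (upVec w)}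

/-- The lifts in the last five coordinates split over the kernel. -/
theorem upLifts_inf_ker (E : Ext ψ s) [Finite B] : E.upLifts ⊓ ψ.ker = ⊥ := by
  classical
  have hF := E.card
  set T := E.upLifts with hT
  have hrange : ∀ b ∈ T, ψ b ∈ (upHom (F := F)).range := by
    intro b hb
    induction hb using Subgroup.closure_induction with
    | mem x hx =>
      obtain ⟨w, hw, rfl⟩ := hx
      exact ⟨tv hF w, by rw [upHom_tv hF hw]; exact (E.map_s _ (iso_upVec hF hw)).symm⟩
    | one => exact ⟨1, by rw [map_one, map_one]⟩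
    | mul x y _ _ hx hy =>
      obtain ⟨p, hp⟩ := hx
      obtain ⟨q, hq⟩ := hy
      exact ⟨p * q, by rw [map_mul, hp, hq, map_mul]⟩
    | inv x _ hx =>
      obtain ⟨p, hp⟩ := hx
      exact ⟨p⁻¹, by rw [map_inv, hp, map_inv]⟩
  let ψ' : T →* Cfsg.SU 5 F 2 := (MonoidHom.ofInjective (upHom_injective (F := F))).symm.toMonoidHom.comp
    ((ψ.comp T.subtype).codRestrict (upHom (F := F)).range fun b => hrange b b.2)
  have hψ' : ∀ b : T, upHom (ψ' b) = ψ b := fun b =>
    congrArg Subtype.val ((MonoidHom.ofInjective (upHom_injective (F := F))).apply_symm_apply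
      ⟨ψ b, hrange b b.2⟩)
  have hmem : ∀ w, Iso w → s (upVec w) ∈ T := fun w hw => Subgroup.subset_closure ⟨w, hw, rfl⟩
  let s' : (Fin 5 → F) → T := fun w => if h : Iso w then ⟨s (upVec w), hmem w h⟩ else 1
  have hs' : ∀ w, Iso w → (s' w : B) = s (upVec w) := fun w hw => by simp only [s', dif_pos hw]
  have hmap : ∀ w, Iso w → ψ' (s' w) = tv hF w := fun w hw => upHom_injective (by
    rw [hψ', hs' w hw, upHom_tv hF hw]; exact E.map_s _ (iso_upVec hF hw))
  have E' : Ext ψ' s' :=
    { card := hF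
      five := le_refl 5
      surj := fun g => by
        have h : g ∈ Subgroup.closure {A : Cfsg.SU 5 F 2 | ∃ v, Iso v ∧ A = tv hF v} := by
          rw [closure_tv hF (by norm_num)]; exact Subgroup.mem_top g
        have hle : Subgroup.closure {A : Cfsg.SU 5 F 2 | ∃ v, Iso v ∧ A = tv hF v} ≤ ψ'.range :=
          (Subgroup.closure_le _).2 (by rintro _ ⟨v, hv, rfl⟩; exact ⟨s' v, hmap v hv⟩)
        exact hle h
      ker := by
        intro b
        have hb : ψ (((b : T)) : B) = 1 := by
          rw [← hψ', show ψ' (b : T) = 1 from b.2, map_one]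
        obtain ⟨k, hk⟩ := E.ker ⟨_, hb⟩
        refine ⟨k, Subtype.ext (Subtype.ext ?_)⟩
        have h := congrArg Subtype.val hk
        simpa using h
      map_s := hmap
      sq := fun w hw => Subtype.ext (by
        rw [Subgroup.coe_mul, hs' w hw]; exact E.sq _ (iso_upVec hF hw))
      smul := fun w c hw hc => Subtype.ext (by
        rw [hs' _ (hw.smul hF hc), hs' w hw, upVec_smul]; exact E.smul _ c (iso_upVec hF hw) hc)
      equiv := fun b w hw => Subtype.ext (by
        rw [Subgroup.coe_mul, Subgroup.coe_mul, Subgroup.coe_inv, hs' w hw, hs' _ (hw.act _),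
          E.equiv _ _ (iso_upVec hF hw), ← hψ' b]
        exact congrArg s (act_upHom _ _ _))
      gen := by
        have e : {b : T | ∃ v, Iso v ∧ b = s' v} = Subtype.val ⁻¹' {b | ∃ w, Iso w ∧ b = s (upVec w)} := by
          ext b
          constructor
          · rintro ⟨v, hv, rfl⟩; exact ⟨v, hv, hs' v hv⟩
          · rintro ⟨v, hv, e⟩; exact ⟨v, hv, Subtype.ext (e.trans (hs' v hv).symm)⟩
        rw [e]
        exact Subgroup.closure_closure_coe_preimage
      line := by
        let u : Fin 5 → F := ![1, 1, 0, 0, 0]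
        let w : Fin 5 → F := ![0, 0, 1, 1, 0]
        have h : OrthPair u w := by
          refine ⟨⟨fun h => ?_, ?_⟩, ⟨fun h => ?_, ?_⟩, ?_, fun c hc => ?_⟩
          · simpa [u] using congrFun h 0
          · simp [u, hf, Cfsg.hermForm, Fin.sum_univ_five, add_self hF]
          · simpa [w] using congrFun h 2
          · simp [w, hf, Cfsg.hermForm, Fin.sum_univ_five, add_self hF]
          · simp [u, w, hf, Cfsg.hermForm, Fin.sum_univ_five]
          · simpa [u, w] using congrFun hc 2
        have hup : OrthPair (upVec u) (upVec w) :=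
          ⟨iso_upVec hF h.1, iso_upVec hF h.2.1, by rw [hf_upVec hF]; exact h.2.2.1,
            fun c hc => h.2.2.2 c (upVec_inj (hc.trans (upVec_smul c u).symm))⟩
        refine ⟨u, w, h, fun ω hω => Subtype.ext ?_⟩
        have hi : ∀ a : F, Iso (u + a • w) := fun a => ((h.symm hF).shift hF a).2.1
        have h1 : Iso (u + w) := by simpa using hi 1
        show ((lineProd s' ω u w : T) : B) = 1
        simp only [lineProd, Subgroup.coe_mul, hs' _ h.1, hs' _ h.2.1, hs' _ h1, hs' _ (hi ω),
          hs' _ (hi (ω ^ 2)), upVec_add, upVec_smul]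
        exact E.line_all hup hω }
  have hbot := E'.ker_eq_bot ⟨2, rfl⟩ (hasGens_three hF)
  rw [eq_bot_iff]
  rintro x ⟨hx, hxk⟩
  have h1 : ψ' ⟨x, hx⟩ = 1 := upHom_injective (by
    rw [hψ', map_one]; exact hxk)
  rw [← MonoidHom.mem_ker, hbot, Subgroup.mem_bot] at h1
  exact Subgroup.mem_bot.2 (congrArg Subtype.val h1)

/-- The lifts orthogonal to the first two coordinates. -/
def lowLifts (_E : Ext ψ s) : Subgroup B :=
  Subgroup.closure {b | ∃ w : Fin 4 → F, Iso w ∧ b = s (Fin.append (0 : Fin 2 → F) w)}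

theorem lowLifts_le (E : Ext ψ s) : E.lowLifts ≤ E.upLifts := by
  refine (Subgroup.closure_le _).2 ?_
  rintro _ ⟨w, hw, rfl⟩
  let w' : Fin 5 → F := fun i => Fin.append (0 : Fin 2 → F) w (Fin.natAdd 1 i)
  have e : (Fin.append (0 : Fin 2 → F) w : Fin 6 → F) = upVec w' := by
    funext i
    induction i using Fin.addCases (m := 1) (n := 5) with
    | left i =>
      show Fin.append (0 : Fin 2 → F) w (Fin.castAdd 5 i) = Fin.append (0 : Fin 1 → F) w' (Fin.castAdd 5 i)
      rw [Fin.append_left, Fin.fin_one_eq_zero i]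
      exact Fin.append_left (0 : Fin 2 → F) w 0
    | right i => exact (Fin.append_right (0 : Fin 1 → F) w' i).symm
  have hI : Iso w' := by
    have h1 := FischerM22.iso_lower E.card hw
    refine ⟨fun h => h1.1 ?_, ?_⟩
    · rw [e, h]
      funext i
      induction i using Fin.addCases (m := 1) (n := 5) <;> simp [upVec]
    · rw [← hf_upVec E.card, ← e]; exact h1.2
  exact Subgroup.subset_closure ⟨w', hI, by rw [e]⟩

/-- The kernel has order at most four. -/
theorem card_ker_six (E : Ext ψ s) [Finite B] : Nat.card ψ.ker ≤ 4 := by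
  classical
  have hF := E.card
  obtain ⟨ω, -, hω⟩ := exists_omega hF
  have h4 : (ω ^ 2) ^ 2 = ω := pow_q_pow_q (card_sq hF) ω
  let v : Fin 6 → F := Fin.append ![1, 1] (0 : Fin 4 → F)
  let z : Fin 6 → F := Fin.append ![ω, ω ^ 2] (0 : Fin 4 → F)
  have h2sum : ∀ a b : Fin 2 → F, hf (Fin.append a (0 : Fin 4 → F)) (Fin.append b 0)
      = a 0 * b 0 ^ 2 + a 1 * b 1 ^ 2 := fun a b => by
    rw [FischerM22.hf_append, hf_zero_left hF, add_zero]
    simp [hf, Cfsg.hermForm, Fin.sum_univ_two]
  have e00 : hf v v = 0 := (h2sum _ _).trans (by simp; linear_combination two_eq_zero hF)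
  have hz : Partner v z := ⟨(h2sum _ _).trans (by
      simp
      rw [h4]
      linear_combination ω ^ 3 * two_eq_zero hF), (h2sum _ _).trans (by
      simp
      rw [h4]
      linear_combination hω + ω * two_eq_zero hF)⟩
  have hv : Iso v := ⟨fun h => one_ne_zero (hz.2.symm.trans (by rw [h, hf_zero_left hF])), e00⟩
  have hzv := hf_eq_one_symm hF hz.2
  have hm : 4 + 2 = 6 := rfl
  set R := E.radical v with hR
  set L := E.lowLifts with hL
  -- elements of the radical fixing the partner lie in the kernel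
  have hfix : ∀ r ∈ R, act (ψ r) z = z → ψ r = 1 := by
    intro r hr hrz
    obtain ⟨hrv, hrx⟩ := E.radical_spec hv hr
    have hy : ∀ y, hf y v = 0 → act (ψ r) y = y := by
      intro y hy
      obtain ⟨c, hc⟩ := hrx y hy
      have h1 := act_hf (ψ r) y z
      rw [hrz, hc, hf_add_left hF, hf_smul_left hF, hz.2, mul_one, add_eq_left] at h1
      rw [hc, h1, zero_smul, add_zero]
    refine act_ext fun x => ?_
    rw [act_one]
    have e : x = (x + hf x v • z) + hf x v • z := (vadd_cancel hF x _).symm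
    have h0 : hf (x + hf x v • z) v = 0 := by
      rw [hf_add_left hF, hf_smul_left hF, hzv, mul_one, add_self hF]
    nth_rewrite 1 [e]
    rw [act_add, act_smul, hy _ h0, hrz, ← e]
  -- the stabiliser of the vector
  let H := E.fixSub ![v]
  have hHv : ∀ g, g ∈ H ↔ act (ψ g) v = v := fun g =>
    ⟨fun h => h 0, fun h i => by rw [Fin.fin_one_eq_zero i]; exact h⟩
  have hLlow : ∀ B' : Cfsg.SU 4 F 2, ∃ l ∈ L, ψ l = FischerM22.lowerHom B' := by
    intro B'
    have hle : (⊤ : Subgroup (Cfsg.SU 4 F 2)) ≤ (L.map ψ).comap FischerM22.lowerHom := by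
      rw [← closure_tv hF (le_refl 4), Subgroup.closure_le]
      rintro _ ⟨w, hw, rfl⟩
      refine ⟨_, Subgroup.subset_closure ⟨w, hw, rfl⟩, ?_⟩
      rw [FischerM22.lowerHom_tv hF hw]
      exact E.map_s _ (FischerM22.iso_lower hF hw)
    obtain ⟨l, hl, e⟩ := hle (Subgroup.mem_top B')
    exact ⟨l, hl, e⟩
  have hdec : H ≤ ψ.ker ⊔ (L ⊔ R) := by
    intro g hg
    have hgv := (hHv g).1 hg
    have hp : Partner v (act (ψ g) z) := by
      refine ⟨by rw [act_hf]; exact hz.1, ?_⟩
      have h1 := act_hf (ψ g) v z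
      rw [hgv] at h1
      rw [h1]; exact hz.2
    obtain ⟨r, hr, hrz⟩ := E.radical_transitive hm hv hz hp
    have hrv := (E.radical_spec hv hr).1
    have h1 : act (ψ (r⁻¹ * g)) v = v := by
      rw [map_mul, map_inv, act_mul, hgv]
      conv_lhs => rw [← hrv, act_inv_act]
    have h2 : act (ψ (r⁻¹ * g)) z = z := by rw [map_mul, map_inv, act_mul, ← hrz, act_inv_act]
    obtain ⟨B', hB'⟩ := FischerM22.exists_lower hF hω (ψ (r⁻¹ * g)) h1 h2
    obtain ⟨l, hl, hle⟩ := hLlow B'
    have hk : r⁻¹ * g * l⁻¹ ∈ ψ.ker := by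
      rw [MonoidHom.mem_ker, map_mul, map_inv, hle, ← hB', mul_inv_cancel]
    rw [show g = r * (r⁻¹ * g * l⁻¹) * l by group]
    exact mul_mem (mul_mem (Subgroup.mem_sup_right (Subgroup.mem_sup_right hr)) (Subgroup.mem_sup_left hk))
      (Subgroup.mem_sup_right (Subgroup.mem_sup_left hl))
  have hLv : ∀ l ∈ L, act (ψ l) v = v ∧ act (ψ l) z = z := by
    intro l hl
    induction hl using Subgroup.closure_induction with
    | mem x hx =>
      obtain ⟨w, hw, rfl⟩ := hx
      have hI := FischerM22.iso_lower hF hw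
      rw [E.map_s _ hI]
      refine ⟨act_tv_of_orth hF hI.2 ((FischerM22.hf_append _ _ _ _).trans ?_),
        act_tv_of_orth hF hI.2 ((FischerM22.hf_append _ _ _ _).trans ?_)⟩ <;>
        rw [hf_zero_right hF, hf_zero_left hF, add_zero]
    | one => exact ⟨by rw [map_one, act_one], by rw [map_one, act_one]⟩
    | mul x y _ _ hx hy =>
      exact ⟨by rw [map_mul, act_mul, hy.1, hx.1], by rw [map_mul, act_mul, hy.2, hx.2]⟩
    | inv x _ hx =>
      refine ⟨?_, ?_⟩ <;> rw [map_inv]
      · conv_lhs => rw [← hx.1, act_inv_act]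
      · conv_lhs => rw [← hx.2, act_inv_act]
  have hcent : ∀ k ∈ ψ.ker, ∀ g : B, g * k = k * g := fun k hk g =>
    Subgroup.mem_center_iff.1 (E.central hk) g
  have hsub : (commutator H).map H.subtype ≤ L ⊔ R := by
    rw [commutator_def, Subgroup.map_commutator, ← MonoidHom.range_eq_map, Subgroup.range_subtype,
      Subgroup.commutator_le]
    intro a ha b hb
    obtain ⟨a1, ha1, a2, ha2, rfl⟩ := Subgroup.mem_sup_of_normal_left.1 (hdec ha)
    obtain ⟨b1, hb1, b2, hb2, rfl⟩ := Subgroup.mem_sup_of_normal_left.1 (hdec hb)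
    have ca : ∀ g, Commute a1 g := fun g => (hcent a1 ha1 g).symm
    have cb : ∀ g, Commute b1 g := fun g => (hcent b1 hb1 g).symm
    have e : ⁅a1 * a2, b1 * b2⁆ = ⁅a2, b2⁆ := by
      rw [commutatorElement_def, commutatorElement_def]
      calc a1 * a2 * (b1 * b2) * (a1 * a2)⁻¹ * (b1 * b2)⁻¹
          = a1 * (a2 * b1) * b2 * a2⁻¹ * a1⁻¹ * b2⁻¹ * b1⁻¹ := by group
        _ = (a1 * b1) * (a2 * b2 * a2⁻¹ * a1⁻¹ * b2⁻¹ * b1⁻¹) := by rw [← (cb a2).eq]; group
        _ = (a1 * b1) * (a2 * b2 * a2⁻¹ * (b2⁻¹ * a1⁻¹) * b1⁻¹) := by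
            rw [← ((ca b2⁻¹).inv_left).eq]; group
        _ = (a1 * b1) * (a2 * b2 * a2⁻¹ * b2⁻¹) * (b1 * a1)⁻¹ := by group
        _ = a2 * b2 * a2⁻¹ * b2⁻¹ := by
            rw [((ca _).mul_left (cb _)).eq, ← (ca b1).eq, mul_inv_cancel_right]
    rw [e, commutatorElement_def]
    exact mul_mem (mul_mem (mul_mem ha2 hb2) (inv_mem ha2)) (inv_mem hb2)
  -- odd index
  let inst : MulAction B {x : Fin 6 → F // Iso x} :=
    { smul := fun g x => ⟨act (ψ g) x.1, x.2.act _⟩
      one_smul := fun x => Subtype.ext (by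
        show act (ψ 1) x.1 = x.1
        rw [map_one, act_one])
      mul_smul := fun p q x => Subtype.ext (by
        show act (ψ (p * q)) x.1 = act (ψ p) (act (ψ q) x.1)
        rw [map_mul, act_mul]) }
  have hH : MulAction.stabilizer B (⟨v, hv⟩ : {x : Fin 6 → F // Iso x}) = H := by
    ext g
    rw [MulAction.mem_stabilizer_iff, hHv]
    exact ⟨fun h => congrArg Subtype.val h, fun h => Subtype.ext h⟩
  have : MulAction.IsPretransitive B {x : Fin 6 → F // Iso x} := ⟨fun x y => by
    obtain ⟨g, hg⟩ := exists_act hF (by norm_num) x.2 y.2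
    obtain ⟨b, rfl⟩ := E.surj g
    exact ⟨b, Subtype.ext hg⟩⟩
  have hindex : H.index = 2079 := by
    rw [← hH, MulAction.index_stabilizer_of_transitive, FischerM22.count_iso hF]
  -- the kernel lies in the radical
  have : Fact (Nat.Prime 2) := ⟨Nat.prime_two⟩
  have hkerR : ψ.ker ≤ R := by
    intro x hx
    have hxH : x ∈ H := (hHv x).2 (by rw [show ψ x = 1 from hx, act_one])
    obtain ⟨j, hj⟩ := IsPGroup.iff_orderOf.1 E.ker ⟨x, hx⟩
    rw [← Subgroup.orderOf_coe] at hj
    have hmem := mem_commutator_of_coprime_index H hxH (E.central hx) (E.perfect ▸ Subgroup.mem_top x)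
      (by rw [hindex, hj]; exact Nat.Coprime.pow_right j (by norm_num))
    have hxLR : x ∈ ((L ⊔ R : Subgroup B) : Set B) := hsub ⟨_, hmem, rfl⟩
    rw [Subgroup.coe_mul_of_left_le_normalizer_right _ _
      (fun l hl => E.radical_conj hv (hLv l hl).1)] at hxLR
    obtain ⟨l, hl, r, hr, rfl⟩ := hxLR
    have h1 : ψ l * ψ r = 1 := by rw [← map_mul]; exact hx
    have hr1 : ψ r = 1 := hfix r hr (by
      rw [eq_inv_of_mul_eq_one_right h1]
      conv_lhs => rw [← (hLv l hl).2, act_inv_act])
    have hl1 : l ∈ E.upLifts ⊓ ψ.ker :=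
      ⟨E.lowLifts_le hl, by rw [hr1, mul_one] at h1; exact h1⟩
    rw [E.upLifts_inf_ker, Subgroup.mem_bot] at hl1
    rw [hl1]; simpa using hr
  -- count
  have hle : Nat.card R ≤ 2 * 4 ^ 5 := E.card_radical_le' hm (hasGensN_four hF) hv
  have hge := card_partner_ge hF hm hv hz
  have hrp : ∀ p : {x : Fin 6 → F // Partner v x}, ∃ r ∈ R, act (ψ r) z = p.1 := fun p =>
    E.radical_transitive hm hv hz p.2
  choose rp hrp1 hrp2 using hrp
  let f : ψ.ker × {x : Fin 6 → F // Partner v x} → R := fun q =>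
    ⟨(q.1 : B) * rp q.2, mul_mem (hkerR q.1.2) (hrp1 q.2)⟩
  have hf' : Function.Injective f := by
    rintro ⟨k, p⟩ ⟨k', p'⟩ h
    have h1 : (k : B) * rp p = (k' : B) * rp p' := congrArg Subtype.val h
    have h2 := congrArg (fun b => act (ψ b) z) h1
    simp only [map_mul, show ψ (k : B) = 1 from k.2, show ψ (k' : B) = 1 from k'.2, one_mul, hrp2] at h2
    obtain rfl := Subtype.ext h2
    rw [Prod.mk.injEq]
    exact ⟨Subtype.ext (mul_right_cancel h1), rfl⟩
  have h := Nat.card_le_card_of_injective f hf'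
  rw [Nat.card_prod] at h
  have h2 := (Nat.mul_le_mul_left (Nat.card ψ.ker) hge).trans (h.trans hle)
  omega

end Ext

end Cfsg.Agent.ThreeTransSU
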