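/-
Certificate: lifts of five transvections of SU(5,2) in a 3-transposition group have an equivariant system of
conjugates, one over each of the 165 transvections.

Main result (namespace `Cfsg.Agent.ThreeTransSU`): `Setup.exists_section_five`.
-/
import Cfsg.Agent.Lib.ThreeTransSU.GensCert
import Cfsg.Agent.Lib.ThreeTransSU.Lift

set_option autoImplicit false

namespace Cfsg.Agent.ThreeTransSU.LineCert

open Cfsg.Agent.SU32 Cfsg.Agent.ThreeTransSU.GensCert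

/-- The points. -/
def points : List (List K4) :=
  [[.o, .w2, .w, .w, .z], [.o, .w2, .o, .w, .z], [.o, .w2, .o, .z, .w], [.o, .o, .w, .o, .z],
   [.z, .o, .w2, .w2, .w], [.w, .o, .o, .w2, .z], [.w2, .w, .z, .w, .w2], [.z, .w, .z, .w2, .z],
   [.o, .z, .z, .z, .o], [.z, .z, .z, .w, .w], [.w, .z, .z, .o, .z], [.o, .o, .z, .w2, .w2],
   [.z, .w, .w2, .o, .w], [.w2, .w, .z, .w2, .w], [.o, .w, .z, .z, .z], [.w, .w2, .z, .w, .w2],
   [.w, .o, .o, .z, .w2], [.z, .o, .o, .o, .w2], [.w2, .o, .w, .z, .w], [.o, .o, .o, .o, .z],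
   [.w2, .z, .w2, .w2, .o], [.z, .o, .w, .o, .o], [.z, .w2, .o, .w, .o], [.o, .w2, .w, .z, .w],
   [.w, .w, .w2, .z, .w], [.z, .w, .o, .w2, .o], [.w2, .w2, .w, .w2, .z], [.z, .o, .w, .o, .w2],
   [.w, .w, .o, .z, .w2], [.z, .w, .w, .o, .w2], [.w, .w2, .z, .w, .w], [.w2, .z, .z, .z, .w],
   [.o, .z, .w2, .o, .w], [.w2, .z, .o, .w, .o], [.w2, .w2, .w, .z, .w2], [.o, .z, .o, .o, .w2],
   [.w, .z, .w, .w2, .o], [.z, .w, .w2, .w2, .w], [.z, .w2, .o, .o, .w], [.w2, .z, .w2, .o, .w2],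
   [.o, .z, .w, .w, .w], [.o, .o, .o, .z, .o], [.w2, .w2, .o, .o, .z], [.w2, .w2, .o, .z, .o],
   [.w2, .o, .w, .w, .z], [.w, .o, .w, .z, .o], [.w, .z, .w2, .w2, .w], [.o, .w, .o, .w2, .z],
   [.o, .z, .w, .o, .w], [.w, .z, .w, .o, .o], [.w, .w2, .w, .z, .o], [.w2, .w, .o, .z, .w],
   [.z, .w2, .w2, .z, .z], [.z, .w2, .w, .w2, .w2], [.w2, .z, .o, .o, .w], [.w, .z, .o, .w2, .w2],
   [.z, .w, .w, .o, .w], [.w, .w, .w2, .o, .z], [.z, .w, .o, .o, .w], [.w2, .o, .w2, .w2, .z],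
   [.z, .w2, .w, .w2, .w], [.w, .w, .z, .o, .w2], [.o, .w, .w, .z, .o], [.w, .w2, .w2, .z, .o],
   [.z, .w, .w, .w2, .o], [.w2, .o, .w2, .o, .z], [.z, .w2, .w2, .w2, .w2], [.w, .w, .w, .z, .w2],
   [.w2, .w2, .z, .o, .o], [.z, .o, .z, .z, .o], [.w2, .z, .w, .w, .w], [.w, .w2, .o, .z, .w],
   [.o, .z, .w2, .w2, .w], [.o, .z, .z, .o, .z], [.o, .w, .w2, .z, .w], [.o, .o, .z, .w, .w2],
   [.z, .w, .z, .z, .w2], [.w2, .o, .z, .w, .o], [.z, .w2, .z, .z, .w], [.w2, .o, .z, .o, .w],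
   [.o, .w, .w, .w, .z], [.w, .z, .w2, .w, .o], [.z, .z, .z, .w2, .o], [.w, .w, .z, .z, .z],
   [.w, .z, .z, .w2, .z], [.w2, .w, .z, .w, .o], [.w2, .w, .w2, .z, .w2], [.o, .w, .z, .w, .w],
   [.w, .o, .z, .z, .z], [.z, .o, .z, .o, .z], [.o, .w, .o, .z, .o], [.w2, .z, .w2, .w, .o],
   [.w, .o, .z, .w, .w], [.w2, .o, .w, .o, .z], [.w, .w, .o, .w2, .z], [.o, .z, .w2, .o, .w2],
   [.o, .z, .w2, .w2, .o], [.w, .w2, .z, .w2, .w], [.w, .o, .w2, .z, .w], [.w2, .w2, .z, .o, .w2],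
   [.w2, .w2, .z, .w2, .o], [.w, .z, .o, .w2, .w], [.z, .z, .w2, .z, .o], [.w2, .o, .w, .w2, .z],
   [.z, .o, .w2, .w2, .w2], [.w, .w, .o, .o, .z], [.w, .z, .o, .z, .z], [.w, .z, .w2, .o, .o],
   [.o, .z, .w, .w2, .o], [.w, .w, .w, .w2, .z], [.w2, .o, .w2, .z, .o], [.w, .z, .o, .w2, .o],
   [.w, .w, .w, .z, .o], [.o, .z, .w, .o, .o], [.o, .o, .w, .z, .w2], [.z, .o, .w, .w, .w],
   [.o, .z, .o, .w, .w], [.z, .o, .w2, .z, .z], [.z, .o, .o, .w, .w], [.w2, .w, .w2, .w2, .z],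
   [.w2, .o, .o, .w, .z], [.z, .o, .w, .w2, .w2], [.w, .o, .o, .z, .o], [.z, .z, .w2, .w, .z],
   [.o, .w2, .z, .w2, .w2], [.z, .z, .z, .o, .w2], [.z, .o, .w2, .w, .o], [.z, .w2, .w, .o, .o],
   [.w2, .w, .o, .w, .z], [.o, .w2, .o, .w2, .z], [.z, .o, .w2, .o, .w], [.o, .w2, .z, .o, .w],
   [.z, .z, .o, .z, .o], [.w, .w, .z, .w, .o], [.w, .o, .z, .w2, .o], [.w2, .w, .z, .o, .o],
   [.o, .z, .o, .z, .z], [.z, .w2, .o, .w2, .o], [.w, .z, .z, .z, .w2], [.w2, .w2, .z, .w, .w2],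
   [.o, .z, .w, .z, .z], [.z, .z, .w, .w2, .z], [.w2, .w2, .w2, .w, .z], [.o, .w, .w, .o, .z],
   [.z, .o, .o, .w, .o], [.z, .o, .o, .o, .w], [.w2, .o, .o, .z, .o], [.z, .w2, .o, .z, .z],
   [.o, .z, .o, .w2, .o], [.z, .z, .o, .o, .z], [.z, .w, .w, .o, .o], [.o, .z, .o, .o, .o],
   [.z, .w2, .z, .w, .z], [.w2, .w, .w, .w2, .z], [.o, .w, .z, .o, .w2], [.z, .z, .w2, .z, .w],
   [.w, .o, .o, .o, .z], [.w2, .w, .w, .z, .w2], [.w, .z, .o, .w, .w], [.o, .w2, .w, .o, .z],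
   [.w2, .w2, .w, .z, .w], [.o, .w2, .z, .w, .o], [.w, .w2, .z, .o, .w], [.w, .w, .z, .w, .w],
   [.w2, .o, .z, .w, .w]]

/-- The tree: generator and parent of each further point. -/
def tree : List (ℕ × ℕ) :=
  [(1, 0), (2, 0), (3, 0), (4, 0), (2, 1), (3, 1), (4, 1), (3, 2), (2, 5),
   (3, 5), (4, 5), (1, 6), (3, 6), (4, 6), (1, 7), (2, 7), (4, 7), (1, 8),
   (0, 9), (3, 9), (4, 9), (0, 10), (2, 10), (4, 10), (0, 11), (0, 12), (1, 12),
   (3, 13), (4, 13), (2, 14), (4, 14), (4, 16), (4, 17), (1, 18), (2, 19), (4, 19),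
   (1, 20), (4, 20), (1, 21), (2, 22), (3, 22), (3, 23), (4, 23), (0, 24), (4, 24),
   (0, 25), (4, 26), (4, 27), (0, 28), (2, 29), (3, 29), (1, 30), (4, 30), (0, 31),
   (4, 31), (1, 32), (2, 32), (4, 32), (0, 33), (1, 33), (4, 34), (0, 35), (1, 35),
   (0, 36), (1, 36), (0, 37), (1, 37), (0, 38), (2, 38), (3, 38), (0, 39), (1, 39),
   (4, 39), (0, 40), (1, 40), (0, 42), (0, 43), (3, 43), (0, 44), (3, 44), (0, 45),
   (2, 45), (1, 46), (4, 46), (1, 47), (1, 49), (1, 50), (1, 51), (0, 52), (1, 52),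
   (1, 53), (2, 53), (1, 54), (3, 54), (1, 55), (2, 55), (3, 56), (4, 56), (1, 57),
   (4, 58), (0, 59), (4, 61), (0, 62), (3, 63), (1, 65), (2, 67), (1, 68), (3, 68),
   (3, 69), (2, 71), (3, 71), (1, 78), (1, 80), (2, 81), (2, 82), (1, 83), (2, 84),
   (1, 85), (2, 85), (0, 86), (1, 86), (0, 90), (3, 91), (2, 92), (3, 93), (3, 97),
   (1, 98), (2, 98), (4, 101), (0, 102), (1, 102), (0, 103), (2, 103), (0, 104), (1, 104),
   (1, 105), (3, 105), (0, 106), (1, 106), (1, 107), (2, 107), (3, 107), (0, 109), (2, 109),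
   (3, 109), (3, 111), (1, 112), (2, 116), (3, 117), (0, 121), (2, 122), (1, 123), (1, 124),
   (2, 126), (0, 128), (0, 130), (1, 132), (2, 150), (3, 155), (4, 157)]

/-- The derivation steps. -/
def steps : List (ℕ × ℕ × ℕ × ℕ × ℕ) :=
  [(0, 38, 33, 67, 0), (0, 53, 90, 48, 0), (0, 4, 6, 3, 10), (0, 107, 139, 102, 0), (0, 43, 38, 76, 0),
   (0, 3, 5, 2, 9), (0, 105, 135, 100, 0), (0, 90, 85, 121, 0), (0, 50, 86, 45, 0), (0, 80, 112, 75, 0),
   (0, 103, 98, 131, 0), (0, 2, 4, 1, 8), (1, 126, 153, 121, 0), (1, 4, 0, 3, 13), (1, 10, 22, 21, 0),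
   (1, 109, 143, 142, 0), (1, 3, 7, 2, 12), (1, 1, 4, 0, 11), (2, 4, 0, 3, 16), (2, 68, 107, 63, 0),
   (2, 44, 79, 78, 0), (2, 2, 7, 1, 15), (2, 1, 5, 0, 14), (3, 52, 47, 88, 0), (3, 30, 52, 25, 0),
   (3, 62, 57, 102, 0), (3, 1, 6, 0, 17), (4, 4, 0, 6, 20), (4, 3, 7, 5, 19), (4, 92, 123, 87, 0),
   (4, 0, 1, 0, 18), (5, 69, 108, 64, 0), (5, 117, 148, 112, 0), (5, 4, 0, 6, 23), (5, 105, 136, 135, 0),
   (5, 6, 12, 11, 0), (5, 2, 7, 4, 22), (5, 0, 2, 0, 21), (6, 37, 32, 66, 0), (6, 31, 54, 26, 0),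
   (6, 65, 60, 104, 0), (6, 0, 3, 0, 24), (6, 157, 159, 152, 0), (7, 82, 77, 114, 0), (7, 155, 158, 150, 0),
   (7, 150, 145, 157, 0), (7, 1, 5, 4, 26), (7, 0, 2, 1, 25), (8, 4, 0, 10, 28), (8, 3, 7, 9, 27),
   (9, 4, 0, 10, 30), (9, 2, 7, 8, 29), (11, 4, 6, 13, 31), (12, 4, 0, 13, 32), (13, 1, 6, 11, 33),
   (14, 4, 6, 16, 35), (14, 2, 4, 15, 34), (15, 4, 0, 16, 37), (15, 1, 4, 14, 36), (16, 1, 6, 14, 38),
   (18, 4, 3, 20, 42), (18, 3, 2, 19, 41), (19, 4, 0, 20, 44), (19, 0, 2, 18, 43), (20, 0, 3, 18, 45),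
   (21, 4, 3, 23, 46), (22, 4, 0, 23, 47), (23, 0, 3, 21, 48), (25, 1, 0, 26, 51), (26, 0, 0, 25, 53),
   (27, 4, 0, 28, 57), (27, 2, 7, 8, 56), (29, 4, 0, 30, 60), (31, 1, 6, 11, 64), (34, 4, 0, 35, 72),
   (34, 1, 4, 14, 71), (35, 1, 6, 14, 74), (40, 2, 7, 39, 81), (41, 4, 0, 42, 83), (50, 2, 7, 49, 95),
   (51, 4, 6, 52, 97), (52, 1, 6, 51, 98), (53, 4, 3, 54, 99), (54, 0, 3, 53, 100), (56, 4, 0, 57, 101),
   (63, 1, 0, 64, 106), (73, 1, 0, 74, 111), (79, 2, 7, 39, 116), (80, 2, 1, 81, 118), (81, 0, 1, 80, 119),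
   (92, 3, 5, 93, 125), (93, 2, 7, 49, 127), (93, 1, 5, 92, 126), (96, 4, 0, 97, 128), (97, 1, 6, 51, 130),
   (99, 0, 3, 53, 133), (107, 1, 5, 106, 146), (117, 2, 4, 118, 150), (118, 1, 4, 117, 151), (119, 1, 0, 120, 152),
   (0, 9, 4, 18, 177), (0, 7, 14, 2, 197), (0, 8, 17, 3, 201), (0, 31, 26, 53, 228), (1, 9, 4, 18, 171),
   (1, 7, 15, 2, 207), (1, 11, 187, 24, 233), (1, 42, 217, 75, 0), (1, 85, 118, 80, 249), (2, 37, 213, 65, 0),
   (2, 12, 7, 25, 176), (2, 10, 5, 21, 165), (2, 24, 19, 43, 221), (3, 104, 99, 133, 242), (3, 11, 6, 24, 162),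
   (3, 28, 23, 48, 225), (4, 52, 226, 89, 0), (4, 12, 7, 26, 196), (4, 20, 15, 36, 216), (4, 6, 1, 11, 171),
   (5, 9, 19, 4, 206), (5, 7, 2, 14, 165), (5, 49, 222, 85, 0), (5, 97, 125, 92, 252), (6, 102, 97, 130, 240),
   (6, 7, 16, 14, 236), (6, 8, 3, 17, 162), (6, 36, 31, 64, 212), (6, 18, 13, 33, 212), (7, 9, 19, 4, 196),
   (7, 7, 2, 15, 176), (7, 54, 93, 49, 239), (7, 32, 27, 56, 209), (7, 14, 9, 29, 209), (7, 44, 79, 39, 237),
   (8, 12, 7, 231, 211), (9, 9, 19, 177, 0), (9, 62, 230, 163, 0), (10, 61, 101, 231, 0), (10, 157, 159, 259, 0),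
   (11, 11, 6, 233, 214), (13, 5, 10, 190, 160), (14, 9, 4, 235, 218), (14, 83, 115, 180, 0), (14, 11, 6, 236, 219),
   (16, 17, 32, 176, 0), (16, 5, 10, 197, 164), (17, 12, 26, 184, 247), (17, 104, 134, 242, 0), (17, 3, 5, 178, 40),
   (17, 47, 84, 220, 0), (17, 2, 4, 173, 39), (17, 51, 87, 225, 0), (18, 7, 2, 235, 223), (18, 12, 25, 196, 0),
   (19, 155, 158, 257, 0), (19, 7, 2, 235, 221), (20, 27, 47, 196, 0), (22, 98, 127, 250, 0), (24, 102, 129, 240, 0),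
   (24, 12, 25, 199, 251), (24, 36, 63, 212, 0), (24, 40, 73, 215, 0), (24, 3, 2, 193, 50), (24, 124, 119, 202, 0),
   (24, 2, 1, 187, 49), (25, 11, 24, 199, 254), (25, 5, 0, 231, 229), (26, 8, 17, 184, 255), (26, 122, 117, 204, 0),
   (26, 5, 0, 231, 228), (30, 32, 57, 209, 0), (33, 2, 4, 173, 68), (38, 3, 5, 178, 77), (39, 12, 7, 247, 237),
   (49, 12, 7, 251, 239), (51, 11, 6, 254, 241), (53, 8, 3, 255, 243), (54, 5, 10, 228, 166), (58, 3, 2, 230, 103),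
   (62, 2, 4, 232, 105), (66, 3, 5, 213, 110), (69, 11, 193, 214, 0), (91, 8, 173, 227, 0), (102, 3, 2, 230, 141),
   (104, 2, 4, 232, 143), (132, 11, 187, 241, 0), (136, 8, 178, 243, 0), (162, 3, 193, 178, 210), (162, 2, 187, 173, 208),
   (164, 2, 217, 113, 8), (165, 12, 188, 176, 209), (165, 2, 22, 15, 29), (168, 3, 122, 222, 9), (173, 11, 187, 162, 212),
   (174, 8, 183, 227, 0), (182, 111, 256, 245, 0), (181, 9, 196, 171, 216), (181, 11, 199, 233, 0), (181, 5, 231, 190, 0),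
   (186, 56, 241, 228, 0), (185, 3, 27, 141, 178), (185, 2, 56, 140, 173), (186, 12, 199, 231, 247), (186, 3, 193, 9, 40),
   (186, 2, 187, 8, 39), (187, 5, 8, 186, 168), (188, 7, 176, 165, 221), (197, 8, 0, 201, 227), (195, 11, 198, 214, 0),
   (196, 122, 204, 258, 0), (198, 3, 12, 110, 193), (201, 58, 243, 229, 0), (200, 2, 29, 143, 187), (201, 12, 184, 231, 251),
   (201, 3, 178, 9, 50), (201, 2, 173, 8, 49), (206, 5, 182, 177, 228), (217, 5, 8, 164, 169), (222, 5, 9, 168, 167),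
   (233, 5, 186, 190, 245), (236, 5, 186, 197, 246), (237, 0, 25, 78, 119), (249, 1, 11, 117, 152), (0, 32, 55, 0, 293),
   (2, 31, 277, 53, 0), (2, 39, 0, 70, 278), (4, 46, 0, 82, 272), (7, 56, 96, 0, 263), (8, 31, 280, 228, 0),
   (8, 81, 113, 164, 378), (9, 91, 122, 168, 379), (11, 54, 92, 325, 0), (11, 28, 0, 371, 342), (12, 86, 334, 248, 0),
   (14, 55, 94, 323, 0), (17, 31, 26, 255, 360), (17, 86, 120, 0, 294), (17, 23, 264, 224, 380), (18, 8, 3, 332, 224),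
   (18, 44, 78, 311, 0), (20, 8, 3, 332, 220), (21, 8, 3, 333, 227), (21, 18, 0, 341, 343), (21, 45, 80, 309, 0),
   (26, 52, 89, 317, 0), (23, 8, 3, 333, 225), (24, 7, 2, 236, 368), (24, 25, 45, 187, 266), (24, 30, 25, 254, 372),
   (163, 12, 0, 331, 231), (28, 1, 6, 264, 59), (28, 0, 3, 279, 58), (29, 33, 208, 297, 0), (30, 1, 6, 271, 62),
   (30, 0, 3, 281, 61), (31, 23, 42, 260, 0), (31, 0, 3, 279, 63), (32, 30, 52, 270, 0), (33, 33, 59, 349, 0),
   (33, 61, 327, 362, 0), (34, 84, 116, 303, 0), (34, 0, 1, 281, 70), (35, 26, 46, 261, 0), (35, 0, 3, 281, 73),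
   (37, 30, 52, 265, 0), (38, 12, 26, 305, 203), (38, 35, 62, 348, 0), (39, 29, 49, 262, 0), (39, 25, 187, 310, 365),
   (39, 116, 147, 381, 0), (39, 0, 1, 286, 78), (40, 29, 50, 262, 0), (40, 31, 277, 360, 0), (40, 28, 193, 312, 364),
   (40, 0, 2, 286, 80), (44, 31, 54, 280, 0), (45, 56, 330, 346, 0), (45, 33, 58, 349, 0), (47, 31, 54, 277, 0),
   (48, 35, 61, 348, 0), (48, 6, 1, 371, 355), (49, 30, 270, 372, 0), (49, 86, 81, 324, 0), (49, 1, 4, 274, 92),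
   (50, 86, 334, 324, 0), (50, 1, 5, 274, 94), (51, 3, 5, 265, 96), (53, 121, 149, 307, 0), (53, 85, 80, 329, 0),
   (55, 24, 289, 351, 0), (60, 61, 101, 295, 0), (69, 69, 108, 300, 0), (70, 13, 279, 357, 0), (82, 14, 271, 367, 0),
   (96, 15, 210, 338, 0), (97, 58, 99, 263, 0), (101, 0, 3, 330, 137), (126, 29, 274, 291, 0), (150, 16, 260, 383, 0),
   (164, 13, 361, 378, 8), (165, 25, 282, 0, 373), (166, 69, 0, 358, 245), (168, 14, 379, 373, 9), (171, 21, 0, 267, 361),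
   (172, 25, 0, 282, 325), (173, 9, 4, 332, 311), (173, 31, 280, 255, 0), (178, 10, 5, 333, 309), (178, 28, 193, 225, 348),
   (183, 3, 277, 124, 178), (184, 29, 319, 251, 201), (273, 61, 327, 0, 363), (186, 25, 187, 168, 310), (186, 28, 193, 161, 312),
   (279, 18, 0, 287, 376), (187, 22, 39, 186, 310), (187, 15, 208, 162, 354), (189, 10, 0, 275, 206), (191, 38, 0, 288, 369),
   (192, 21, 0, 267, 309), (281, 21, 0, 285, 375), (193, 30, 265, 254, 0), (196, 20, 181, 216, 352), (198, 2, 270, 109, 187),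
   (284, 61, 330, 0, 374), (199, 22, 308, 247, 186), (200, 3, 295, 144, 193), (201, 21, 178, 164, 322), (201, 18, 173, 160, 321),
   (202, 30, 0, 382, 254), (205, 22, 380, 0, 247), (211, 22, 247, 366, 0), (217, 13, 8, 361, 350), (221, 1, 14, 289, 82),
   (222, 14, 9, 373, 353), (225, 9, 332, 276, 189), (228, 3, 9, 277, 96), (230, 7, 2, 344, 339), (232, 9, 4, 345, 340),
   (237, 29, 251, 0, 324), (247, 29, 251, 262, 0), (251, 25, 317, 266, 0), (251, 1, 26, 274, 156), (262, 57, 328, 52, 319),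
   (262, 59, 308, 54, 326), (269, 33, 349, 0, 344), (276, 35, 348, 0, 345), (285, 5, 164, 182, 246), (286, 23, 18, 380, 301),
   (287, 19, 377, 356, 0), (296, 28, 0, 342, 364), (297, 25, 349, 0, 373), (298, 1, 138, 26, 274), (298, 0, 137, 25, 286),
   (314, 132, 320, 318, 0), (363, 0, 100, 330, 149), (364, 0, 48, 281, 80), (375, 2, 217, 29, 95), (0, 148, 499, 0, 495),
   (0, 146, 0, 498, 493), (1, 71, 109, 0, 479), (7, 102, 253, 0, 456), (7, 105, 136, 0, 409), (7, 103, 0, 132, 396),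
   (13, 148, 0, 175, 512), (16, 148, 0, 461, 507), (18, 121, 149, 0, 491), (20, 146, 0, 464, 506), (21, 44, 78, 0, 430),
   (42, 157, 159, 459, 0), (47, 132, 501, 318, 502), (51, 25, 0, 484, 346), (53, 21, 0, 470, 347), (79, 54, 93, 428, 0),
   (80, 6, 1, 480, 249), (81, 55, 95, 432, 0), (81, 6, 1, 480, 248), (91, 82, 114, 402, 0), (92, 10, 5, 465, 252),
   (93, 10, 5, 465, 250), (148, 21, 178, 390, 0), (151, 121, 472, 394, 0), (153, 25, 187, 391, 0), (154, 73, 401, 496, 0),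
   (155, 132, 485, 318, 0), (166, 23, 0, 515, 190), (173, 56, 0, 457, 510), (174, 17, 450, 454, 12), (174, 14, 497, 271, 422),
   (177, 25, 20, 168, 392), (178, 31, 277, 255, 470), (179, 33, 0, 477, 344), (182, 28, 23, 161, 395), (187, 30, 270, 254, 484),
   (189, 35, 0, 469, 345), (190, 121, 0, 486, 491), (190, 15, 431, 10, 301), (195, 27, 450, 453, 22), (281, 27, 0, 494, 497),
   (197, 21, 16, 164, 404), (214, 25, 187, 392, 419), (219, 28, 193, 395, 427), (224, 18, 173, 400, 438), (227, 21, 178, 404, 440),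
   (228, 15, 10, 503, 338), (229, 57, 170, 52, 448), (243, 56, 457, 263, 516), (264, 11, 6, 411, 429), (271, 11, 6, 414, 434),
   (279, 8, 3, 412, 417), (281, 8, 3, 415, 424), (292, 50, 398, 437, 0), (299, 83, 490, 0, 431), (301, 9, 444, 18, 509),
   (305, 31, 426, 26, 470), (306, 10, 446, 21, 508), (315, 45, 449, 268, 511), (326, 31, 513, 54, 505), (328, 30, 514, 52, 504),
   (329, 15, 435, 0, 503), (330, 18, 0, 362, 510), (334, 1, 5, 472, 120), (348, 61, 487, 0, 410), (354, 31, 405, 503, 0),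
   (359, 28, 487, 0, 482), (368, 31, 0, 513, 478), (389, 18, 467, 510, 376), (413, 100, 458, 0, 518), (421, 34, 492, 0, 483),
   (432, 164, 445, 159, 443), (447, 140, 194, 462, 455), (449, 27, 433, 370, 385), (471, 44, 0, 500, 476), (478, 0, 154, 48, 53),
   (517, 1, 90, 14, 117), (1, 130, 0, 155, 546), (1, 91, 473, 0, 589), (1, 162, 157, 0, 556), (2, 95, 474, 0, 595),
   (2, 163, 158, 0, 580), (2, 103, 0, 131, 592), (2, 128, 0, 154, 586), (3, 84, 534, 0, 397), (3, 146, 0, 498, 552),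
   (3, 153, 0, 537, 541), (4, 162, 157, 0, 527), (5, 83, 0, 115, 529), (6, 148, 0, 499, 555), (6, 158, 0, 540, 543),
   (7, 142, 0, 547, 567), (12, 135, 0, 573, 554), (22, 138, 0, 582, 551), (30, 111, 0, 572, 591), (69, 58, 0, 420, 577),
   (84, 164, 0, 530, 593), (217, 144, 0, 583, 588), (270, 138, 0, 504, 542), (277, 135, 0, 505, 545), (314, 135, 254, 545, 585),
   (327, 28, 0, 487, 594), (416, 94, 544, 0, 584), (442, 138, 542, 337, 587), (531, 54, 590, 283, 475), (6, 149, 0, 620, 619)]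

/-- For every generator and point, the line through them. -/
def goals : List (List ℕ) :=
  [[0, 0, 1, 2, 3, 0, 1, 2, 3, 18, 21, 24, 25, 279, 281, 286, 279, 290, 0, 281, 290, 0, 286, 18,
   43, 45, 21, 0, 48, 24, 25, 53, 0, 58, 384, 61, 63, 65, 67, 70, 73, 0, 75, 76, 78, 80, 316, 401,
   43, 0, 45, 406, 88, 48, 475, 481, 330, 0, 53, 100, 384, 330, 102, 58, 0, 0, 61, 0, 63, 475, 65, 0,
   67, 401, 0, 70, 316, 0, 73, 481, 75, 76, 406, 78, 0, 80, 119, 559, 0, 597, 121, 0, 599, 88, 0, 0,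
   403, 574, 603, 576, 0, 559, 129, 131, 133, 100, 137, 102, 498, 142, 519, 574, 0, 521, 521, 403, 576, 0, 0, 0,
   597, 149, 599, 537, 119, 603, 121, 519, 154, 533, 155, 623, 485, 0, 129, 485, 131, 0, 133, 598, 0, 533, 137, 0,
   0, 581, 498, 142, 0, 0, 598, 581, 0, 537, 149, 600, 0, 623, 0, 154, 155, 600, 0, 0, 0],
   [0, 0, 4, 5, 6, 0, 11, 14, 17, 4, 5, 6, 26, 264, 271, 274, 11, 0, 33, 14, 36, 38, 17, 264,
   289, 0, 271, 289, 0, 274, 51, 26, 55, 59, 0, 62, 64, 66, 33, 71, 74, 36, 0, 38, 466, 468, 82, 84,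
   0, 85, 86, 87, 89, 90, 92, 94, 51, 98, 327, 0, 55, 327, 0, 0, 59, 104, 0, 62, 106, 64, 0, 66,
   0, 466, 393, 549, 71, 0, 111, 74, 112, 0, 468, 115, 0, 117, 120, 82, 0, 84, 85, 86, 87, 0, 89, 90,
   0, 92, 126, 94, 0, 549, 130, 98, 134, 135, 138, 139, 520, 104, 499, 106, 146, 0, 532, 393, 111, 112, 520, 575,
   115, 472, 117, 151, 152, 120, 0, 0, 0, 575, 540, 126, 156, 0, 615, 130, 0, 532, 472, 134, 135, 0, 0, 138,
   139, 0, 0, 0, 499, 620, 606, 146, 0, 0, 606, 615, 151, 152, 540, 620, 0, 156, 0, 0, 0],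
   [1, 4, 0, 7, 0, 8, 1, 15, 173, 4, 22, 187, 7, 8, 29, 208, 260, 270, 173, 34, 15, 217, 39, 260,
   280, 187, 0, 22, 226, 49, 270, 280, 56, 208, 29, 232, 416, 418, 68, 34, 234, 302, 217, 0, 39, 81, 0, 416,
   387, 436, 408, 0, 226, 91, 49, 95, 0, 418, 388, 436, 558, 56, 244, 563, 561, 232, 0, 105, 489, 408, 0, 109,
   489, 68, 0, 558, 302, 234, 0, 0, 0, 113, 114, 563, 116, 118, 81, 387, 0, 473, 0, 473, 123, 441, 0, 0,
   91, 561, 127, 0, 95, 388, 0, 132, 522, 0, 244, 140, 0, 143, 105, 0, 0, 0, 109, 441, 147, 460, 113, 114,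
   0, 116, 150, 118, 535, 612, 153, 0, 123, 612, 0, 616, 127, 522, 617, 523, 0, 132, 0, 0, 596, 523, 547, 0,
   0, 140, 460, 0, 143, 616, 157, 547, 147, 535, 0, 150, 617, 0, 153, 621, 596, 621, 157, 0, 0],
   [2, 5, 7, 0, 0, 9, 12, 2, 178, 19, 5, 193, 7, 27, 9, 210, 0, 12, 213, 261, 265, 178, 40, 41,
   19, 222, 261, 277, 193, 50, 265, 277, 27, 230, 295, 210, 0, 213, 69, 0, 423, 386, 425, 77, 79, 40, 41, 238,
   313, 222, 0, 423, 439, 407, 93, 50, 96, 425, 0, 439, 548, 295, 230, 103, 0, 451, 564, 562, 107, 108, 0, 110,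
   0, 0, 69, 386, 313, 0, 488, 407, 0, 488, 77, 0, 79, 564, 334, 548, 238, 0, 0, 122, 474, 124, 0, 474,
   0, 125, 93, 562, 335, 96, 253, 0, 0, 136, 451, 141, 103, 144, 0, 145, 107, 108, 611, 110, 0, 148, 0, 0,
   607, 334, 0, 0, 614, 611, 463, 122, 0, 124, 125, 539, 335, 253, 0, 0, 601, 524, 524, 618, 0, 136, 0, 602,
   0, 614, 141, 0, 463, 144, 145, 610, 607, 148, 610, 158, 601, 0, 539, 602, 618, 0, 0, 158, 0],
   [3, 6, 0, 0, 0, 10, 13, 16, 3, 20, 23, 6, 0, 28, 30, 10, 31, 32, 13, 35, 37, 16, 262, 42,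
   44, 20, 46, 47, 23, 262, 52, 54, 57, 28, 60, 30, 31, 32, 300, 72, 35, 0, 37, 304, 428, 432, 83, 42,
   0, 44, 399, 46, 47, 402, 428, 432, 97, 52, 99, 54, 0, 101, 57, 570, 568, 60, 571, 569, 570, 300, 528, 0,
   557, 399, 452, 0, 0, 72, 571, 304, 528, 560, 402, 557, 534, 560, 536, 0, 83, 568, 526, 550, 569, 0, 526, 553,
   538, 550, 534, 553, 536, 128, 97, 336, 99, 337, 101, 0, 604, 0, 608, 0, 604, 452, 0, 0, 0, 0, 605, 538,
   0, 501, 0, 605, 0, 0, 0, 609, 608, 0, 609, 0, 501, 128, 579, 336, 566, 613, 337, 578, 565, 613, 579, 578,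
   525, 0, 0, 525, 0, 0, 0, 622, 0, 0, 566, 0, 622, 159, 0, 624, 624, 565, 0, 0, 159]]

/-- The lines. -/
def lines : List (ℕ × ℕ × ℕ) :=
  [(1, 0, 5), (2, 0, 6), (3, 0, 7), (4, 0, 8), (2, 1, 9), (3, 1, 10), (4, 1, 11),
   (3, 2, 12), (2, 5, 13), (3, 5, 14), (4, 5, 15), (1, 6, 16), (3, 6, 17), (4, 6, 18),
   (1, 7, 19), (2, 7, 20), (4, 7, 21), (1, 8, 22), (0, 9, 23), (3, 9, 24), (4, 9, 25),
   (0, 10, 26), (2, 10, 27), (4, 10, 28), (0, 11, 29), (0, 12, 30), (1, 12, 31), (3, 13, 32),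
   (4, 13, 33), (2, 14, 34), (4, 14, 35), (4, 16, 36), (4, 17, 37), (1, 18, 38), (2, 19, 39),
   (4, 19, 40), (1, 20, 41), (4, 20, 42), (1, 21, 43), (2, 22, 44), (3, 22, 45), (3, 23, 46),
   (4, 23, 47), (0, 24, 48), (4, 24, 49), (0, 25, 50), (4, 26, 51), (4, 27, 52), (0, 28, 53),
   (2, 29, 54), (3, 29, 55), (1, 30, 56), (4, 30, 57), (0, 31, 58), (4, 31, 59), (1, 32, 60),
   (2, 32, 61), (4, 32, 62), (0, 33, 63), (1, 33, 64), (4, 34, 65), (0, 35, 66), (1, 35, 67),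
   (0, 36, 68), (1, 36, 69), (0, 37, 70), (1, 37, 71), (0, 38, 72), (2, 38, 73), (3, 38, 74),
   (0, 39, 75), (1, 39, 76), (4, 39, 77), (0, 40, 78), (1, 40, 79), (0, 42, 80), (0, 43, 81),
   (3, 43, 82), (0, 44, 83), (3, 44, 84), (0, 45, 85), (2, 45, 86), (1, 46, 87), (4, 46, 88),
   (1, 47, 89), (1, 49, 90), (1, 50, 91), (1, 51, 92), (0, 52, 93), (1, 52, 94), (1, 53, 95),
   (2, 53, 96), (1, 54, 97), (3, 54, 98), (1, 55, 99), (2, 55, 100), (3, 56, 101), (4, 56, 102),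
   (1, 57, 103), (4, 58, 104), (0, 59, 105), (4, 61, 106), (0, 62, 107), (3, 63, 108), (1, 65, 109),
   (2, 67, 110), (1, 68, 111), (3, 68, 112), (3, 69, 113), (2, 71, 114), (3, 71, 115), (1, 78, 116),
   (1, 80, 117), (2, 81, 118), (2, 82, 119), (1, 83, 120), (2, 84, 121), (1, 85, 122), (2, 85, 123),
   (0, 86, 124), (1, 86, 125), (0, 90, 126), (3, 91, 127), (2, 92, 128), (3, 93, 129), (3, 97, 130),
   (1, 98, 131), (2, 98, 132), (4, 101, 133), (0, 102, 134), (1, 102, 135), (0, 103, 136), (2, 103, 137),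
   (0, 104, 138), (1, 104, 139), (1, 105, 140), (3, 105, 141), (0, 106, 142), (1, 106, 143), (1, 107, 144),
   (2, 107, 145), (3, 107, 146), (0, 109, 147), (2, 109, 148), (3, 109, 149), (3, 111, 150), (1, 112, 151),
   (2, 116, 152), (3, 117, 153), (0, 121, 154), (2, 122, 155), (1, 123, 156), (1, 124, 157), (2, 126, 158),
   (0, 128, 159), (0, 130, 160), (1, 132, 161), (2, 150, 162), (3, 155, 163), (4, 157, 164), (18, 72, 5),
   (95, 28, 5), (11, 8, 15), (144, 62, 5), (21, 81, 5), (10, 7, 14), (140, 59, 5), (49, 126, 5),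
   (91, 25, 5), (117, 42, 5), (57, 136, 5), (9, 6, 13), (158, 90, 6), (2, 8, 18), (27, 26, 6),
   (148, 147, 6), (12, 7, 17), (9, 5, 16), (3, 8, 21), (112, 36, 7), (84, 83, 7), (12, 6, 20),
   (10, 5, 19), (27, 93, 8), (57, 12, 8), (32, 107, 8), (11, 5, 22), (2, 11, 25), (12, 10, 24),
   (128, 51, 9), (6, 5, 23), (113, 36, 10), (153, 80, 10), (3, 11, 28), (141, 140, 10), (17, 16, 10),
   (12, 9, 27), (7, 5, 26), (17, 71, 11), (59, 12, 11), (34, 109, 11), (8, 5, 29), (164, 124, 11),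
   (43, 119, 12), (163, 122, 12), (111, 162, 12), (10, 9, 31), (7, 6, 30), (2, 15, 33), (12, 14, 32),
   (3, 15, 35), (12, 13, 34), (11, 18, 36), (3, 18, 37), (11, 16, 38), (11, 21, 40), (9, 20, 39),
   (2, 21, 42), (9, 19, 41), (11, 19, 43), (8, 25, 47), (7, 24, 46), (3, 25, 49), (7, 23, 48),
   (8, 23, 50), (8, 28, 51), (2, 28, 52), (8, 26, 53), (5, 31, 56), (5, 30, 58), (3, 33, 62),
   (12, 5, 61), (2, 35, 65), (11, 6, 69), (2, 40, 77), (9, 7, 76), (11, 7, 79), (12, 44, 86),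
   (3, 47, 88), (12, 54, 100), (11, 57, 102), (11, 56, 103), (8, 59, 104), (8, 58, 105), (2, 62, 106),
   (5, 69, 111), (5, 79, 116), (12, 22, 121), (6, 86, 123), (6, 85, 124), (10, 98, 130), (12, 29, 132),
   (10, 97, 131), (3, 102, 133), (11, 30, 135), (8, 31, 138), (10, 111, 151), (9, 123, 155), (9, 122, 156),
   (5, 125, 157), (2, 23, 16), (19, 3, 26), (22, 4, 29), (12, 58, 56), (1, 23, 13), (20, 3, 30),
   (25, 29, 69), (21, 80, 6), (123, 45, 124), (18, 70, 7), (2, 30, 17), (1, 26, 14), (9, 48, 46),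
   (58, 138, 59), (1, 29, 15), (10, 53, 51), (28, 94, 9), (3, 31, 27), (7, 41, 39), (0, 16, 13),
   (24, 2, 31), (0, 19, 14), (25, 90, 10), (130, 54, 131), (56, 135, 57), (21, 19, 79), (0, 22, 15),
   (16, 69, 18), (6, 38, 36), (24, 1, 27), (0, 20, 17), (98, 29, 100), (13, 61, 14), (5, 34, 32),
   (84, 22, 86), (3, 61, 34), (24, 16, 14), (33, 144, 14), (106, 12, 15), (164, 125, 15), (4, 69, 38),
   (15, 23, 72), (2, 76, 41), (120, 84, 19), (4, 79, 43), (37, 12, 21), (15, 26, 81), (31, 57, 121),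
   (139, 59, 22), (10, 21, 45), (89, 25, 22), (9, 18, 44), (92, 28, 22), (3, 76, 48), (30, 27, 23),
   (163, 123, 24), (0, 76, 46), (52, 12, 25), (132, 130, 27), (134, 57, 29), (30, 59, 132), (68, 18, 29),
   (78, 21, 29), (7, 28, 55), (86, 164, 29), (6, 25, 54), (29, 59, 135), (1, 61, 58), (22, 57, 138),
   (85, 163, 31), (0, 61, 56), (62, 12, 35), (9, 8, 73), (10, 8, 82), (3, 121, 86), (3, 132, 100),
   (4, 135, 103), (4, 138, 105), (15, 56, 140), (7, 62, 108), (9, 65, 110), (10, 18, 115), (28, 16, 74),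
   (18, 26, 96), (7, 33, 146), (9, 35, 148), (25, 56, 137), (21, 58, 141), (28, 21, 35), (25, 18, 33),
   (42, 118, 13), (24, 17, 32), (27, 20, 34), (127, 49, 14), (25, 15, 36), (93, 53, 6), (151, 69, 19),
   (27, 13, 39), (59, 69, 20), (61, 23, 20), (103, 31, 22), (13, 146, 21), (61, 145, 18), (59, 61, 121),
   (28, 14, 45), (25, 13, 44), (13, 22, 91), (17, 14, 46), (7, 29, 53), (71, 38, 10), (163, 156, 27),
   (6, 115, 28), (105, 30, 29), (14, 148, 25), (57, 61, 132), (21, 14, 55), (18, 13, 54), (19, 16, 56),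
   (13, 81, 117), (14, 91, 126), (22, 23, 111), (22, 26, 116), (30, 83, 124), (16, 122, 157), (60, 0, 34),
   (27, 58, 7), (3, 75, 41), (2, 87, 48), (101, 2, 58), (24, 56, 13), (118, 21, 117), (127, 25, 126),
   (97, 25, 16), (1, 115, 74), (121, 123, 17), (99, 28, 19), (12, 138, 103), (125, 8, 84), (13, 50, 111),
   (4, 73, 50), (83, 18, 23), (0, 73, 47), (4, 82, 53), (0, 115, 96), (85, 21, 26), (94, 25, 31),
   (0, 82, 51), (3, 79, 53), (50, 2, 69), (12, 135, 105), (144, 35, 61), (11, 23, 64), (8, 16, 63),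
   (15, 144, 34), (11, 26, 67), (8, 19, 66), (47, 2, 36), (8, 13, 68), (57, 2, 37), (64, 25, 38),
   (58, 145, 38), (121, 120, 39), (6, 14, 75), (51, 3, 40), (8, 14, 78), (57, 3, 42), (31, 37, 119),
   (67, 28, 43), (54, 4, 44), (11, 89, 13), (152, 26, 44), (6, 15, 83), (55, 4, 45), (27, 103, 45),
   (11, 92, 14), (7, 15, 85), (59, 2, 49), (61, 137, 50), (63, 18, 50), (59, 3, 52), (66, 21, 53),
   (2, 115, 93), (17, 105, 54), (45, 164, 54), (9, 15, 97), (121, 164, 55), (10, 15, 99), (10, 20, 101),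
   (154, 57, 58), (45, 163, 58), (27, 17, 60), (106, 3, 65), (113, 4, 74), (16, 27, 75), (26, 17, 87),
   (35, 140, 101), (104, 12, 102), (8, 56, 142), (15, 100, 131), (23, 157, 155), (146, 117, 2), (90, 7, 148),
   (140, 20, 111), (126, 148, 3), (9, 80, 146), (158, 10, 54), (1, 73, 44), (24, 138, 18), (1, 82, 45),
   (11, 51, 35), (31, 129, 21), (134, 132, 5), (1, 138, 121), (2, 91, 89), (3, 95, 92), (0, 69, 54),
   (44, 5, 89), (33, 8, 36), (128, 53, 31), (113, 6, 71), (153, 6, 45), (0, 79, 55), (20, 135, 28),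
   (6, 39, 34), (30, 114, 25), (0, 135, 132), (139, 121, 5), (61, 149, 28), (3, 81, 78), (2, 72, 68),
   (164, 83, 135), (23, 162, 121), (121, 91, 34), (5, 146, 118), (19, 27, 87), (5, 148, 127), (73, 94, 128),
   (14, 27, 101), (0, 146, 108), (1, 148, 110), (132, 44, 164), (132, 4, 121), (52, 69, 132), (31, 15, 161),
   (138, 30, 134), (139, 31, 135), (25, 70, 146), (21, 94, 148), (81, 10, 116), (9, 111, 72), (56, 151, 18),
   (24, 74, 45), (18, 144, 148), (143, 31, 29), (142, 30, 22), (59, 130, 23), (105, 56, 154), (53, 19, 85),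
   (42, 34, 100), (110, 0, 127), (1, 108, 118), (114, 0, 113), (133, 2, 104), (141, 2, 135), (3, 137, 138),
   (4, 147, 144), (4, 90, 94), (154, 9, 162), (4, 80, 70), (83, 10, 152), (164, 155, 47), (121, 130, 69),
   (1, 114, 137), (0, 129, 141), (98, 4, 84), (2, 153, 124), (100, 4, 86), (0, 153, 123), (119, 4, 96),
   (3, 158, 131), (1, 158, 130), (8, 118, 153), (138, 17, 156), (11, 127, 158), (47, 94, 159), (135, 27, 160),
   (140, 130, 6), (2, 142, 151), (60, 87, 3), (101, 1, 75), (4, 91, 97), (27, 138, 129), (112, 8, 146),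
   (4, 95, 99), (17, 135, 114), (128, 11, 148), (6, 139, 162), (83, 4, 72), (60, 75, 2), (0, 87, 101),
   (4, 81, 85), (2, 97, 64), (3, 99, 67), (2, 83, 63), (3, 85, 66), (4, 161, 140), (136, 4, 154),
   (142, 12, 154), (4, 64, 89), (4, 67, 92), (4, 63, 68), (4, 66, 78), (111, 137, 14), (135, 125, 6),
   (97, 0, 111), (119, 1, 129), (99, 0, 116), (58, 124, 74), (143, 4, 139), (142, 4, 134), (7, 163, 161),
   (0, 145, 151), (10, 138, 125), (149, 21, 144), (94, 161, 36), (149, 23, 135), (7, 143, 128), (138, 151, 54),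
   (131, 144, 42), (91, 120, 6), (121, 157, 54), (141, 111, 35), (103, 156, 7), (134, 164, 89), (159, 28, 58),
   (95, 7, 122), (2, 160, 140), (89, 0, 120), (150, 0, 139), (92, 0, 122), (155, 0, 161), (3, 136, 156),
   (3, 159, 143), (98, 0, 125), (4, 108, 112), (4, 123, 118), (150, 1, 154), (3, 120, 152), (4, 110, 128),
   (4, 130, 127), (3, 151, 154), (3, 125, 114), (2, 125, 129), (4, 137, 141), (3, 145, 124), (1, 155, 134),
   (2, 149, 131), (2, 134, 156), (3, 139, 160), (11, 160, 149), (1, 149, 159), (159, 2, 161), (156, 4, 151),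
   (157, 131, 0), (4, 159, 160)]

/-- The point with the given index. -/
def pt (k : ℕ) : List K4 := points.getD k []

/-- The line with the given index. -/
def ln (k : ℕ) : ℕ × ℕ × ℕ := lines.getD k (0, 0, 0)

/-- The third point of a line through `t` and `x`. -/
def third : ℕ × ℕ × ℕ → ℕ → ℕ → Option ℕ
  | (a, b, c), t, x =>
    if t = a ∧ x = b then some c else if t = b ∧ x = a then some c else
    if t = a ∧ x = c then some b else if t = c ∧ x = a then some b else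
    if t = b ∧ x = c then some a else if t = c ∧ x = b then some a else none

/-- The image of `x` under `t`, read off line `d`. -/
def img (i t x d : ℕ) : Option ℕ :=
  if hk 5 (pt t) (pt x) = .z then some x else if d < i then third (ln d) t x else none

/-- Check of the tree. -/
def treeOK : Bool :=
  decide (points.length = 165 ∧ tree.length = 160 ∧ lines.length = 160 + steps.length) &&
    (List.range 5).all (fun k => decide (hk 5 (pt k) (pt k) = .z ∧ vec 5 (pt k) ≠ fun _ => .z)) &&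
    (List.range 160).all fun i =>
      match tree.getD i (0, 0) with
      | (g, p) => decide (g < 5 ∧ p < 5 + i ∧ pt (5 + i) = refl 5 (pt g) (pt p) ∧
          hk 5 (pt p) (pt g) ≠ .z ∧ ln i = (g, p, 5 + i))

/-- Check of the derivations. -/
def stepsOK : Bool :=
  (List.range steps.length).all fun i =>
    match steps.getD i (0, 0, 0, 0, 0) with
    | (j, t, d1, d2, d3) => decide (j < 160 + i ∧ t < 165 ∧
        img (160 + i) t (ln j).1 d1 = some (ln (160 + i)).1 ∧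
        img (160 + i) t (ln j).2.1 d2 = some (ln (160 + i)).2.1 ∧
        img (160 + i) t (ln j).2.2 d3 = some (ln (160 + i)).2.2)

/-- Check of the goals. -/
def goalsOK : Bool :=
  (List.range 5).all fun g => (List.range 165).all fun p =>
    decide (hk 5 (pt g) (pt p) = .z) ||
      match (goals.getD g []).getD p 0 with
      | d => decide (d < lines.length) && (third (ln d) g p).isSome

/-- Check that the points are distinct. -/
def distinctOK : Bool :=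
  (List.range 165).all fun p => (List.range p).all fun q =>
    let r := pt q
    decide (pt p ≠ smulL 5 .o r ∧ pt p ≠ smulL 5 .w r ∧ pt p ≠ smulL 5 .w2 r) &&
      decide ((pt p).length = 5)

/-- Check that all isotropic vectors are covered. -/
def coverOK : Bool :=
  (allVecs 5).all fun x => decide (hk 5 x x ≠ .z) || decide (vec 5 x = fun _ => .z) ||
    points.any fun p => decide (x = smulL 5 .o p ∨ x = smulL 5 .w p ∨ x = smulL 5 .w2 p)

theorem tree_check : treeOK = true := by decide +kernel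

theorem steps_check : stepsOK = true := by decide +kernel

theorem goals_check : goalsOK = true := by decide +kernel

theorem distinct_check : distinctOK = true := by decide +kernel

theorem cover_check : coverOK = true := by decide +kernel

end Cfsg.Agent.ThreeTransSU.LineCert
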