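/-
The equivariant section over the transvections of SU(5,2), read off the certificate `LineCert`.

Main result (namespace `Cfsg.Agent.ThreeTransSU`): `Setup.exists_section_five`: a family of lifts `sl` of the 165
transvections, permuted by conjugation by each of the first five.
-/
import Cfsg.Agent.Lib.ThreeTransSU.LineCert

set_option autoImplicit false

namespace Cfsg.Agent.ThreeTransSU

open Cfsg.Agent.SU32 Cfsg.Agent.ThreeTransSU.GensCert Cfsg.Agent.ThreeTransSU.LineCert
open Cfsg.Agent.Unitary Cfsg.Agent.U62Cover Cfsg.Agent.ThreeTrans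

/-- Extend a list along a tree. -/
def grow {α : Type*} (f : α → α → α) (d : α) : List (ℕ × ℕ) → List α → List α
  | [], L => L
  | (g, p) :: t, L => grow f d t (L ++ [f (L.getD g d) (L.getD p d)])

theorem grow_prefix {α : Type*} (f : α → α → α) (d : α) : ∀ (t : List (ℕ × ℕ)) (L : List α) (k : ℕ),
    k < L.length → (grow f d t L).getD k d = L.getD k d
  | [], L, k, _ => rfl
  | (g, p) :: t, L, k, hk => by
    rw [grow, grow_prefix f d t _ k (by simp; omega), List.getD_append _ _ _ _ hk]

theorem grow_step {α : Type*} (f : α → α → α) (d : α) : ∀ (t : List (ℕ × ℕ)) (L : List α) (i g p : ℕ),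
    i < t.length → t.getD i (0, 0) = (g, p) → g < L.length + i → p < L.length + i →
      (grow f d t L).getD (L.length + i) d = f ((grow f d t L).getD g d) ((grow f d t L).getD p d)
  | [], L, i, g, p, hi, _, _, _ => absurd hi (Nat.not_lt_zero i)
  | (g₀, p₀) :: t, L, 0, g, p, _, hgp, hg, hp => by
    simp only [List.getD_cons_zero, Prod.mk.injEq] at hgp
    obtain ⟨rfl, rfl⟩ := hgp
    rw [Nat.add_zero] at hg hp ⊢
    rw [grow, grow_prefix f d t _ L.length (by simp), grow_prefix f d t _ g₀ (by simp; omega),
      grow_prefix f d t _ p₀ (by simp; omega), List.getD_append _ _ _ _ hg, List.getD_append _ _ _ _ hp,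
      List.getD_append_right _ _ _ _ (le_refl _), Nat.sub_self]
    rfl
  | (g₀, p₀) :: t, L, i + 1, g, p, hi, hgp, hg, hp => by
    simp only [List.getD_cons_succ] at hgp
    have h := grow_step f d t (L ++ [f (L.getD g₀ d) (L.getD p₀ d)]) i g p (by simpa using hi) hgp
      (by simp; omega) (by simp; omega)
    rw [List.length_append, List.length_singleton] at h
    rw [grow, ← h]
    congr 1
    omega

variable {G : Type*} [Group G] {F : Type*} [Field F] [Fintype F] {D : Set G}

/-- `a b a = c` for non-commuting members of `D`. -/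
structure LineRel (D : Set G) (a b c : G) : Prop where
  ha : a ∈ D
  hb : b ∈ D
  nc : ¬ Commute a b
  eq : a * b * a = c

theorem LineRel.all {D : Set G} (hD : Cfsg.IsThreeTranspositionSet D) {a b c : G} (h : LineRel D a b c) :
    a * b * a = c ∧ b * a * b = c ∧ a * c * a = b ∧ c * a * c = b ∧ b * c * b = a ∧ c * b * c = a := by
  have ha := mul_self hD h.ha
  have hb := mul_self hD h.hb
  have hbr : a * b * a = b * a * b := braid hD h.ha h.hb h.nc
  have h2 : b * a * b = c := hbr.symm.trans h.eq
  refine ⟨h.eq, h2, ?_, ?_, ?_, ?_⟩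
  · rw [← h.eq, show a * (a * b * a) * a = (a * a) * b * (a * a) by group, ha, one_mul, mul_one]
  · calc c * a * c = a * b * a * a * (b * a * b) := by nth_rewrite 1 [← h.eq]; rw [← h2]
      _ = a * (b * (a * a) * b) * a * b := by group
      _ = a * a * b := by rw [show b * (a * a) * b = 1 by rw [ha, mul_one, hb], mul_one]
      _ = b := by rw [ha, one_mul]
  · rw [← h2, show b * (b * a * b) * b = (b * b) * a * (b * b) by group, hb, one_mul, mul_one]
  · calc c * b * c = b * a * b * b * (a * b * a) := by nth_rewrite 1 [← h2]; rw [← h.eq]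
      _ = b * (a * (b * b) * a) * b * a := by group
      _ = b * b * a := by rw [show a * (b * b) * a = 1 by rw [hb, mul_one, ha], mul_one]
      _ = a := by rw [hb, one_mul]

theorem LineRel.third {D : Set G} (hD : Cfsg.IsThreeTranspositionSet D) (sl : ℕ → G) {l : ℕ × ℕ × ℕ} {t x y : ℕ}
    (h : LineRel D (sl l.1) (sl l.2.1) (sl l.2.2)) (hy : third l t x = some y) :
    sl t * sl x * sl t = sl y := by
  obtain ⟨a, b, c⟩ := l
  obtain ⟨h1, h2, h3, h4, h5, h6⟩ := h.all hD
  simp only [LineCert.third] at hy
  split_ifs at hy with e1 e2 e3 e4 e5 e6 <;> simp only [Option.some.injEq] at hy <;> subst hy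
  · rw [e1.1, e1.2]; exact h1
  · rw [e2.1, e2.2]; exact h2
  · rw [e3.1, e3.2]; exact h3
  · rw [e4.1, e4.2]; exact h4
  · rw [e5.1, e5.2]; exact h5
  · rw [e6.1, e6.2]; exact h6

namespace Setup

variable {π : G →* Cfsg.SU 5 F 2}

/-- An equivariant system of lifts over the transvections of SU(5,2). -/
theorem exists_section_five (S : Setup D π) :
    ∃ (pv : ℕ → (Fin 5 → F)) (sl : ℕ → G), (∀ k, k < 165 → S.IsLift (pv k) (sl k)) ∧
      (∀ g, g < 5 → ∀ k, k < 165 → ∃ k', k' < 165 ∧ sl g * sl k * sl g = sl k') ∧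
      (∀ k, k < 165 → sl k ∈ Subgroup.closure (sl '' {g | g < 5})) ∧
      (∀ v, Iso v → ∃ k, k < 165 ∧ ∃ c : F, c ≠ 0 ∧ v = c • pv k) ∧
      (∀ k, k < 165 → ∀ l, l < 165 → ∀ c : F, pv k = c • pv l → k = l) := by
  classical
  have hF := S.card
  have hD := S.cls.1
  let e : K4 ≃+* F := FiniteField.ringEquivOfCardEq (hF ▸ K4.card_eq)
  let pv : ℕ → (Fin 5 → F) := fun k i => e (vec 5 (pt k) i)
  have hhk : ∀ a b, hf (pv a) (pv b) = e (hk 5 (pt a) (pt b)) := fun a b => hf_map e _ _
  have hzero : ∀ {a : K4}, e a = 0 ↔ a = .z := fun {a} =>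
    ⟨fun h => e.injective (h.trans (map_zero e).symm), fun h => by rw [h]; exact map_zero e⟩
  have htc := tree_check
  simp only [treeOK, Bool.and_eq_true, decide_eq_true_eq, List.all_eq_true, List.mem_range] at htc
  obtain ⟨⟨⟨-, htl, hll⟩, hseed⟩, htree⟩ := htc
  have hseedI : ∀ g, g < 5 → Iso (pv g) := fun g hg => by
    obtain ⟨h1, h2⟩ := hseed g hg
    refine ⟨fun h => h2 (funext fun i => hzero.1 (congrFun h i)), ?_⟩
    rw [hhk]; exact hzero.2 h1
  let lift : ℕ → G := fun g => if h : Iso (pv g) then (S.exists_isLift h).choose else 1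
  let SL : List G := grow (fun a b => a * b * a) 1 tree ((List.range 5).map lift)
  let sl : ℕ → G := fun k => SL.getD k 1
  have hsl0 : ∀ g, g < 5 → sl g = lift g := fun g hg => by
    show SL.getD g 1 = _
    rw [grow_prefix _ _ _ _ _ (by simp; omega), List.getD_eq_getElem _ _ (by simp; omega)]
    simp
  -- the tree
  have htr : ∀ i, i < 160 → ∃ g p, g < 5 ∧ p < 5 + i ∧ pt (5 + i) = refl 5 (pt g) (pt p) ∧
      hk 5 (pt p) (pt g) ≠ .z ∧ ln i = (g, p, 5 + i) ∧ sl (5 + i) = sl g * sl p * sl g := by
    intro i hi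
    have h := htree i hi
    obtain ⟨g, p, hgp⟩ : ∃ g p, tree.getD i (0, 0) = (g, p) := ⟨_, _, rfl⟩
    rw [hgp] at h
    simp only [decide_eq_true_eq] at h
    obtain ⟨h1, h2, h3, h4, h5⟩ := h
    refine ⟨g, p, h1, h2, h3, h4, h5, ?_⟩
    have := grow_step (fun a b : G => a * b * a) 1 tree ((List.range 5).map lift) i g p (by omega) hgp
      (by simp; omega) (by simp; omega)
    rwa [show ((List.range 5).map lift).length = 5 by simp] at this
  have hlift : ∀ k, k < 165 → S.IsLift (pv k) (sl k) := by
    intro k
    induction k using Nat.strong_induction_on with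
    | _ k ih =>
      intro hk'
      by_cases h5 : k < 5
      · rw [hsl0 k h5]
        show S.IsLift (pv k) (if h : Iso (pv k) then (S.exists_isLift h).choose else 1)
        rw [dif_pos (hseedI k h5)]
        exact (S.exists_isLift (hseedI k h5)).choose_spec
      obtain ⟨i, rfl⟩ : ∃ i, k = 5 + i := ⟨k - 5, by omega⟩
      obtain ⟨g, p, hg, hp, hpt, -, -, hsl⟩ := htr i (by omega)
      have hLg := ih g (by omega) (by omega)
      have h := S.isLift_conj (sl g) (ih p (by omega) (by omega))
      rw [S.inv_lift hLg, hLg.2.2, act_tv hF hLg.1.2, ← hsl] at h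
      convert h using 1
      funext j
      simp only [pv, hpt, GensCert.refl, vec_ofFn, map_add, map_mul, Pi.add_apply, Pi.smul_apply, smul_eq_mul]
      rw [show hf (fun i => e (vec 5 (pt p) i)) (fun i => e (vec 5 (pt g) i)) = e (hk 5 (pt p) (pt g))
        from hhk p g]
  have hDmem : ∀ k, k < 165 → sl k ∈ D := fun k hk' => (hlift k hk').2.1
  have hnc : ∀ a, a < 165 → ∀ b, b < 165 → hk 5 (pt a) (pt b) ≠ .z → ¬ Commute (sl a) (sl b) := by
    intro a ha b hb hne hc
    have h1 := hc.map π
    rw [(hlift a ha).2.2, (hlift b hb).2.2, tv_comm_iff hF (hlift a ha).1 (hlift b hb).1] at h1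
    exact hne (hzero.1 (by rw [← hhk]; exact (hf_eq_zero_symm hF).1 h1))
  -- the lines
  have hstep := steps_check
  simp only [stepsOK, List.all_eq_true, List.mem_range] at hstep
  have hline : ∀ i, i < lines.length → (ln i).1 < 165 ∧ (ln i).2.1 < 165 ∧ (ln i).2.2 < 165 ∧
      LineRel D (sl (ln i).1) (sl (ln i).2.1) (sl (ln i).2.2) := by
    intro i
    induction i using Nat.strong_induction_on with
    | _ i ih =>
      intro hi
      by_cases h160 : i < 160
      · obtain ⟨g, p, hg, hp, -, hne, hl, hsl⟩ := htr i h160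
        rw [hl]
        refine ⟨by show g < 165; omega, by show p < 165; omega, by show 5 + i < 165; omega,
          ⟨hDmem g (by omega), hDmem p (by omega), fun hc => ?_, hsl.symm⟩⟩
        exact hnc p (by omega) g (by omega) hne hc.symm
      obtain ⟨m, rfl⟩ : ∃ m, i = 160 + m := ⟨i - 160, by omega⟩
      have hm := hstep m (by omega)
      obtain ⟨j, t, d1, d2, d3, hd⟩ : ∃ j t d1 d2 d3, steps.getD m (0, 0, 0, 0, 0) = (j, t, d1, d2, d3) :=
        ⟨_, _, _, _, _, rfl⟩
      rw [hd] at hm
      simp only [decide_eq_true_eq] at hm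
      obtain ⟨hj, ht, h1, h2, h3⟩ := hm
      obtain ⟨ja, jb, jc, hrel⟩ := ih j hj (by omega)
      have himg : ∀ x d y, x < 165 → img (160 + m) t x d = some y → y < 165 ∧ sl t * sl x * sl t = sl y := by
        intro x d y hx hy
        rw [LineCert.img] at hy
        split_ifs at hy with e0 ed
        · simp only [Option.some.injEq] at hy
          subst hy
          refine ⟨hx, ?_⟩
          have hc := S.commute_of_orth (hlift t ht) (hlift x hx) (by rw [hhk]; exact hzero.2 e0)
          rw [hc.eq, mul_assoc, mul_self hD (hDmem t ht), mul_one]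
        · obtain ⟨hA, hB, hC, hr⟩ := ih d ed (by omega)
          refine ⟨?_, hr.third hD sl hy⟩
          simp only [LineCert.third] at hy
          split_ifs at hy <;> simp only [Option.some.injEq] at hy <;> subst hy <;> assumption
      obtain ⟨na, ea⟩ := himg _ d1 _ ja h1
      obtain ⟨nb, eb⟩ := himg _ d2 _ jb h2
      obtain ⟨nc', ec⟩ := himg _ d3 _ jc h3
      have htt := mul_self hD (hDmem t ht)
      refine ⟨na, nb, nc', ⟨hDmem _ na, hDmem _ nb, fun hc => hrel.nc ?_, ?_⟩⟩
      · have hti : (sl t)⁻¹ = sl t := inv_eq_of_mul_eq_one_left htt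
        have e1 : ∀ x, sl t * (sl t * x * sl t) * sl t = x := fun x => by
          rw [show sl t * (sl t * x * sl t) * sl t = (sl t * sl t) * x * (sl t * sl t) by group, htt, one_mul,
            mul_one]
        rw [← ea, ← eb] at hc
        have h4 := hc.map (MulAut.conj (sl t)).toMonoidHom
        simp only [MulEquiv.coe_toMonoidHom, MulAut.conj_apply, hti, e1] at h4
        exact h4
      · rw [← ea, ← eb, ← ec, ← hrel.eq]
        rw [show sl t * sl (ln j).1 * sl t * (sl t * sl (ln j).2.1 * sl t) * (sl t * sl (ln j).1 * sl t)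
          = sl t * sl (ln j).1 * (sl t * sl t) * sl (ln j).2.1 * (sl t * sl t) * sl (ln j).1 * sl t by group,
          htt, mul_one, mul_one]
        group
  refine ⟨pv, sl, hlift, fun g hg k hk' => ?_, fun k => ?_, fun v hv => ?_, fun k hk' l hl c hc => ?_⟩
  · have hgc := goals_check
    simp only [goalsOK, List.all_eq_true, List.mem_range, Bool.or_eq_true, decide_eq_true_eq,
      Bool.and_eq_true] at hgc
    rcases hgc g hg k hk' with h | ⟨hd, hs⟩
    · refine ⟨k, hk', ?_⟩
      have hc := S.commute_of_orth (hlift g (by omega)) (hlift k hk') (by rw [hhk]; exact hzero.2 h)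
      rw [hc.eq, mul_assoc, mul_self hD (hDmem g (by omega)), mul_one]
    · obtain ⟨y, hy⟩ := Option.isSome_iff_exists.1 hs
      obtain ⟨hA, hB, hC, hr⟩ := hline _ hd
      refine ⟨y, ?_, hr.third hD sl hy⟩
      simp only [LineCert.third] at hy
      split_ifs at hy <;> simp only [Option.some.injEq] at hy <;> subst hy <;> assumption
  · induction k using Nat.strong_induction_on with
    | _ k ih =>
      intro hk'
      by_cases h5 : k < 5
      · exact Subgroup.subset_closure ⟨k, h5, rfl⟩
      obtain ⟨i, rfl⟩ : ∃ i, k = 5 + i := ⟨k - 5, by omega⟩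
      obtain ⟨g, p, hg, hp, -, -, -, hsl⟩ := htr i (by omega)
      rw [hsl]
      exact mul_mem (mul_mem (ih g (by omega) (by omega)) (ih p (by omega) (by omega))) (ih g (by omega) (by omega))
  · have hcv := cover_check
    simp only [coverOK, List.all_eq_true, Bool.or_eq_true, List.any_eq_true, decide_eq_true_eq] at hcv
    set y : Fin 5 → K4 := fun i => e.symm (v i) with hy
    have hve : v = fun i => e (y i) := funext fun i => (e.apply_symm_apply (v i)).symm
    rcases hcv _ (ofFn_mem 5 y) with (h | h) | ⟨p, hp, h⟩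
    · exfalso
      refine h (hzero.1 ?_)
      rw [hk, vec_ofFn, ← hf_map e, ← hve]
      exact hv.2
    · exfalso
      refine hv.1 (funext fun i => ?_)
      rw [hve]
      exact hzero.2 (congrFun ((vec_ofFn y).symm.trans h) i)
    · obtain ⟨k, hk', rfl⟩ := List.getElem_of_mem hp
      have hlen : points.length = 165 := by
        have htc := tree_check
        simp only [treeOK, Bool.and_eq_true, decide_eq_true_eq] at htc
        exact htc.1.1.1
      have hpk : pt k = points[k] := List.getD_eq_getElem _ _ hk'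
      have key : ∀ c : K4, c ≠ .z → List.ofFn y = smulL 5 c points[k] → ∃ k, k < 165 ∧ ∃ c : F, c ≠ 0 ∧
          v = c • pv k := by
        intro c hc hy'
        refine ⟨k, hlen ▸ hk', e c, fun h0 => hc (hzero.1 h0), ?_⟩
        have h1 := congrArg (vec 5) hy'
        rw [vec_ofFn, smulL, vec_ofFn] at h1
        rw [hve, h1]
        funext i
        simp [pv, hpk]
      rcases h with h | h | h
      exacts [key _ (by decide) h, key _ (by decide) h, key _ (by decide) h]
  · by_contra hne
    have hdc := distinct_check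
    simp only [distinctOK, List.all_eq_true, List.mem_range, Bool.and_eq_true, decide_eq_true_eq] at hdc
    have key : ∀ p q, p < 165 → q < p → ∀ c : F, pv p = c • pv q → False := by
      intro p q hp hq c hc
      obtain ⟨⟨n1, n2, n3⟩, hlen⟩ := hdc p hp q hq
      have hv : vec 5 (pt p) = fun i => e.symm c * vec 5 (pt q) i := funext fun i => by
        apply e.injective
        have := congrFun hc i
        simpa [pv] using this
      have hlist : pt p = smulL 5 (e.symm c) (pt q) := by
        rw [smulL, ← hv]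
        refine List.ext_getElem (by simp [hlen]) fun i h1 h2 => ?_
        rw [List.getElem_ofFn]
        exact (List.getD_eq_getElem _ _ h1).symm
      have hc0 : e.symm c ≠ .z := fun h0 => (hlift p hp).1.1 (by
        rw [hc, show c = 0 by rw [← e.apply_symm_apply c, h0]; exact map_zero e, zero_smul])
      revert hc0 hlist
      cases e.symm c <;> intro hlist hc0
      exacts [hc0 rfl, n1 hlist, n2 hlist, n3 hlist]
    rcases Nat.lt_or_ge l k with h | h
    · exact key k l hk' h c hc
    · have hc0 : c ≠ 0 := fun h0 => (hlift k hk').1.1 (by rw [hc, h0, zero_smul])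
      exact key l k hl (lt_of_le_of_ne h hne) c⁻¹ (by rw [hc, smul_smul, inv_mul_cancel₀ hc0, one_smul])

end Setup

end Cfsg.Agent.ThreeTransSU
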