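/-
A 3-transposition group over SU(5,2) splits over its kernel.

Main result (namespace `Cfsg.Agent.ThreeTransSU`): `Setup.exists_complement_five`.
-/
import Cfsg.Agent.Lib.ThreeTransSU.Kernel
import Cfsg.Agent.Lib.ThreeTransSU.LineSection
import Cfsg.Agent.Lib.ThreeTransSU.GensCert

set_option autoImplicit false

namespace Cfsg.Agent.ThreeTransSU

open Cfsg.Agent.Unitary Cfsg.Agent.U62Cover

namespace Setup

variable {G : Type*} [Group G] {F : Type*} [Field F] [Fintype F] {D : Set G}
  {π : G →* Cfsg.SU 5 F 2}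

/-- The kernel has a complement. -/
theorem exists_complement_five (S : Setup D π) [Finite G] : ∃ K : Subgroup G, π.ker.IsComplement' K := by
  classical
  have hF := S.card
  obtain ⟨pv, sl, hlift, hgen, hmem, hcover, hdist⟩ := S.exists_section_five
  set T := Subgroup.closure (sl '' {g | g < 5}) with hT
  have hconj : ∀ t ∈ T, ∀ k, k < 165 → ∃ k', k' < 165 ∧ t * sl k * t⁻¹ = sl k' := by
    intro t ht
    induction ht using Subgroup.closure_induction_left with
    | one => exact fun k hk' => ⟨k, hk', by simp⟩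
    | mul_left x hx t _ ih =>
      obtain ⟨g, hg, rfl⟩ := hx
      intro k hk'
      obtain ⟨a, ha, ea⟩ := ih k hk'
      obtain ⟨b, hb, eb⟩ := hgen g hg a ha
      refine ⟨b, hb, ?_⟩
      have hg' : g < 5 := hg
      rw [mul_inv_rev, show sl g * t * sl k * (t⁻¹ * (sl g)⁻¹) = sl g * (t * sl k * t⁻¹) * (sl g)⁻¹ by group,
        ea, S.inv_lift (hlift g (by omega)), eb]
    | inv_mul_cancel x hx t _ ih =>
      obtain ⟨g, hg, rfl⟩ := hx
      intro k hk'
      obtain ⟨a, ha, ea⟩ := ih k hk'
      obtain ⟨b, hb, eb⟩ := hgen g hg a ha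
      refine ⟨b, hb, ?_⟩
      have hg' : g < 5 := hg
      have hinv := S.inv_lift (hlift g (by omega))
      rw [mul_inv_rev, inv_inv, show (sl g)⁻¹ * t * sl k * (t⁻¹ * sl g) = (sl g)⁻¹ * (t * sl k * t⁻¹) * sl g
        by group, ea, hinv, eb]
  let idx : (Fin 5 → F) → ℕ := fun v => if h : Iso v then (hcover v h).choose else 0
  have hidx : ∀ v, Iso v → idx v < 165 ∧ ∃ c : F, c ≠ 0 ∧ v = c • pv (idx v) := fun v h => by
    simp only [idx, dif_pos h]; exact (hcover v h).choose_spec
  have huniq : ∀ v k, k < 165 → S.IsLift v (sl k) → idx v = k := by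
    intro v k hk' h
    obtain ⟨h1, c, hc0, hc⟩ := hidx v h.1
    have e := h.2.2
    rw [(hlift k hk').2.2] at e
    obtain ⟨d, -, hd⟩ := tv_inj hF (hlift k hk').1 h.1 e
    refine hdist (idx v) h1 k hk' (c⁻¹ * d) ?_
    rw [mul_smul, ← hd]
    conv_rhs => rw [hc, smul_smul, inv_mul_cancel₀ hc0, one_smul]
  have hsLift : ∀ v, Iso v → S.IsLift v (sl (idx v)) := fun v h => by
    obtain ⟨h1, c, hc0, hc⟩ := hidx v h
    have := S.isLift_smul (hlift _ h1) hc0
    rwa [← hc] at this
  let s : (Fin 5 → F) → T := fun v => if h : Iso v then ⟨sl (idx v), hmem _ (hidx v h).1⟩ else 1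
  have hs : ∀ v, Iso v → ((s v : T) : G) = sl (idx v) := fun v h => by simp only [s, dif_pos h]
  let ψ : T →* Cfsg.SU 5 F 2 := π.comp T.subtype
  have hequiv : ∀ b : T, ∀ v, Iso v → b * s v * b⁻¹ = s (act (ψ b) v) := by
    intro b v hv
    refine Subtype.ext ?_
    rw [Subgroup.coe_mul, Subgroup.coe_mul, Subgroup.coe_inv, hs v hv, hs _ (hv.act _)]
    obtain ⟨k, hk', hk''⟩ := hconj b b.2 _ (hidx v hv).1
    have h2 : S.IsLift (act (π (b : G)) v) (sl k) := hk'' ▸ S.isLift_conj (b : G) (hsLift v hv)
    rw [hk'', show idx (act (ψ b) v) = k from huniq _ k hk' h2]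
  have hψs : ∀ v, Iso v → ψ (s v) = tv hF v := fun v hv => by
    show π ((s v : T) : G) = _
    rw [hs v hv]; exact (hsLift v hv).2.2
  have hsurj : Function.Surjective ψ := by
    rw [← MonoidHom.range_eq_top, eq_top_iff, ← closure_tv hF (by norm_num : 4 ≤ 5), Subgroup.closure_le]
    rintro _ ⟨v, hv, rfl⟩
    exact ⟨s v, hψs v hv⟩
  have hgenT : Subgroup.closure {b : T | ∃ v, Iso v ∧ b = s v} = ⊤ := by
    rw [eq_top_iff]
    rintro ⟨t, ht⟩ htop
    clear htop
    induction ht using Subgroup.closure_induction with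
    | mem x hx =>
      obtain ⟨g, hg, rfl⟩ := hx
      have hg5 : g < 5 := hg
      have hL := hlift g (by omega : g < 165)
      refine Subgroup.subset_closure ⟨pv g, hL.1, Subtype.ext ?_⟩
      rw [hs _ hL.1, huniq _ g (by omega) hL]
    | one => exact one_mem _
    | mul a b ha hb iha ihb => exact mul_mem (a := (⟨a, ha⟩ : T)) (b := ⟨b, hb⟩) iha ihb
    | inv a ha iha => exact inv_mem (x := (⟨a, ha⟩ : T)) iha
  -- the five point relation
  obtain ⟨u, w, hp⟩ := S.exists_two
  have hline : ∀ ω : F, ω ^ 2 = ω + 1 → lineProd s ω u w = 1 := by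
    intro ω hω
    have hi := linePts_iso hF ω hp
    set z := lineProd s ω u w with hz
    have hzker : ψ z = 1 := by
      have ht := tv_line hF hω hp
      simp only [linePts, List.map_cons, List.map_nil, List.prod_cons, List.prod_nil, mul_one] at ht
      rw [hz, lineProd, map_mul, map_mul, map_mul, map_mul, hψs u hp.1, hψs w hp.2.1,
        hψs (u + w) (hi _ (by simp [linePts])), hψs (u + ω • w) (hi _ (by simp [linePts])),
        hψs (u + ω ^ 2 • w) (hi _ (by simp [linePts])), ← ht]
      simp only [mul_assoc]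
    have hzT : ∀ v, Iso v → Commute (s v) z := by
      intro v hv
      have h := hequiv z v hv
      rw [hzker, act_one] at h
      exact (mul_inv_eq_iff_eq_mul.1 h).symm
    have hzall : ∀ t : T, Commute t z := by
      intro t
      have ht : t ∈ Subgroup.closure {b : T | ∃ v, Iso v ∧ b = s v} := hgenT ▸ Subgroup.mem_top t
      induction ht using Subgroup.closure_induction with
      | mem x hx => obtain ⟨v, hv, rfl⟩ := hx; exact hzT v hv
      | one => exact Commute.one_left z
      | mul a b _ _ ha hb => exact ha.mul_left hb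
      | inv a _ ha => exact ha.inv_left
    have hzu : ∀ x, S.IsLift u x → Commute x (z : G) := fun x hx => by
      have key : ∀ p ∈ linePts ω u w, Commute x ((s p : T) : G) := fun p hp' => by
        rw [hs p (hi p hp')]
        exact S.commute_of_orth hx (hsLift p (hi p hp')) (linePts_orth hF ω hp hp.1.2 hp.2.2.1 p hp')
      rw [hz, lineProd, Subgroup.coe_mul, Subgroup.coe_mul, Subgroup.coe_mul, Subgroup.coe_mul]
      exact ((((key _ (by simp [linePts])).mul_right (key _ (by simp [linePts]))).mul_right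
        (key _ (by simp [linePts]))).mul_right (key _ (by simp [linePts]))).mul_right (key _ (by simp [linePts]))
    have hzD : ∀ x ∈ D, Commute x (z : G) := by
      intro x hx
      obtain ⟨v, hv⟩ := S.isLift_of_mem hx
      obtain ⟨g, hg⟩ := exists_act hF (by norm_num : 3 ≤ 5) hv.1 hp.1
      obtain ⟨t, rfl⟩ := hsurj g
      have h1 := S.isLift_conj (t : G) hv
      rw [show π (t : G) = ψ t from rfl, hg] at h1
      have h2 := hzu _ h1
      have h3 : Commute (t : G) (z : G) := congrArg Subtype.val (hzall t).eq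
      have h4 := (h3.inv_left.mul_left h2).mul_left h3
      rwa [show (t : G)⁻¹ * ((t : G) * x * (t : G)⁻¹) * (t : G) = x by group] at h4
    refine Subtype.ext ?_
    have hc : (z : G) ∈ Subgroup.center G := Subgroup.mem_center_iff.2 fun g => by
      have hle : Subgroup.closure D ≤ Subgroup.centralizer ({(z : G)} : Set G) :=
        (Subgroup.closure_le _).2 fun x hx => Subgroup.mem_centralizer_singleton_iff.2 (hzD x hx)
      exact Subgroup.mem_centralizer_singleton_iff.1 (hle (S.cls.2.2 ▸ Subgroup.mem_top g))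
    rw [S.center, Subgroup.mem_bot] at hc
    exact hc
  have E : Ext ψ s :=
    { card := hF
      five := le_refl 5
      surj := hsurj
      ker := by
        intro b
        obtain ⟨k, hk⟩ := S.ker ⟨((b : T) : G), b.2⟩
        refine ⟨k, Subtype.ext (Subtype.ext ?_)⟩
        have h := congrArg Subtype.val hk
        simpa using h
      map_s := fun v hv => hψs v hv
      sq := fun v hv => Subtype.ext (by
        rw [Subgroup.coe_mul, hs v hv, OneMemClass.coe_one]
        exact S.sq_lift (hsLift v hv))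
      smul := fun v c hv hc => Subtype.ext (by
        rw [hs v hv, hs _ (hv.smul hF hc),
          huniq (c • v) (idx v) (hidx v hv).1 (S.isLift_smul (hsLift v hv) hc)])
      equiv := hequiv
      gen := hgenT
      line := ⟨u, w, hp, hline⟩ }
  have hbot := E.ker_eq_bot ⟨2, rfl⟩ (hasGens_three hF)
  refine ⟨T, Subgroup.isComplement'_of_disjoint_and_mul_eq_univ ?_ ?_⟩
  · rw [Subgroup.disjoint_def]
    intro x hxk hxT
    have h : (⟨x, hxT⟩ : T) ∈ ψ.ker := hxk
    rw [hbot, Subgroup.mem_bot] at h
    exact congrArg Subtype.val h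
  · rw [Set.eq_univ_iff_forall]
    intro x
    obtain ⟨t, ht⟩ := hsurj (π x)
    refine ⟨x * (t : G)⁻¹, ?_, t, t.2, by simp⟩
    show π (x * (t : G)⁻¹) = 1
    rw [map_mul, map_inv, show π (t : G) = π x from ht, mul_inv_cancel]

end Setup

end Cfsg.Agent.ThreeTransSU
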