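/-
The setup for a group whose quotient by its 2-core is SU(n,2).

Main result (namespace `Cfsg.Agent.ThreeTransSU`): `setup_of_quotient`.
-/
import Cfsg.Agent.Lib.ThreeTransSU.Lift
import Cfsg.Agent.Lib.Cores.Basic

set_option autoImplicit false

namespace Cfsg.Agent.ThreeTransSU

/-- The projection to SU(n,2) gives a setup with kernel the 2-core. -/
theorem setup_of_quotient {G : Type*} [Group G] {F : Type*} [Field F] [Fintype F] {n : ℕ} {D : Set G}
    (hD : Cfsg.IsThreeTranspositionClass D) (hZ : Subgroup.center G = ⊥) (hn : 5 ≤ n) (hodd : Odd n)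
    (hF : Fintype.card F = 4) (e : G ⧸ Cfsg.pCore 2 G ≃* ↥(Cfsg.SU n F 2)) :
    ∃ π : G →* ↥(Cfsg.SU n F 2), Setup D π ∧ π.ker = Cfsg.pCore 2 G := by
  let π : G →* ↥(Cfsg.SU n F 2) := e.toMonoidHom.comp (QuotientGroup.mk' (Cfsg.pCore 2 G))
  have hker : π.ker = Cfsg.pCore 2 G := by
    ext x
    show e (QuotientGroup.mk x) = 1 ↔ _
    rw [map_eq_one_iff _ e.injective, QuotientGroup.eq_one_iff]
  refine ⟨π, ⟨hF, hn, hodd, hD, hZ, e.surjective.comp (QuotientGroup.mk'_surjective _), ?_⟩, hker⟩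
  rw [hker]
  exact Cfsg.Agent.Cores.isPGroup_pCore 2 G

end Cfsg.Agent.ThreeTransSU
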